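import Cfsg.Prelude.Def_Amalgam
import Cfsg.Agent.Lib.Cores.Basic
import Mathlib.GroupTheory.Sylow
import Mathlib.GroupTheory.Nilpotent
import Mathlib.GroupTheory.IsSubnormal

/-!
# Groups of characteristic `p`

Owner: helper55.

`H` has characteristic `p` when `centralizer (pCore p H) ≤ pCore p H`; for a subgroup `L` of `G` the equivalent
ambient form is `L ⊓ centralizer (pCoreOf p L) ≤ pCoreOf p L` (`charP_iff`).

* stability lemmas for elements of order prime to `p` (`commute_of_series`, `mem_centralizer_of_two_step`);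
* Thompson's A×B lemma (`commute_of_axb`);
* characteristic `p` is inherited by subnormal subgroups, by normalizers of `p`-subgroups and by subgroups containing
  `O_p`;
* basic facts on `pCoreOf` and `pResidual`.
-/

set_option autoImplicit false
set_option linter.style.haveILetI false

open Cfsg
open scoped Pointwise commutatorElement

namespace Cfsg.Agent.Lib.CharP

variable {G : Type*} [Group G] {p : ℕ}

/-! ### Elements of order prime to `p` -/

theorem eq_one_of_coprime_of_pElement {x : G} {k : ℕ} (hx : (orderOf x).Coprime p)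
    (hk : x ^ p ^ k = 1) : x = 1 :=
  orderOf_eq_one_iff.1
    (Nat.eq_one_of_dvd_coprimes (hx.pow_right k) dvd_rfl (orderOf_dvd_of_pow_eq_one hk))

theorem eq_one_of_coprime_of_mem {P : Subgroup G} (hP : IsPGroup p P) {x : G} (hxP : x ∈ P)
    (hx : (orderOf x).Coprime p) : x = 1 := by
  obtain ⟨k, hk⟩ := isPGroup_iff_pow_pow_eq_one.1 hP ⟨x, hxP⟩
  exact eq_one_of_coprime_of_pElement hx (by simpa using congrArg Subtype.val hk)

/-- Some `p`-power of each element has order prime to `p`. -/
theorem exists_pow_coprime [Finite G] [hp : Fact p.Prime] (g : G) :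
    ∃ a : ℕ, (orderOf (g ^ p ^ a)).Coprime p := by
  refine ⟨(orderOf g).factorization p, ?_⟩
  rw [orderOf_pow_of_dvd (pow_ne_zero _ hp.out.ne_zero) (Nat.ordProj_dvd _ _)]
  exact (Nat.coprime_ordCompl hp.out (orderOf_pos g).ne').symm

/-- A subgroup without nontrivial elements of order prime to `p` is a `p`-group. -/
theorem isPGroup_of_coprime_eq_one [Finite G] [Fact p.Prime] {K : Subgroup G}
    (h : ∀ g ∈ K, (orderOf g).Coprime p → g = 1) : IsPGroup p K := by
  rw [isPGroup_iff_pow_pow_eq_one]
  rintro ⟨g, hg⟩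
  obtain ⟨a, ha⟩ := exists_pow_coprime (p := p) g
  exact ⟨a, Subtype.ext (by simpa using h _ (K.pow_mem hg _) ha)⟩

/-- If `x` has order prime to `p`, `x * g * x⁻¹ = g * c` with `c` a `p`-element commuting with `x`, then
`x` commutes with `g`. -/
theorem commute_of_conj_eq {x g c : G} {k : ℕ} (hx : (orderOf x).Coprime p)
    (h : x * g * x⁻¹ = g * c) (hxc : Commute x c) (hc : c ^ p ^ k = 1) : Commute x g := by
  have key : ∀ n : ℕ, x ^ n * g * (x ^ n)⁻¹ = g * c ^ n := by
    intro n
    induction n with
    | zero => simp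
    | succ n ih =>
      calc x ^ (n + 1) * g * (x ^ (n + 1))⁻¹ = x * (x ^ n * g * (x ^ n)⁻¹) * x⁻¹ := by group
        _ = x * (g * c ^ n) * x⁻¹ := by rw [ih]
        _ = (x * g * x⁻¹) * (x * c ^ n * x⁻¹) := by group
        _ = (g * c) * c ^ n := by rw [h, (hxc.pow_right n).mul_inv_cancel]
        _ = g * c ^ (n + 1) := by rw [mul_assoc, pow_succ' c]
  have h1 := key (orderOf x)
  rw [pow_orderOf_eq_one] at h1
  have h2 : c ^ orderOf x = 1 := by simpa using h1
  have hc1 : c = 1 := orderOf_eq_one_iff.1 (Nat.eq_one_of_dvd_coprimes (hx.pow_right k)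
    (orderOf_dvd_of_pow_eq_one h2) (orderOf_dvd_of_pow_eq_one hc))
  rw [hc1, mul_one, mul_inv_eq_iff_eq_mul] at h
  exact h

theorem comm_mem_symm (U : Subgroup G) {a b : G} : ⁅a, b⁆ ∈ U ↔ ⁅b, a⁆ ∈ U := by
  rw [← commutatorElement_inv a b, inv_mem_iff]

/-- Stability: an element of order prime to `p` that centralizes a `p`-subgroup `U` and moves `g` inside `gU`
centralizes `g`. -/
theorem commute_of_comm_mem {x g : G} {U : Subgroup G} (hU : IsPGroup p U)
    (hx : (orderOf x).Coprime p) (hxU : ∀ u ∈ U, Commute x u) (h : ⁅g⁻¹, x⁆ ∈ U) :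
    Commute x g := by
  obtain ⟨k, hk⟩ := isPGroup_iff_pow_pow_eq_one.1 hU ⟨_, h⟩
  refine commute_of_conj_eq (c := ⁅g⁻¹, x⁆) (k := k) hx ?_ (hxU _ h)
    (by simpa using congrArg Subtype.val hk)
  rw [commutatorElement_def]; group

/-- Two-step stability. -/
theorem mem_centralizer_of_two_step {x : G} {V U : Subgroup G} (hU : IsPGroup p U)
    (hx : (orderOf x).Coprime p) (hVU : ∀ v ∈ V, ⁅v, x⁆ ∈ U)
    (hxU : x ∈ Subgroup.centralizer (U : Set G)) : x ∈ Subgroup.centralizer (V : Set G) := by
  rw [Subgroup.mem_centralizer_iff] at hxU ⊢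
  intro v hv
  exact (commute_of_comm_mem hU hx (fun u hu => (hxU u hu).symm) (hVU _ (inv_mem hv))).eq.symm

/-- An element of order prime to `p` acting trivially on every factor of a series in a `p`-group acts trivially. -/
theorem commute_of_series {x : G} (hx : (orderOf x).Coprime p) {n : ℕ}
    (A : Fin (n + 1) → Subgroup G) (h0 : ∀ a ∈ A 0, Commute x a)
    (hpg : ∀ i, IsPGroup p (A i)) (hstep : ∀ i : Fin n, ∀ a ∈ A i.succ, ⁅a, x⁆ ∈ A i.castSucc)
    (i : Fin (n + 1)) : ∀ a ∈ A i, Commute x a := by
  induction i using Fin.induction with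
  | zero => exact h0
  | succ i ih =>
    intro a ha
    exact commute_of_comm_mem (hpg _) hx ih (hstep i _ (inv_mem ha))

/-- Thompson's A×B lemma: if `B` is a `p`-group normalizing the `p`-group `P`, `x` has order prime to `p`,
normalizes `P`, commutes with `B` and centralizes `C_P(B)`, then `x` centralizes `P`. -/
theorem commute_of_axb [Finite G] [Fact p.Prime] {B : Subgroup G} (hB : IsPGroup p B) {x : G}
    (hx : (orderOf x).Coprime p) (hxB : ∀ b ∈ B, Commute x b) {P : Subgroup G} (hP : IsPGroup p P)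
    (hBP : B ≤ Subgroup.normalizer (P : Set G)) (hxP : x ∈ Subgroup.normalizer (P : Set G))
    (hcent : ∀ u ∈ P, (∀ b ∈ B, Commute u b) → Commute x u) : ∀ u ∈ P, Commute x u := by
  induction hn : Nat.card P using Nat.strong_induction_on generalizing P with
  | _ n ih =>
    rcases eq_or_ne P ⊥ with rfl | hne
    · intro u hu
      rw [Subgroup.mem_bot.1 hu]
      exact Commute.one_right x
    have hS : IsPGroup p (B ⊔ P : Subgroup G) := hB.to_sup_of_normal_right' hP hBP
    have hle : ⁅P, B⁆ ≤ P := Subgroup.le_normalizer_iff_commutator_le_left.1 hBP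
    have hlt : ⁅P, B⁆ < P := by
      refine lt_of_le_of_ne hle fun heq => hne ?_
      haveI := hS.isNilpotent
      obtain ⟨m, hm⟩ := (Subgroup.isNilpotent_iff_lowerCentralSeries _).1 hS.isNilpotent
      refine le_bot_iff.1 (hm ▸ ?_)
      clear hm
      induction m with
      | zero => exact le_sup_right
      | succ m ihm =>
        rw [Subgroup.lowerCentralSeries_succ]
        calc P = ⁅P, B⁆ := heq.symm
          _ ≤ _ := Subgroup.commutator_mono ihm le_sup_left
    have hxN : x ∈ Subgroup.normalizer ((⁅P, B⁆ : Subgroup G) : Set G) := by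
      rw [Subgroup.mem_normalizer_iff]
      have hmap : (⁅P, B⁆ : Subgroup G).map (MulAut.conj x).toMonoidHom = ⁅P, B⁆ := by
        rw [Subgroup.map_commutator]
        congr 1
        · exact Subgroup.mem_normalizer_iff_map_conj_eq.1 hxP
        · ext b
          simp only [Subgroup.mem_map, MulEquiv.coe_toMonoidHom, MulAut.conj_apply]
          constructor
          · rintro ⟨c, hc, rfl⟩
            rwa [(hxB c hc).mul_inv_cancel]
          · exact fun hb => ⟨b, hb, (hxB b hb).mul_inv_cancel⟩
      exact Subgroup.mem_normalizer_iff.1 (Subgroup.mem_normalizer_iff_map_conj_eq.2 hmap)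
    have h1 : ∀ u ∈ ⁅P, B⁆, Commute x u := by
      refine ih _ ?_ (hP.to_le hle) (Subgroup.normalizer_commutator_ge_right P B)
        hxN (fun u hu => hcent u (hle hu)) rfl
      rw [← hn]
      exact lt_of_le_of_ne (Nat.le_of_dvd Nat.card_pos (Subgroup.card_dvd_of_le hle))
        fun hc => hlt.ne (Subgroup.eq_of_le_of_card_ge hle hc.ge)
    intro u hu
    -- the commutator `⁅u⁻¹, x⁆` commutes with `B`
    set U : Subgroup G := P ⊓ Subgroup.centralizer (B : Set G) with hUdef
    have hxU : ∀ v ∈ U, Commute x v := fun v hv =>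
      hcent v hv.1 fun b hb => (Subgroup.mem_centralizer_iff.1 hv.2 b hb).symm
    refine commute_of_comm_mem (hP.to_le inf_le_left) hx hxU ?_
    rw [Subgroup.mem_inf]
    refine ⟨?_, ?_⟩
    · rw [commutatorElement_def]
      have : x * u * x⁻¹ ∈ P := (Subgroup.mem_normalizer_iff.1 hxP u).1 hu
      simpa [mul_assoc] using P.mul_mem (inv_mem hu) this
    · have hz : ⁅⁅Subgroup.zpowers x, P⁆, B⁆ = ⊥ := by
        refine Subgroup.commutator_commutator_eq_bot_of_rotate ?_ ?_
        · rw [Subgroup.commutator_eq_bot_iff_le_centralizer]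
          intro v hv
          rw [Subgroup.mem_centralizer_iff]
          rintro w ⟨k, rfl⟩
          exact ((h1 v hv).zpow_left k).eq
        · have : ⁅B, Subgroup.zpowers x⁆ = ⊥ := by
            rw [Subgroup.commutator_eq_bot_iff_le_centralizer]
            intro v hv
            rw [Subgroup.mem_centralizer_iff]
            rintro w ⟨k, rfl⟩
            exact ((hxB v hv).zpow_left k).eq
          rw [this, Subgroup.commutator_bot_left]
      have hc : ⁅u⁻¹, x⁆ ∈ ⁅Subgroup.zpowers x, P⁆ := by
        rw [← commutatorElement_inv, inv_mem_iff]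
        exact Subgroup.commutator_mem_commutator (Subgroup.mem_zpowers x) (inv_mem hu)
      exact Subgroup.commutator_eq_bot_iff_le_centralizer.1 hz hc

/-! ### `pCoreOf` -/

theorem pCoreOf_le (p : ℕ) (L : Subgroup G) : pCoreOf p L ≤ L :=
  Subgroup.map_subtype_le _

theorem isPGroup_pCoreOf [Finite G] (p : ℕ) (L : Subgroup G) : IsPGroup p (pCoreOf p L) :=
  (Cores.pCore_isPGroup p).map _

theorem le_normalizer_pCoreOf (p : ℕ) (L : Subgroup G) :
    L ≤ Subgroup.normalizer (pCoreOf p L : Set G) := by
  have h : ((pCore p L).map L.subtype).subgroupOf L = pCore p L :=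
    Subgroup.comap_map_eq_self_of_injective L.subtype_injective _
  refine (Subgroup.normal_subgroupOf_iff_le_normalizer (pCoreOf_le p L)).1 ?_
  rw [pCoreOf, h]
  infer_instance

theorem le_pCoreOf {L N : Subgroup G} (hN : IsPGroup p N) (hNL : N ≤ L)
    (hnor : L ≤ Subgroup.normalizer (N : Set G)) : N ≤ pCoreOf p L := by
  haveI := (Subgroup.normal_subgroupOf_iff_le_normalizer hNL).2 hnor
  rw [pCoreOf, ← Subgroup.map_subgroupOf_eq_of_le hNL]
  exact Subgroup.map_mono (Cores.le_pCore hN.comap_subtype)

theorem pCoreOf_top [Finite G] (p : ℕ) : pCoreOf p (⊤ : Subgroup G) = pCore p G := by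
  rw [pCoreOf]
  exact Cores.map_pCore_equiv Subgroup.topEquiv

theorem pCoreOf_le_sylow [Finite G] [Fact p.Prime] {L : Subgroup G} {T : Sylow p G}
    (hT : (T : Subgroup G) ≤ L) : pCoreOf p L ≤ (T : Subgroup G) := by
  intro x hx
  obtain ⟨y, hy, rfl⟩ := hx
  exact Cores.pCore_le_sylow (T.subtype hT) hy

/-! ### Characteristic `p` -/

/-- Characteristic `p` for a subgroup, in ambient terms. -/
theorem charP_iff {L : Subgroup G} :
    Subgroup.centralizer (pCore p L : Set L) ≤ pCore p L ↔
      L ⊓ Subgroup.centralizer (pCoreOf p L : Set G) ≤ pCoreOf p L := by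
  constructor
  · rintro h x ⟨hxL, hxC⟩
    refine ⟨⟨x, hxL⟩, h ?_, rfl⟩
    rw [Subgroup.mem_centralizer_iff]
    exact fun y hy => Subtype.ext (Subgroup.mem_centralizer_iff.1 hxC y ⟨y, hy, rfl⟩)
  · intro h x hx
    have : (x : G) ∈ pCoreOf p L := by
      refine h ⟨x.2, Subgroup.mem_centralizer_iff.2 ?_⟩
      rintro y ⟨z, hz, rfl⟩
      exact congrArg Subtype.val (Subgroup.mem_centralizer_iff.1 hx z hz)
    obtain ⟨z, hz, hzx⟩ := this
    exact (Subtype.ext hzx : z = x) ▸ hz

/-- Criterion for characteristic `p`: no element of order prime to `p` centralizes `O_p(L)`. -/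
theorem charP_of_coprime [Finite G] [Fact p.Prime] {L : Subgroup G}
    (h : ∀ x ∈ L, (orderOf x).Coprime p → (∀ u ∈ pCoreOf p L, Commute x u) → x = 1) :
    Subgroup.centralizer (pCore p L : Set L) ≤ pCore p L := by
  refine Cores.le_pCore (isPGroup_of_coprime_eq_one fun x hx hxo => ?_)
  refine Subtype.ext (h x x.2 (by rwa [Subgroup.orderOf_coe]) ?_)
  rintro _ ⟨z, hz, rfl⟩
  exact (congrArg Subtype.val (Subgroup.mem_centralizer_iff.1 hx z hz)).symm

/-- In a group of characteristic `p`, an element of order prime to `p` centralizing `O_p` is trivial. -/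
theorem eq_one_of_charP [Finite G] [Fact p.Prime] {L : Subgroup G}
    (hL : Subgroup.centralizer (pCore p L : Set L) ≤ pCore p L) {x : G} (hxL : x ∈ L)
    (hx : (orderOf x).Coprime p) (hc : ∀ u ∈ pCoreOf p L, Commute x u) : x = 1 := by
  exact eq_one_of_coprime_of_mem (isPGroup_pCoreOf p L)
    (charP_iff.1 hL ⟨hxL, Subgroup.mem_centralizer_iff.2 fun u hu => (hc u hu).eq.symm⟩) hx

/-- A group of characteristic `p` has centre in `O_p`. -/
theorem center_le_pCore {H : Type*} [Group H]
    (hH : Subgroup.centralizer (pCore p H : Set H) ≤ pCore p H) :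
    Subgroup.center H ≤ pCore p H :=
  (Subgroup.center_le_centralizer _).trans hH

theorem inf_centralizer_self_le_pCoreOf {L : Subgroup G}
    (hL : Subgroup.centralizer (pCore p L : Set L) ≤ pCore p L) :
    L ⊓ Subgroup.centralizer (L : Set G) ≤ pCoreOf p L :=
  (inf_le_inf_left L (Subgroup.centralizer_le (pCoreOf_le p L))).trans (charP_iff.1 hL)

/-- A subgroup of a group `L` of characteristic `p` containing `O_p(L)` has characteristic `p`. -/
theorem charP_of_pCoreOf_le [Finite G] [Fact p.Prime] {L K : Subgroup G}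
    (hL : Subgroup.centralizer (pCore p L : Set L) ≤ pCore p L) (hKL : K ≤ L)
    (hOK : pCoreOf p L ≤ K) : Subgroup.centralizer (pCore p K : Set K) ≤ pCore p K := by
  refine charP_of_coprime fun x hxK hx hc => eq_one_of_charP hL (hKL hxK) hx fun u hu => hc u ?_
  exact le_pCoreOf (isPGroup_pCoreOf p L) hOK (hKL.trans (le_normalizer_pCoreOf p L)) hu

/-- In a group `L` of characteristic `p`, the normalizer of a `p`-subgroup has characteristic `p`. -/
theorem charP_normalizer [Finite G] [Fact p.Prime] {L R : Subgroup G}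
    (hL : Subgroup.centralizer (pCore p L : Set L) ≤ pCore p L) (hRL : R ≤ L) (hR : IsPGroup p R) :
    Subgroup.centralizer (pCore p ↥(L ⊓ Subgroup.normalizer (R : Set G)) :
        Set ↥(L ⊓ Subgroup.normalizer (R : Set G))) ≤
      pCore p ↥(L ⊓ Subgroup.normalizer (R : Set G)) := by
  set N := L ⊓ Subgroup.normalizer (R : Set G) with hN
  refine charP_of_coprime fun x hxN hx hc => ?_
  have hRc : R ≤ pCoreOf p N :=
    le_pCoreOf hR (le_inf hRL Subgroup.le_normalizer) inf_le_right
  refine eq_one_of_charP hL hxN.1 hx ?_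
  refine commute_of_axb hR hx (fun b hb => hc b (hRc hb)) (isPGroup_pCoreOf p L)
    (hRL.trans (le_normalizer_pCoreOf p L)) (le_normalizer_pCoreOf p L hxN.1) ?_
  intro u hu hub
  refine hc u (le_pCoreOf ((isPGroup_pCoreOf p L).to_le inf_le_left)
    (N := pCoreOf p L ⊓ N) inf_le_right ?_ ?_)
  · intro y hy
    rw [Subgroup.mem_normalizer_iff]
    intro z
    have h1 := Subgroup.mem_normalizer_iff.1 (le_normalizer_pCoreOf p L hy.1) z
    have h2 := Subgroup.mem_normalizer_iff.1 (Subgroup.le_normalizer hy : y ∈ Subgroup.normalizer (N : Set G)) z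
    simp only [Subgroup.mem_inf, SetLike.mem_coe] at *
    tauto
  · refine ⟨hu, pCoreOf_le p L hu, ?_⟩
    refine Subgroup.mem_normalizer_iff.2 fun z => ?_
    constructor
    · intro hz
      rwa [(hub z hz).mul_inv_cancel]
    · intro hz
      have := (hub _ hz).inv_left.mul_inv_cancel
      have h1 : u⁻¹ * (u * z * u⁻¹) * u⁻¹⁻¹ = z := by group
      rw [h1] at this
      rwa [← this] at hz

/-- Characteristic `p` passes to normal subgroups (ambient form). -/
theorem charP_of_normal_le [Finite G] [Fact p.Prime] {L K : Subgroup G}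
    (hL : Subgroup.centralizer (pCore p L : Set L) ≤ pCore p L) (hKL : K ≤ L)
    (hn : L ≤ Subgroup.normalizer (K : Set G)) :
    Subgroup.centralizer (pCore p K : Set K) ≤ pCore p K := by
  refine charP_of_coprime fun x hxK hx hc => eq_one_of_charP hL (hKL hxK) hx fun u hu => ?_
  have hle : pCoreOf p L ⊓ K ≤ pCoreOf p K :=
    le_pCoreOf ((isPGroup_pCoreOf p L).to_le inf_le_left) inf_le_right
      (le_trans (le_inf (hKL.trans (le_normalizer_pCoreOf p L)) Subgroup.le_normalizer)
        Subgroup.inf_normalizer_le_normalizer_inf)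
  refine commute_of_comm_mem (U := pCoreOf p L ⊓ K) ((isPGroup_pCoreOf p L).to_le inf_le_left) hx
    (fun v hv => hc v (hle hv)) ⟨?_, ?_⟩
  · have h := (Subgroup.mem_normalizer_iff.1 (le_normalizer_pCoreOf p L (hKL hxK)) u).1 hu
    rw [commutatorElement_def]
    simpa [mul_assoc] using mul_mem (inv_mem hu) h
  · have h := (Subgroup.mem_normalizer_iff.1 (hn (inv_mem (pCoreOf_le p L hu))) x).1 hxK
    rw [commutatorElement_def]
    simpa [mul_assoc] using mul_mem h (inv_mem hxK)

/-- Characteristic `p` passes to subnormal subgroups. -/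
theorem charP_of_isSubnormal [Finite G] [Fact p.Prime]
    (hG : Subgroup.centralizer (pCore p G : Set G) ≤ pCore p G) {K : Subgroup G}
    (hK : K.IsSubnormal) : Subgroup.centralizer (pCore p K : Set K) ≤ pCore p K := by
  induction hK with
  | top =>
    refine charP_of_coprime fun x _ hx hc => ?_
    refine eq_one_of_coprime_of_mem (Cores.pCore_isPGroup p) (hG ?_) hx
    rw [Subgroup.mem_centralizer_iff]
    exact fun u hu => (hc u (by rwa [pCoreOf_top])).eq.symm
  | step H K hle _ hN ih =>
    exact charP_of_normal_le ih hle ((Subgroup.normal_subgroupOf_iff_le_normalizer hle).1 hN)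

/-! ### `O^p` -/

theorem mem_pResidual {g : G} (hg : (orderOf g).Coprime p) : g ∈ pResidual p G :=
  Subgroup.subset_closure (show Nat.Coprime (orderOf g) p from hg)

theorem map_pResidual_le {G' : Type*} [Group G'] (f : G →* G') :
    (pResidual p G).map f ≤ pResidual p G' := by
  rw [pResidual, MonoidHom.map_closure, Subgroup.closure_le]
  rintro _ ⟨g, hg, rfl⟩
  exact mem_pResidual (Nat.Coprime.coprime_dvd_left (orderOf_map_dvd f g) hg)

instance pResidual_normal (p : ℕ) : (pResidual p G).Normal := by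
  refine ⟨fun n hn g => ?_⟩
  exact map_pResidual_le (MulAut.conj g).toMonoidHom ⟨n, hn, rfl⟩

theorem map_pResidual_equiv {G' : Type*} [Group G'] (e : G ≃* G') :
    (pResidual p G).map e.toMonoidHom = pResidual p G' := by
  refine le_antisymm (map_pResidual_le _) fun x hx => ⟨e.symm x, ?_, by simp⟩
  exact map_pResidual_le e.symm.toMonoidHom ⟨x, hx, rfl⟩

instance pResidual_characteristic (p : ℕ) : (pResidual p G).Characteristic :=
  Subgroup.characteristic_iff_map_eq.2 fun e => map_pResidual_equiv e

theorem isPGroup_quotient_pResidual [Finite G] [Fact p.Prime] :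
    IsPGroup p (G ⧸ pResidual p G) := by
  rw [isPGroup_iff_pow_pow_eq_one]
  intro q
  obtain ⟨g, rfl⟩ := QuotientGroup.mk_surjective q
  obtain ⟨a, ha⟩ := exists_pow_coprime (p := p) g
  exact ⟨a, by rw [← QuotientGroup.mk_pow, QuotientGroup.eq_one_iff]; exact mem_pResidual ha⟩

/-- `O^p(G)` lies in every normal subgroup with `p`-group quotient. -/
theorem pResidual_le_of_isPGroup_quotient {N : Subgroup G} [N.Normal] (h : IsPGroup p (G ⧸ N)) :
    pResidual p G ≤ N := by
  rw [pResidual, Subgroup.closure_le]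
  intro g hg
  obtain ⟨k, hk⟩ := isPGroup_iff_pow_pow_eq_one.1 h (QuotientGroup.mk g)
  exact (QuotientGroup.eq_one_iff g).1 (eq_one_of_coprime_of_pElement
    (Nat.Coprime.coprime_dvd_left (orderOf_map_dvd (QuotientGroup.mk' N) g) hg) hk)

theorem pResidual_eq_bot_of_isPGroup (h : IsPGroup p G) : pResidual p G = ⊥ := by
  refine le_bot_iff.1 ((Subgroup.closure_le _).2 fun g hg => ?_)
  obtain ⟨k, hk⟩ := isPGroup_iff_pow_pow_eq_one.1 h g
  exact eq_one_of_coprime_of_pElement hg hk

/-- `T O^p(G) = G` for a Sylow subgroup `T`. -/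
theorem sylow_sup_pResidual [Finite G] [Fact p.Prime] (T : Sylow p G) :
    (T : Subgroup G) ⊔ pResidual p G = ⊤ := by
  have h : (T : Subgroup G).map (QuotientGroup.mk' (pResidual p G)) = ⊤ := by
    rw [← Sylow.coe_mapSurjective (QuotientGroup.mk'_surjective _) T]
    have hP : IsPGroup p (G ⧸ pResidual p G) := isPGroup_quotient_pResidual
    exact (T.mapSurjective (QuotientGroup.mk'_surjective _)).is_maximal' (hP.to_subgroup ⊤) le_top |>.symm
  rw [← QuotientGroup.ker_mk' (pResidual p G), ← Subgroup.comap_map_eq, h, Subgroup.comap_top]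

/-- The image of `O^p(L)` in the ambient group is generated by the elements of `L` of order prime to `p`. -/
theorem map_pResidual_subtype (L : Subgroup G) :
    (pResidual p L).map L.subtype = Subgroup.closure {g | g ∈ L ∧ (orderOf g).Coprime p} := by
  rw [pResidual, MonoidHom.map_closure]
  congr 1
  ext g
  simp only [Set.mem_image, Set.mem_setOf_eq, Subgroup.coe_subtype]
  constructor
  · rintro ⟨x, hx, rfl⟩; exact ⟨x.2, by rwa [Subgroup.orderOf_coe]⟩
  · rintro ⟨hg, h⟩; exact ⟨⟨g, hg⟩, by rwa [Subgroup.orderOf_mk], rfl⟩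

theorem map_pResidual_subtype_mono {K L : Subgroup G} (h : K ≤ L) :
    (pResidual p K).map K.subtype ≤ (pResidual p L).map L.subtype := by
  rw [map_pResidual_subtype, map_pResidual_subtype]
  exact Subgroup.closure_mono fun g hg => ⟨h hg.1, hg.2⟩

theorem le_normalizer_map_pResidual (L : Subgroup G) :
    L ≤ Subgroup.normalizer (((pResidual p L).map L.subtype : Subgroup G) : Set G) := by
  refine (Subgroup.normal_subgroupOf_iff_le_normalizer (Subgroup.map_subtype_le _)).1 ?_
  rw [show ((pResidual p L).map L.subtype).subgroupOf L = pResidual p L from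
    Subgroup.comap_map_eq_self_of_injective L.subtype_injective _]
  infer_instance

/-- If `B ⊴ B'` with `p`-group quotient, then `O^p(B') = O^p(B)` inside the ambient group. -/
theorem map_pResidual_eq_of_normal [Finite G] [Fact p.Prime] {B B' : Subgroup G} (hle : B ≤ B')
    [(B.subgroupOf B').Normal] (hq : IsPGroup p (B' ⧸ B.subgroupOf B')) :
    (pResidual p B').map B'.subtype = (pResidual p B).map B.subtype := by
  refine le_antisymm ?_ (map_pResidual_subtype_mono hle)
  rw [map_pResidual_subtype, map_pResidual_subtype]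
  refine Subgroup.closure_mono fun g hg => ⟨?_, hg.2⟩
  have : (⟨g, hg.1⟩ : B') ∈ B.subgroupOf B' :=
    pResidual_le_of_isPGroup_quotient hq (mem_pResidual (by rw [Subgroup.orderOf_mk]; exact hg.2))
  exact this

/-- `O^p(O^p(G)) = O^p(G)`. -/
theorem map_pResidual_pResidual [Finite G] [Fact p.Prime] :
    (pResidual p ↥(pResidual p G)).map (pResidual p G).subtype = pResidual p G := by
  rw [map_pResidual_subtype]
  conv_rhs => rw [pResidual]
  congr 1
  ext g
  exact ⟨fun h => h.2, fun h => ⟨mem_pResidual h, h⟩⟩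

end Cfsg.Agent.Lib.CharP
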