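import Cfsg.Agent.Lib.CharP.PReduced

/-!
# Subgroups containing a Sylow subgroup

Owner: helper55.

`T ⊓ C` is Sylow in `C` when `T ≤ N(C)`, the Frattini argument in that form, transfer of `p`-reducedness between
subgroups with the same action, the averaging lemma `V ∩ C(T) ≤ C_V(L)[V,L]`.
-/

set_option autoImplicit false
set_option linter.style.haveILetI false

open Cfsg
open scoped Pointwise commutatorElement IsMulCommutative

namespace Cfsg.Agent.Lib.CharP

variable {G : Type*} [Group G] {p : ℕ}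

/-- `T ⊓ C` is a Sylow subgroup of `C` when the Sylow subgroup `T` of `G` normalizes `C`. -/
theorem exists_sylow_inf [Finite G] [Fact p.Prime] (T : Sylow p G) {C : Subgroup G}
    (hTC : (T : Subgroup G) ≤ Subgroup.normalizer (C : Set G)) :
    ∃ P : Sylow p C, (P : Subgroup C) = ((T : Subgroup G) ⊓ C).subgroupOf C := by
  set D := ((T : Subgroup G) ⊓ C).subgroupOf C with hD
  have hDp : IsPGroup p D := (T.isPGroup'.to_le inf_le_left).comap_subtype
  obtain ⟨P, hP⟩ := hDp.exists_le_sylow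
  refine ⟨P, le_antisymm ?_ hP⟩
  set N := Subgroup.normalizer (C : Set G) with hN
  have hCN : C ≤ N := Subgroup.le_normalizer
  let Tn : Sylow p N := T.subtype hTC
  have hp1 : IsPGroup p (((P : Subgroup C).map C.subtype).subgroupOf N) :=
    (P.isPGroup'.map _).comap_subtype
  obtain ⟨Q, hQ⟩ := hp1.exists_le_sylow
  obtain ⟨n, hn⟩ := MulAction.exists_smul_eq N Q Tn
  have hle : ((P : Subgroup C).map C.subtype).map (MulAut.conj (n : G)).toMonoidHom ≤
      (T : Subgroup G) ⊓ C := by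
    rintro _ ⟨_, ⟨x, hx, rfl⟩, rfl⟩
    refine ⟨?_, (Subgroup.mem_normalizer_iff.1 n.2 x).1 x.2⟩
    have hxN : (⟨x, hCN x.2⟩ : N) ∈ Q := hQ (show (x : G) ∈ (P : Subgroup C).map C.subtype from ⟨x, hx, rfl⟩)
    have : n * ⟨x, hCN x.2⟩ * n⁻¹ ∈ Tn := by
      rw [← hn]
      exact ⟨⟨x, hCN x.2⟩, hxN, rfl⟩
    exact this
  have hcard : Nat.card (P : Subgroup C) ≤ Nat.card D := by
    have h1 := Subgroup.card_le_of_le hle
    rw [Subgroup.card_map_of_injective (MulAut.conj (n : G)).injective,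
      Subgroup.card_map_of_injective C.subtype_injective] at h1
    rwa [hD, Nat.card_congr (Subgroup.subgroupOfEquivOfLe
      (inf_le_right : (T : Subgroup G) ⊓ C ≤ C)).toEquiv]
  exact (Subgroup.eq_of_le_of_card_ge hP hcard).ge

/-- Frattini argument for `T ⊓ C`. -/
theorem exists_mul_mem_normalizer [Finite G] [Fact p.Prime] (T : Sylow p G) {C : Subgroup G}
    (hTC : (T : Subgroup G) ≤ Subgroup.normalizer (C : Set G)) {m : G}
    (hm : m ∈ Subgroup.normalizer (C : Set G)) :
    ∃ c ∈ C, c * m ∈ Subgroup.normalizer (((T : Subgroup G) ⊓ C : Subgroup G) : Set G) := by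
  obtain ⟨P, hP⟩ := exists_sylow_inf T hTC
  haveI : (C.subgroupOf (Subgroup.normalizer (C : Set G))).Normal := Subgroup.normal_in_normalizer
  set D := (T : Subgroup G) ⊓ C with hD
  -- the conjugate of `D` by `m` is again a Sylow subgroup of `C`
  have hmC : (C.map (MulAut.conj m).toMonoidHom) = C := Subgroup.mem_normalizer_iff_map_conj_eq.1 hm
  have hle : D.map (MulAut.conj m).toMonoidHom ≤ C := (Subgroup.map_mono inf_le_right).trans hmC.le
  have hp1 : IsPGroup p ((D.map (MulAut.conj m).toMonoidHom).subgroupOf C) :=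
    ((T.isPGroup'.to_le inf_le_left).map _).comap_subtype
  obtain ⟨Q, hQ⟩ := hp1.exists_le_sylow
  obtain ⟨c, hc⟩ := MulAction.exists_smul_eq C Q P
  refine ⟨c, c.2, ?_⟩
  rw [Subgroup.mem_normalizer_iff_map_conj_eq]
  have hsub : D.map (MulAut.conj ((c : G) * m)).toMonoidHom ≤ D := by
    rintro _ ⟨x, hx, rfl⟩
    have hxm : m * x * m⁻¹ ∈ C := hle ⟨x, hx, rfl⟩
    have hxQ : (⟨m * x * m⁻¹, hxm⟩ : C) ∈ Q := hQ (show m * x * m⁻¹ ∈ D.map _ from ⟨x, hx, rfl⟩)
    have h2 : c * ⟨m * x * m⁻¹, hxm⟩ * c⁻¹ ∈ P := by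
      rw [← hc]
      exact ⟨_, hxQ, rfl⟩
    have h2' : c * ⟨m * x * m⁻¹, hxm⟩ * c⁻¹ ∈ (P : Subgroup C) := h2
    rw [hP] at h2'
    have h3 : (c : G) * (m * x * m⁻¹) * (c : G)⁻¹ ∈ D := h2'
    simpa [mul_assoc] using h3
  exact Subgroup.eq_of_le_of_card_ge hsub
    (Subgroup.card_map_of_injective (MulAut.conj ((c : G) * m)).injective).ge

/-- A subgroup `K` normalized by the Sylow subgroup `T` is contained in `W` as soon as `T ⊓ K` and all elements of
order prime to `p` of `K` are. -/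
theorem le_of_inf_sylow_of_coprime [Finite G] [Fact p.Prime] (T : Sylow p G) {K W : Subgroup G}
    (hTK : (T : Subgroup G) ≤ Subgroup.normalizer (K : Set G)) (hT : (T : Subgroup G) ⊓ K ≤ W)
    (hcop : ∀ g ∈ K, (orderOf g).Coprime p → g ∈ W) : K ≤ W := by
  obtain ⟨P, hP⟩ := exists_sylow_inf T hTK
  have htop := sylow_sup_pResidual P
  intro k hk
  have hle : (⊤ : Subgroup K) ≤ W.subgroupOf K := by
    rw [← htop]
    refine sup_le (fun x hx => ?_) ((Subgroup.closure_le _).2 fun x hx => ?_)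
    · rw [hP] at hx; exact hT hx
    · exact hcop x x.2 (by rwa [Subgroup.orderOf_coe])
  exact hle (Subgroup.mem_top (⟨k, hk⟩ : K))

theorem mem_of_pow_mem_of_coprime {g : G} {a : ℕ} (hg : (orderOf g).Coprime p) {C : Subgroup G}
    (h : g ^ p ^ a ∈ C) : g ∈ C := by
  obtain ⟨m, hm⟩ := exists_pow_eq_self_of_coprime ((hg.pow_right a).symm)
  exact hm ▸ C.pow_mem h m

theorem mul_pow_mem_of_normalizes {C : Subgroup G} {k c : G}
    (hk : k ∈ Subgroup.normalizer (C : Set G)) (hc : c ∈ C) (n : ℕ) :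
    (k * c) ^ n * (k ^ n)⁻¹ ∈ C := by
  induction n with
  | zero => simp
  | succ n ih =>
    have := (Subgroup.mem_normalizer_iff.1 hk _).1 (C.mul_mem hc ih)
    convert this using 1
    rw [pow_succ' (k * c), pow_succ' k, mul_inv_rev]
    simp [mul_assoc]

theorem le_normalizer_centralizer {V L : Subgroup G} (hV : L ≤ Subgroup.normalizer (V : Set G)) :
    L ≤ Subgroup.normalizer (Subgroup.centralizer (V : Set G) : Set G) := by
  intro l hl
  have key : ∀ (l' c' : G), l' ∈ L → c' ∈ Subgroup.centralizer (V : Set G) →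
      l' * c' * l'⁻¹ ∈ Subgroup.centralizer (V : Set G) := by
    intro l' c' hl' hc
    rw [Subgroup.mem_centralizer_iff] at hc ⊢
    intro v hv
    have h1 : l'⁻¹ * v * l' ∈ V := by
      have := (Subgroup.mem_normalizer_iff.1 (hV (inv_mem hl')) v).1 hv
      rwa [inv_inv] at this
    have := congrArg (fun t => l' * t * l'⁻¹) (hc _ h1)
    simpa [mul_assoc] using this
  refine Subgroup.mem_normalizer_iff.2 fun c => ⟨key l c hl, fun h => ?_⟩
  have := key l⁻¹ _ (inv_mem hl) h
  simpa [mul_assoc] using this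

/-- `p`-reducedness only depends on the induced group of automorphisms. -/
theorem IsPRed.transfer [Finite G] [Fact p.Prime] {L L' V : Subgroup G} (h : IsPRed p L V)
    (heq : L' ⊔ Subgroup.centralizer (V : Set G) = L ⊔ Subgroup.centralizer (V : Set G)) (hV : V ≤ L') :
    IsPRed p L' V := by
  set C := Subgroup.centralizer (V : Set G) with hC
  have hCN : C ≤ Subgroup.normalizer (V : Set G) := fun c hc => by
    rw [Subgroup.mem_normalizer_iff_map_conj_eq]
    ext v
    constructor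
    · rintro ⟨w, hw, rfl⟩
      simpa [← Subgroup.mem_centralizer_iff.1 hc w hw] using hw
    · intro hv
      exact ⟨v, hv, by simp [← Subgroup.mem_centralizer_iff.1 hc v hv]⟩
  have hN : L' ≤ Subgroup.normalizer (V : Set G) :=
    (le_sup_left.trans heq.le).trans (sup_le h.le_normalizer hCN)
  refine ⟨hV, hN, h.elemAb, fun K hK hn hcop => ?_⟩
  -- transport `K` into `L`
  have hKC : K ≤ Subgroup.normalizer (C : Set G) := hK.trans (le_normalizer_centralizer hN)
  have hLnor : L ≤ Subgroup.normalizer ((K ⊔ C : Subgroup G) : Set G) := by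
    refine le_trans (le_sup_left.trans heq.ge) (sup_le ?_ ((le_sup_right).trans Subgroup.le_normalizer))
    intro l hl
    rw [Subgroup.mem_normalizer_iff_map_conj_eq, Subgroup.map_sup,
      Subgroup.mem_normalizer_iff_map_conj_eq.1 (hn hl),
      Subgroup.mem_normalizer_iff_map_conj_eq.1 (le_normalizer_centralizer hN hl)]
  have hKL : (K ⊔ C) ⊓ L ≤ C := by
    refine h.2.2.2 _ inf_le_right
      (le_trans (le_inf hLnor Subgroup.le_normalizer) Subgroup.inf_normalizer_le_normalizer_inf) ?_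
    intro g hg hgo
    obtain ⟨k, hk, c, hc, rfl⟩ : ∃ k ∈ K, ∃ c ∈ C, g = k * c := by
      have : g ∈ K ⊔ C := hg.1
      rw [← SetLike.mem_coe, Subgroup.coe_mul_of_left_le_normalizer_right K C hKC] at this
      obtain ⟨k, hk, c, hc, rfl⟩ := this
      exact ⟨k, hk, c, hc, rfl⟩
    obtain ⟨a, ha⟩ := exists_pow_coprime (p := p) k
    have h1 := mul_pow_mem_of_normalizes (hKC hk) hc (p ^ a)
    have h2 : k ^ p ^ a ∈ C := hcop _ (K.pow_mem hk _) ha
    exact mem_of_pow_mem_of_coprime hgo (a := a) (by simpa using C.mul_mem h1 h2)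
  intro k hk
  have hk' : k ∈ L ⊔ C := heq.le (Subgroup.mem_sup_left (hK hk))
  rw [← SetLike.mem_coe, Subgroup.coe_mul_of_left_le_normalizer_right L C
    (le_normalizer_centralizer h.le_normalizer)] at hk'
  obtain ⟨l, hl, c, hc, rfl⟩ := hk'
  refine C.mul_mem (hKL ⟨?_, hl⟩) hc
  have h1 : l * c ∈ K ⊔ C := Subgroup.mem_sup_left hk
  have h2 : c ∈ K ⊔ C := Subgroup.mem_sup_right hc
  simpa [SetLike.mem_coe] using (K ⊔ C).mul_mem h1 (inv_mem h2)

theorem commute_of_prod_subtype {V : Subgroup G} (h : ∀ a ∈ V, ∀ b ∈ V, Commute a b) :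
    IsMulCommutative V :=
  ⟨⟨fun a b => Subtype.ext (h a a.2 b b.2)⟩⟩

/-- Averaging: if `T ≤ L` is a Sylow subgroup of `G` and `V` is elementary abelian and normalized by `L`, then the
elements of `V` centralized by `T` lie in `C_V(L)[V,L]`. -/
theorem mem_centralizer_sup_commutator [Finite G] [hp : Fact p.Prime] (T : Sylow p G)
    {L V : Subgroup G} (hTL : (T : Subgroup G) ≤ L) (hV : IsElementaryAbelian p V)
    (hLV : L ≤ Subgroup.normalizer (V : Set G)) {z : G} (hz : z ∈ V)
    (hzT : ∀ t ∈ (T : Subgroup G), Commute t z) :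
    z ∈ (V ⊓ Subgroup.centralizer (L : Set G)) ⊔ ⁅V, L⁆ := by
  classical
  haveI : IsMulCommutative V := hV.1
  let P : Subgroup L := (T : Subgroup G).subgroupOf L
  let c : L → V := fun l => ⟨(l : G) * z * (l : G)⁻¹, (Subgroup.mem_normalizer_iff.1 (hLV l.2) z).1 hz⟩
  have hc : ∀ a b : L, a⁻¹ * b ∈ P → c a = c b := by
    intro a b hab
    refine Subtype.ext ?_
    have h1 : Commute ((a : G)⁻¹ * b) z := hzT _ hab
    change (a : G) * z * (a : G)⁻¹ = (b : G) * z * (b : G)⁻¹
    have h2 : ((a : G)⁻¹ * b) * z * ((a : G)⁻¹ * b)⁻¹ = z := h1.mul_inv_cancel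
    calc (a : G) * z * (a : G)⁻¹ = (a : G) * (((a : G)⁻¹ * b) * z * ((a : G)⁻¹ * b)⁻¹) * (a : G)⁻¹ := by
            rw [h2]
      _ = _ := by group
  let f : L ⧸ P → V := fun q => Quotient.liftOn' q c fun a b h => hc a b (QuotientGroup.leftRel_apply.1 h)
  haveI : Fintype (L ⧸ P) := Fintype.ofFinite _
  set N : V := ∏ q, f q with hN
  set U := (V ⊓ Subgroup.centralizer (L : Set G)) ⊔ ⁅V, L⁆ with hU
  have hNU : (N : G) ∈ U := by
    refine Subgroup.mem_sup_left ⟨N.2, Subgroup.mem_centralizer_iff.2 fun l hl => ?_⟩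
    let φ : V →* V :=
      { toFun := fun v => ⟨l * v * l⁻¹, (Subgroup.mem_normalizer_iff.1 (hLV hl) v).1 v.2⟩
        map_one' := Subtype.ext (by simp)
        map_mul' := fun a b => Subtype.ext (by simp [mul_assoc]) }
    have hφ : φ N = N := by
      rw [hN, map_prod]
      refine Fintype.prod_equiv (MulAction.toPerm (⟨l, hl⟩ : L)) _ _ fun q => ?_
      induction q using QuotientGroup.induction_on with
      | H a => exact Subtype.ext (by simp [φ, f, c, mul_assoc])
    have : l * (N : G) * l⁻¹ = N := congrArg Subtype.val hφ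
    exact mul_inv_eq_iff_eq_mul.1 this
  have hmem : ((N * (⟨z, hz⟩ ^ Fintype.card (L ⧸ P))⁻¹ : V) : G) ∈ U := by
    have h1 : N * (⟨z, hz⟩ ^ Fintype.card (L ⧸ P))⁻¹ = ∏ q, (f q * (⟨z, hz⟩ : V)⁻¹) := by
      rw [Finset.prod_mul_distrib, Finset.prod_const, Finset.card_univ, inv_pow]
    rw [h1]
    refine (U.subgroupOf V).prod_mem (t := Finset.univ) fun q _ => ?_
    induction q using QuotientGroup.induction_on with
    | H a =>
      change ((a : G) * z * (a : G)⁻¹) * z⁻¹ ∈ U
      have h2 : ⁅z, (a : G)⁆⁻¹ ∈ ⁅V, L⁆ := inv_mem (Subgroup.commutator_mem_commutator hz a.2)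
      rw [commutatorElement_inv] at h2
      exact Subgroup.mem_sup_right h2
  have hpow : z ^ Fintype.card (L ⧸ P) ∈ U := by
    have := U.mul_mem (inv_mem hmem) hNU
    simpa using this
  have hn : ¬ p ∣ Fintype.card (L ⧸ P) := by
    rw [Fintype.card_eq_nat_card, ← Subgroup.index_eq_card]
    exact (T.subtype hTL).not_dvd_index
  have hzo : (orderOf z).Coprime (Fintype.card (L ⧸ P)) :=
    Nat.Coprime.coprime_dvd_left (orderOf_dvd_of_pow_eq_one ((elemAb_iff.1 hV).2 z hz))
      (hp.out.coprime_iff_not_dvd.2 hn)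
  obtain ⟨m, hm⟩ := exists_pow_eq_self_of_coprime hzo.symm
  exact hm ▸ U.pow_mem hpow m

end Cfsg.Agent.Lib.CharP

namespace Cfsg.Agent.Lib.CharP

variable {G : Type*} [Group G] {p : ℕ}

/-- `Z_L = Ω₁Z(T)[Z_L, O^p(L)]` and `[Z_L, L] = [Z_L, O^p(L)]`. -/
theorem sylowCenterClosure_eq [Finite G] [Fact p.Prime] (T : Sylow p G) {L : Subgroup G}
    (hTL : (T : Subgroup G) ≤ L)
    (hL : Subgroup.centralizer (pCore p L : Set L) ≤ pCore p L) :
    sylowCenterClosure p L =
        omegaOne p ((T : Subgroup G) ⊓ Subgroup.centralizer ((T : Subgroup G) : Set G)) ⊔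
          ⁅sylowCenterClosure p L, (pResidual p L).map L.subtype⁆ ∧
      ⁅sylowCenterClosure p L, L⁆ = ⁅sylowCenterClosure p L, (pResidual p L).map L.subtype⁆ := by
  set V := sylowCenterClosure p L with hV
  set R := (pResidual p L).map L.subtype with hR
  set W := ⁅V, R⁆ with hW
  set Z := omegaOne p ((T : Subgroup G) ⊓ Subgroup.centralizer ((T : Subgroup G) : Set G)) with hZ
  have hRL : R ≤ L := Subgroup.map_subtype_le _
  have hLV : L ≤ Subgroup.normalizer (V : Set G) := le_normalizer_sylowCenterClosure p L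
  have hLR : L ≤ Subgroup.normalizer (R : Set G) := le_normalizer_map_pResidual L
  have hZV : Z ≤ V := omegaOne_center_le_sylowCenterClosure hTL
  have hWV : W ≤ V := Subgroup.le_normalizer_iff_commutator_le_left.1 (hRL.trans hLV)
  have hLW : L ≤ Subgroup.normalizer (W : Set G) := fun l hl => by
    rw [Subgroup.mem_normalizer_iff_map_conj_eq, hW, Subgroup.map_commutator,
      Subgroup.mem_normalizer_iff_map_conj_eq.1 (hLV hl),
      Subgroup.mem_normalizer_iff_map_conj_eq.1 (hLR hl)]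
  have hLeq : ∀ l ∈ L, ∃ t ∈ (T : Subgroup G), ∃ r ∈ R, l = t * r := by
    intro l hl
    have h1 : (⟨l, hl⟩ : L) ∈ ((T.subtype hTL : Sylow p L) : Subgroup L) ⊔ pResidual p L := by
      rw [sylow_sup_pResidual]; exact Subgroup.mem_top _
    obtain ⟨t, ht, r, hr, htr⟩ := Subgroup.mem_sup_of_normal_right.1 h1
    exact ⟨t, ht, r, ⟨r, hr, rfl⟩, (congrArg Subtype.val htr).symm⟩
  have hU : L ≤ Subgroup.normalizer ((Z ⊔ W : Subgroup G) : Set G) := by
    intro l hl
    obtain ⟨t, ht, r, hr, rfl⟩ := hLeq l hl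
    refine mul_mem ?_ ?_
    · rw [Subgroup.mem_normalizer_iff_map_conj_eq, Subgroup.map_sup,
        Subgroup.mem_normalizer_iff_map_conj_eq.1 (hLW (hTL ht))]
      congr 1
      ext z
      constructor
      · rintro ⟨y, hy, rfl⟩
        simpa [((mem_omegaOne_center_iff.1 hy).2.1 t ht).eq, mul_assoc] using hy
      · intro hz
        exact ⟨z, hz, by simp [((mem_omegaOne_center_iff.1 hz).2.1 t ht).eq, mul_assoc]⟩
    · have : R ≤ Subgroup.normalizer ((Z ⊔ W : Subgroup G) : Set G) := by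
        rw [Subgroup.le_normalizer_iff_commutator_le_left]
        refine le_trans (Subgroup.commutator_mono (sup_le hZV hWV) le_rfl) le_sup_right
      exact this hr
  have hdec : V = Z ⊔ W := by
    refine le_antisymm ?_ (sup_le hZV hWV)
    conv_lhs => rw [hV, sylowCenterClosure]
    refine iSup_le fun S => ?_
    obtain ⟨g, hg⟩ := MulAction.exists_smul_eq L (T.subtype hTL) S
    have hmap : (S : Subgroup L).map L.subtype = (T : Subgroup G).map (MulAut.conj (g : G)).toMonoidHom := by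
      rw [← hg, Sylow.smul_def, Sylow.pointwise_smul_def, Subgroup.pointwise_smul_def]
      ext z
      constructor
      · rintro ⟨_, ⟨s, hs, rfl⟩, rfl⟩
        exact ⟨s, hs, rfl⟩
      · rintro ⟨s, hs, rfl⟩
        exact ⟨_, ⟨⟨s, hTL hs⟩, hs, rfl⟩, rfl⟩
    rw [hmap, ← map_omegaOne_center]
    exact (Subgroup.map_mono le_sup_left).trans (Subgroup.mem_normalizer_iff_map_conj_eq.1 (hU g.2)).le
  refine ⟨hdec, le_antisymm ?_ (Subgroup.commutator_mono le_rfl hRL)⟩
  rw [Subgroup.commutator_le]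
  intro v hv l hl
  obtain ⟨t, ht, r, hr, rfl⟩ := hLeq l hl
  rw [commutatorElement_mul_right_eq_mul_conj]
  have h1 : ⁅v, t⁆ ∈ W := by
    have hv' : v ∈ Z ⊔ W := hdec ▸ hv
    rw [← SetLike.mem_coe, Subgroup.coe_mul_of_left_le_normalizer_right Z W
      ((hZV.trans (iSup_le fun S => (omegaOne_le' _).trans
        (inf_le_left.trans (Subgroup.map_subtype_le _)))).trans hLW)] at hv'
    obtain ⟨z, hz, w, hw, rfl⟩ := hv'
    rw [commutatorElement_mul_left_eq_conj_mul,
      ((mem_omegaOne_center_iff.1 hz).2.1 t ht).symm.commutator_eq, mul_one]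
    have h2 : ⁅w, t⁆ ∈ W := by
      rw [commutatorElement_def]
      have := (Subgroup.mem_normalizer_iff.1 (hLW (hTL ht)) _).1 (inv_mem hw)
      simpa [mul_assoc] using W.mul_mem hw this
    have hzL : z ∈ L := hTL (mem_omegaOne_center_iff.1 hz).1
    exact (Subgroup.mem_normalizer_iff.1 (hLW hzL) _).1 h2
  have h3 := (Subgroup.mem_normalizer_iff.1 (hLW (hTL ht)) _).1
    (Subgroup.commutator_mem_commutator hv hr : ⁅v, r⁆ ∈ W)
  simpa [mul_assoc] using W.mul_mem h1 h3

/-- `Ω₁Z(L) ≤ Ω₁Z(T)` in characteristic `p`. -/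
theorem omegaOne_center_self_le [Finite G] [Fact p.Prime] (T : Sylow p G) {L : Subgroup G}
    (hTL : (T : Subgroup G) ≤ L)
    (hL : Subgroup.centralizer (pCore p L : Set L) ≤ pCore p L) :
    omegaOne p (L ⊓ Subgroup.centralizer (L : Set G)) ≤
      omegaOne p ((T : Subgroup G) ⊓ Subgroup.centralizer ((T : Subgroup G) : Set G)) := by
  intro z hz
  obtain ⟨h1, h2, h3⟩ := mem_omegaOne_center_iff.1 hz
  exact mem_omegaOne_center_iff.2 ⟨pCoreOf_le_sylow hTL (inf_centralizer_self_le_pCoreOf hL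
    ⟨h1, Subgroup.mem_centralizer_iff.2 fun t ht => (h2 t ht).eq⟩), fun t ht => h2 t (hTL ht), h3⟩

/-- `Z_L = Ω₁Z(L)[Z_L, O^p(L)]`. -/
theorem sylowCenterClosure_eq_center_sup [Finite G] [Fact p.Prime] (T : Sylow p G) {L : Subgroup G}
    (hTL : (T : Subgroup G) ≤ L)
    (hL : Subgroup.centralizer (pCore p L : Set L) ≤ pCore p L) :
    sylowCenterClosure p L = omegaOne p (L ⊓ Subgroup.centralizer (L : Set G)) ⊔
      ⁅sylowCenterClosure p L, (pResidual p L).map L.subtype⁆ := by
  obtain ⟨hdec, hcomm⟩ := sylowCenterClosure_eq T hTL hL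
  have hel := (sylowCenterClosure_isPRed hL).elemAb
  have hLV := le_normalizer_sylowCenterClosure p L
  refine le_antisymm ?_ (sup_le ((omegaOne_center_self_le T hTL hL).trans
    (omegaOne_center_le_sylowCenterClosure hTL))
    (Subgroup.le_normalizer_iff_commutator_le_left.1 ((Subgroup.map_subtype_le _).trans hLV)))
  refine hdec.le.trans (sup_le (fun z hz => ?_) le_sup_right)
  have hzV := omegaOne_center_le_sylowCenterClosure hTL hz
  have h := mem_centralizer_sup_commutator T hTL hel hLV hzV (mem_omegaOne_center_iff.1 hz).2.1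
  rw [hcomm] at h
  have hle : sylowCenterClosure p L ⊓ Subgroup.centralizer (L : Set G) ≤
      omegaOne p (L ⊓ Subgroup.centralizer (L : Set G)) := fun c hc => ?_
  · exact SetLike.le_def.1 (sup_le_sup_right hle _) h
  exact mem_omegaOne ⟨(sylowCenterClosure_isPRed hL).le hc.1, hc.2⟩ ((elemAb_iff.1 hel).2 c hc.1)

end Cfsg.Agent.Lib.CharP
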