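import Cfsg.Agent.Lib.CharP.Irreducible

/-!
# `Y`-minimal groups

Owner: helper55.
-/

set_option autoImplicit false
set_option linter.style.haveILetI false

open Cfsg
open scoped Pointwise commutatorElement

namespace Cfsg.Agent.Lib.CharP

variable {L : Type*} [Group L] {p : ℕ}

/-- The derived subgroup of a finite nilpotent group lies in the Frattini subgroup. -/
theorem commutator_le_frattini [Finite L] (hL : Group.IsNilpotent L) : commutator L ≤ frattini L := by
  haveI := hL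
  rw [frattini, Order.radical]
  refine le_iInf₂ fun K hK => ?_
  have hKn : K.Normal := Subgroup.NormalizerCondition.normal_of_coatom K Group.normalizerCondition_of_isNilpotent hK
  haveI := hKn
  haveI : Nontrivial (L ⧸ K) := by
    by_contra hn
    rw [not_nontrivial_iff_subsingleton, QuotientGroup.subsingleton_iff] at hn
    exact hK.1 hn
  -- a nontrivial nilpotent group without proper nontrivial subgroups above `⊥`: cyclic, hence commutative
  obtain ⟨x, hx⟩ := exists_ne (1 : L ⧸ K)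
  have hgen : Subgroup.zpowers x = ⊤ := by
    have h := Subgroup.comap_injective (QuotientGroup.mk'_surjective K) (a₁ := Subgroup.zpowers x)
      (a₂ := ⊤)
    refine h ?_
    rw [Subgroup.comap_top]
    refine hK.2 _ (lt_of_le_of_ne (fun y hy => ?_) fun he => hx ?_)
    · rw [Subgroup.mem_comap, show QuotientGroup.mk' K y = 1 from (QuotientGroup.eq_one_iff y).2 hy]
      exact one_mem _
    · obtain ⟨y, rfl⟩ := QuotientGroup.mk'_surjective K x
      have : y ∈ K := by rw [he]; exact Subgroup.mem_zpowers _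
      exact (QuotientGroup.eq_one_iff y).2 this
  refine Subgroup.Normal.quotient_commutative_iff_commutator_le.1 ⟨⟨fun a b => ?_⟩⟩
  obtain ⟨i, rfl⟩ : a ∈ Subgroup.zpowers x := hgen ▸ Subgroup.mem_top a
  obtain ⟨j, rfl⟩ : b ∈ Subgroup.zpowers x := hgen ▸ Subgroup.mem_top b
  exact zpow_mul_comm x i j

variable {L₀ Y : Subgroup L}

theorem not_le_normal_of_minimalOver (hmin : IsMinimalOver Y) {N : Subgroup L} [N.Normal] (hN : N ≠ ⊤) :
    ¬ Y ≤ N := fun h => hN (eq_top_iff.2 (hmin.1 ▸ Subgroup.normalClosure_le_normal h))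

theorem normalizer_eq_of_minimalOver (hL₀ : IsCoatom L₀) (hY : Y ≤ L₀) (hmin : IsMinimalOver Y) :
    Subgroup.normalizer (L₀ : Set L) = L₀ := by
  rcases (Subgroup.le_normalizer (H := L₀)).lt_or_eq with h | h
  · haveI : L₀.Normal := Subgroup.normalizer_eq_top_iff.1 (hL₀.2 _ h)
    exact absurd hY (not_le_normal_of_minimalOver hmin hL₀.1)
  · exact h.symm

theorem sup_conj_eq_top [Finite L] (hL₀ : IsCoatom L₀) (hY : Y ≤ L₀) (hmin : IsMinimalOver Y) {g : L}
    (hg : g ∉ L₀) : Y ⊔ Y.map (MulAut.conj g).toMonoidHom = ⊤ := by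
  by_contra hne
  have hle := IsMinimalOver.le_of_lt hmin ⟨hL₀, hY⟩ le_sup_left hne
  refine hg ?_
  rw [← normalizer_eq_of_minimalOver hL₀ hY hmin]
  refine inv_mem_iff.1 ?_
  rw [Subgroup.mem_normalizer_iff_map_conj_eq]
  obtain ⟨M', -, huniq⟩ := hmin.2
  have hco : IsCoatom (L₀.map (MulAut.conj g⁻¹).toMonoidHom) :=
    ((MulAut.conj g⁻¹).mapSubgroup).isCoatom_iff _ |>.2 hL₀
  have hY' : Y ≤ L₀.map (MulAut.conj g⁻¹).toMonoidHom := fun y hy =>
    ⟨g * y * g⁻¹, hle (Subgroup.mem_sup_right ⟨y, hy, rfl⟩), by simp [mul_assoc]⟩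
  exact (huniq _ ⟨hco, hY'⟩).trans (huniq _ ⟨hL₀, hY⟩).symm

theorem inf_conj_eq_inf_center [Finite L] (hL₀ : IsCoatom L₀) (hY : Y ≤ L₀) (hmin : IsMinimalOver Y)
    (hab : IsMulCommutative Y) {g : L} (hg : g ∉ L₀) :
    Y ⊓ Y.map (MulAut.conj g).toMonoidHom = Y ⊓ Subgroup.center L := by
  refine le_antisymm (le_inf inf_le_left ?_) (le_inf inf_le_left ?_)
  · rintro z ⟨hz, hz'⟩
    obtain ⟨a, ha, hz'⟩ := hz'
    have hle : (⊤ : Subgroup L) ≤ Subgroup.centralizer ({z} : Set L) := by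
      rw [← sup_conj_eq_top hL₀ hY hmin hg]
      refine sup_le (fun y hy => ?_) ?_
      · rw [Subgroup.mem_centralizer_singleton_iff]
        exact congrArg Subtype.val (hab.is_comm.comm ⟨y, hy⟩ ⟨z, hz⟩)
      · rintro _ ⟨y, hy, rfl⟩
        rw [Subgroup.mem_centralizer_singleton_iff, ← hz', ← map_mul, ← map_mul]
        exact congrArg _ (congrArg Subtype.val (hab.is_comm.comm ⟨y, hy⟩ ⟨a, ha⟩))
    exact Subgroup.mem_center_iff.2 fun x => Subgroup.mem_centralizer_singleton_iff.1 (hle (Subgroup.mem_top x))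
  · rintro z ⟨hz, hzc⟩
    refine ⟨z, hz, ?_⟩
    change g * z * g⁻¹ = z
    rw [Subgroup.mem_center_iff.1 hzc g, mul_inv_cancel_right]

theorem pCore_le_of_minimalOver [Finite L] [Fact p.Prime] (hL₀ : IsCoatom L₀) (hY : Y ≤ L₀)
    (hmin : IsMinimalOver Y) (hYp : IsPGroup p Y) : pCore p L ≤ L₀ := by
  have hX : IsPGroup p (Y ⊔ pCore p L : Subgroup L) :=
    hYp.to_sup_of_normal_right (Cores.pCore_isPGroup p)
  rcases eq_or_ne (Y ⊔ pCore p L) ⊤ with h | h
  · exfalso
    rw [h] at hX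
    haveI := (hX.of_equiv Subgroup.topEquiv).isNilpotent
    haveI : L₀.Normal :=
      Subgroup.NormalizerCondition.normal_of_coatom L₀ Group.normalizerCondition_of_isNilpotent hL₀
    exact not_le_normal_of_minimalOver hmin hL₀.1 hY
  · exact le_sup_right.trans (IsMinimalOver.le_of_lt hmin ⟨hL₀, hY⟩ le_sup_left h)

variable (T : Sylow p L₀)

theorem sylow_of_minimalOver [Finite L] [Fact p.Prime] (hL₀ : IsCoatom L₀)
    (hYT : Y ≤ (T : Subgroup L₀).map L₀.subtype) (hmin : IsMinimalOver Y) :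
    Subgroup.normalizer (((T : Subgroup L₀).map L₀.subtype : Subgroup L) : Set L) ≤ L₀ ∧
      ∃ P : Sylow p L, (P : Subgroup L) = (T : Subgroup L₀).map L₀.subtype := by
  set S := (T : Subgroup L₀).map L₀.subtype with hS
  have hY : Y ≤ L₀ := hYT.trans (Subgroup.map_subtype_le _)
  have hne : Subgroup.normalizer (S : Set L) ≠ ⊤ := fun h => by
    haveI : S.Normal := Subgroup.normalizer_eq_top_iff.1 h
    exact not_le_normal_of_minimalOver hmin
      (fun h' => hL₀.1 (top_le_iff.1 (h' ▸ Subgroup.map_subtype_le _))) hYT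
  have hN : Subgroup.normalizer (S : Set L) ≤ L₀ :=
    IsMinimalOver.le_of_lt hmin ⟨hL₀, hY⟩ (hYT.trans Subgroup.le_normalizer) hne
  refine ⟨hN, ?_⟩
  have hSp : IsPGroup p S := T.isPGroup'.map _
  obtain ⟨P, hP⟩ := hSp.exists_le_sylow
  refine ⟨P, le_antisymm ?_ hP⟩
  by_contra hc
  haveI := P.isPGroup'.isNilpotent
  have hlt : S.subgroupOf (P : Subgroup L) < ⊤ := lt_top_iff_ne_top.2 fun h => hc (Subgroup.subgroupOf_eq_top.1 h)
  have h1 := Group.normalizerCondition_of_isNilpotent _ hlt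
  obtain ⟨x, hx, hxS⟩ := SetLike.exists_of_lt h1
  rw [← Subgroup.subgroupOf_normalizer_eq hP] at hx
  have hxL₀ : (x : L) ∈ L₀ := hN hx
  have hzp : IsPGroup p (Subgroup.zpowers (⟨(x : L), hxL₀⟩ : L₀)) := by
    obtain ⟨k, hk⟩ := isPGroup_iff_pow_pow_eq_one.1 P.isPGroup' x
    exact pow_mem_zpowers_isPGroup (k := k) (Subtype.ext (by simpa using congrArg Subtype.val hk))
  have hTn : (⟨(x : L), hxL₀⟩ : L₀) ∈ Subgroup.normalizer ((T : Subgroup L₀) : Set L₀) := by
    rw [Subgroup.mem_normalizer_iff]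
    intro t
    have h2 := Subgroup.mem_normalizer_iff.1 (show (x : L) ∈ Subgroup.normalizer (S : Set L) from hx) t
    rw [hS] at h2
    constructor
    · intro ht
      obtain ⟨u, hu, hut⟩ := h2.1 ⟨t, ht, rfl⟩
      exact (Subtype.ext hut : u = ⟨(x : L), hxL₀⟩ * t * ⟨(x : L), hxL₀⟩⁻¹) ▸ hu
    · intro ht
      obtain ⟨u, hu, hut⟩ := h2.2 ⟨_, ht, rfl⟩
      exact (Subtype.ext hut : u = t) ▸ hu
  have hsup := T.is_maximal'
    (hzp.to_sup_of_normal_right' T.isPGroup' (Subgroup.zpowers_le.2 hTn)) le_sup_right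
  refine hxS ?_
  change (x : L) ∈ S
  exact ⟨⟨(x : L), hxL₀⟩, hsup ▸ Subgroup.mem_sup_left (Subgroup.mem_zpowers _), rfl⟩

/-- Normal subgroups inside the maximal overgroup of `Y` are `p`-closed. -/
theorem isPClosed_of_normal_le_minimalOver [Finite L] [Fact p.Prime] (hL₀ : IsCoatom L₀)
    (hYT : Y ≤ (T : Subgroup L₀).map L₀.subtype) (hmin : IsMinimalOver Y) {N : Subgroup L} [N.Normal]
    (hN : N ≤ L₀) : IsPClosed p N := by
  obtain ⟨-, P, hP⟩ := sylow_of_minimalOver T hL₀ hYT hmin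
  have hY : Y ≤ L₀ := hYT.trans (Subgroup.map_subtype_le _)
  have hPN : (P : Subgroup L) ≤ Subgroup.normalizer (N : Set L) := Subgroup.le_normalizer_of_normal
  set D := (P : Subgroup L) ⊓ N with hD
  have hPD : (P : Subgroup L) ≤ Subgroup.normalizer (D : Set L) :=
    (le_inf Subgroup.le_normalizer hPN).trans Subgroup.inf_normalizer_le_normalizer_inf
  have htop : Subgroup.normalizer (D : Set L) = ⊤ := by
    by_contra hne
    have hle := IsMinimalOver.le_of_lt hmin ⟨hL₀, hY⟩ ((hP ▸ hYT).trans hPD) hne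
    refine hL₀.1 (eq_top_iff.2 fun m _ => ?_)
    obtain ⟨c, hc, hcm⟩ := exists_mul_mem_normalizer P hPN
      (Subgroup.le_normalizer_of_normal (H := N) (Subgroup.mem_top m) : m ∈ _)
    simpa using L₀.mul_mem (inv_mem (hN hc)) (hle hcm)
  haveI : D.Normal := Subgroup.normalizer_eq_top_iff.1 htop
  obtain ⟨Q, hQ⟩ := exists_sylow_inf P hPN
  haveI : (Q : Subgroup N).Normal := by rw [hQ]; infer_instance
  intro R
  haveI := Sylow.unique_of_normal Q inferInstance
  rw [Subsingleton.elim R Q]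
  infer_instance

end Cfsg.Agent.Lib.CharP
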