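import Cfsg.Agent.Lib.CharP.FrakH
import Cfsg.Agent.Lib.CharP.MinimalOver
import Cfsg.Agent.Lib.Cores.Subnormal
import Cfsg.Agent.Lib.SubnormSet.Basic
import Cfsg.Agent.Lib.LA5.Basic

/-!
# The asymmetric L-lemma

Owner: helper55.
-/

set_option autoImplicit false
set_option linter.style.haveILetI false

open Cfsg
open scoped commutatorElement

namespace Cfsg.Agent.Lib.CharP

variable {G : Type*} [Group G] [Finite G] {p : ℕ} [hp : Fact p.Prime]

omit [Finite G] hp in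
/-- `O_p` of a larger subgroup meets a smaller one inside its `O_p`. -/
theorem pCoreOf_inf_le [Finite G] {X K : Subgroup G} (h : X ≤ K) : pCoreOf p K ⊓ X ≤ pCoreOf p X :=
  le_pCoreOf ((isPGroup_pCoreOf p K).to_le inf_le_left) inf_le_right
    (le_normalizer_inf (h.trans (le_normalizer_pCoreOf p K)) Subgroup.le_normalizer)

/-- A subgroup of `L` containing `Y`, all of whose proper overgroups in `L` have `Y` in `O_p`, is `Y`-minimal. -/
theorem isMinimalOver_of_minimal {Y L : Subgroup G} (hYL : Y ≤ L) (hY : IsPGroup p Y)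
    (hYO : ¬ Y ≤ pCoreOf p L)
    (hmin : ∀ L' : Subgroup G, L' ≤ L → Y ≤ L' → ¬ Y ≤ pCoreOf p L' → L' = L) :
    IsMinimalOver (Y.subgroupOf L) := by
  set Y' := Y.subgroupOf L with hY'
  have hncl : Subgroup.normalClosure (Y' : Set L) = ⊤ := by
    set N := Subgroup.normalClosure (Y' : Set L) with hN
    by_contra hne
    set Ng := N.map L.subtype with hNg
    have hYN : Y ≤ Ng := fun y hy => ⟨⟨y, hYL hy⟩, Subgroup.subset_normalClosure hy, rfl⟩
    have hNne : Ng ≠ L := fun h => hne (by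
      refine eq_top_iff.2 fun x _ => ?_
      obtain ⟨y, hy, hyx⟩ := (show (x : G) ∈ Ng from h.ge x.2)
      exact (Subtype.ext hyx : y = x) ▸ hy)
    have h1 : Y ≤ pCoreOf p Ng := by
      by_contra h
      exact hNne (hmin Ng (Subgroup.map_subtype_le _) hYN h)
    exact hYO (h1.trans (le_pCoreOf (isPGroup_pCoreOf p Ng)
      ((pCoreOf_le p Ng).trans (Subgroup.map_subtype_le _))
      ((le_normalizer_map_of_normal L N).trans (normalizer_le_normalizer_map_char _))))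
  refine ⟨hncl, ?_⟩
  have hsub : ∀ K : Subgroup L, K ≠ ⊤ → Y' ≤ K → (Y'.subgroupOf K).IsSubnormal := by
    intro K hK hYK
    set Kg := K.map L.subtype with hKg
    have hKne : Kg ≠ L := fun h => hK (by
      refine eq_top_iff.2 fun x _ => ?_
      obtain ⟨y, hy, hyx⟩ := (show (x : G) ∈ Kg from h.ge x.2)
      exact (Subtype.ext hyx : y = x) ▸ hy)
    have h1 : Y ≤ pCoreOf p Kg := by
      by_contra h
      exact hKne (hmin Kg (Subgroup.map_subtype_le _) (fun y hy => ⟨⟨y, hYL hy⟩, hYK hy, rfl⟩) h)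
    have h2 : Y'.subgroupOf K ≤ pCore p K := by
      intro x hx
      have hn : (((pCoreOf p Kg).subgroupOf L).subgroupOf K).Normal := by
        constructor
        intro a ha b
        exact (Subgroup.mem_normalizer_iff.1 (le_normalizer_pCoreOf p Kg
          (show ((b : L) : G) ∈ Kg from ⟨b, b.2, rfl⟩)) _).1 ha
      exact (@Cores.le_pCore _ _ _ _ hn ((isPGroup_pCoreOf p Kg).comap_subtype.comap_subtype)) (h1 hx)
    haveI := (Cores.pCore_isPGroup (G := K) p).isNilpotent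
    exact Subgroup.IsSubnormal.trans h2 (SubnormSet.isSubnormal_of_isNilpotent _)
      (Subgroup.Normal.isSubnormal inferInstance)
  have hnot : ¬ Y'.IsSubnormal := by
    intro hs
    rcases eq_or_ne Y' ⊤ with hs' | hs'
    · exact hYO (le_pCoreOf hY hYL ((Subgroup.subgroupOf_eq_top.1 hs').trans Subgroup.le_normalizer))
    · obtain ⟨N, hNn, hYN, hN⟩ := hs.lt_normal.resolve_left hs'
      exact hN.ne (eq_top_iff.2 (hncl ▸ Subgroup.normalClosure_le_normal hYN))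
  obtain ⟨M, hM, hYM, hu⟩ := Cores.Subnormal.zipper hsub hnot
  exact ⟨M, ⟨hM, hYM⟩, fun M' hM' => hu M' hM'.1 hM'.2⟩

/-- A set of commutator conditions `[u, h] ∈ B` defines a subgroup. -/
def commInto (U : Set G) (B K : Subgroup G) (hB : K ≤ Subgroup.normalizer (B : Set G)) : Subgroup G where
  carrier := {h | h ∈ K ∧ ∀ u ∈ U, ⁅u, h⁆ ∈ B}
  one_mem' := ⟨one_mem _, fun u _ => by rw [commutatorElement_one_right]; exact one_mem _⟩
  mul_mem' := fun {a b} ha hb => ⟨mul_mem ha.1 hb.1, fun u hu => by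
    rw [show ⁅u, a * b⁆ = ⁅u, a⁆ * (a * ⁅u, b⁆ * a⁻¹) by simp only [commutatorElement_def]; group]
    exact mul_mem (ha.2 u hu) ((Subgroup.mem_normalizer_iff.1 (hB ha.1) _).1 (hb.2 u hu))⟩
  inv_mem' := fun {a} ha => ⟨inv_mem ha.1, fun u hu => by
    rw [show ⁅u, a⁻¹⁆ = a⁻¹ * ⁅u, a⁆⁻¹ * a⁻¹⁻¹ by simp only [commutatorElement_def]; group]
    exact (Subgroup.mem_normalizer_iff.1 (hB (inv_mem ha.1)) _).1 (inv_mem (ha.2 u hu))⟩

omit [Finite G] hp in
theorem mem_commInto {U : Set G} {B K : Subgroup G} {hB : K ≤ Subgroup.normalizer (B : Set G)} {h : G} :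
    h ∈ commInto U B K hB ↔ h ∈ K ∧ ∀ u ∈ U, ⁅u, h⁆ ∈ B := Iff.rfl

omit [Finite G] hp in
/-- Conjugation by an element normalizing everything preserves `commInto`. -/
theorem le_normalizer_commInto {U : Set G} {B K : Subgroup G} {hB : K ≤ Subgroup.normalizer (B : Set G)} {J : Subgroup G}
    (hJU : J ≤ Subgroup.normalizer U) (hJB : J ≤ Subgroup.normalizer (B : Set G))
    (hJK : J ≤ Subgroup.normalizer (K : Set G)) :
    J ≤ Subgroup.normalizer (commInto U B K hB : Set G) := by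
  have key : ∀ j ∈ J, ∀ h ∈ commInto U B K hB, j * h * j⁻¹ ∈ commInto U B K hB := fun j hj h hh => by
    refine ⟨(Subgroup.mem_normalizer_iff.1 (hJK hj) h).1 hh.1, fun u hu => ?_⟩
    have hu' : j⁻¹ * u * j ∈ U := by
      have := (Subgroup.mem_set_normalizer_iff.1 (hJU (inv_mem hj)) u).1 hu
      rwa [inv_inv] at this
    rw [show ⁅u, j * h * j⁻¹⁆ = j * ⁅j⁻¹ * u * j, h⁆ * j⁻¹ by simp only [commutatorElement_def]; group]
    exact (Subgroup.mem_normalizer_iff.1 (hJB hj) _).1 (hh.2 _ hu')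
  intro j hj
  refine Subgroup.mem_normalizer_iff.2 fun h => ⟨key j hj h, fun hh => ?_⟩
  have := key j⁻¹ (inv_mem hj) _ hh
  simpa [mul_assoc] using this

/-- A `p`-group `W` normalizing `V ⊄ Z` has a fixed point of `V` modulo `Z` outside `Z`. -/
theorem exists_fixed_mod {V Z W : Subgroup G} (hW : IsPGroup p W) (hV : IsPGroup p V)
    (hWV : W ≤ Subgroup.normalizer (V : Set G)) (hne : ¬ V ≤ Z) :
    ∃ v ∈ V, v ∉ Z ∧ ∀ w ∈ W, ⁅v, w⁆ ∈ Z := by
  set P := V ⊔ W with hP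
  have hPp : IsPGroup p P := hV.to_sup_of_normal_left' hW hWV
  obtain ⟨n, hn⟩ := (Subgroup.isNilpotent_iff_lowerCentralSeries P).1 hPp.isNilpotent
  have hex : ∃ k, P.lowerCentralSeries k ⊓ V ≤ Z := ⟨n, by rw [hn, bot_inf_eq]; exact bot_le⟩
  classical
  have hfind := Nat.find_spec hex
  have h0 : Nat.find hex ≠ 0 := fun h => by
    rw [h, Subgroup.lowerCentralSeries_zero, inf_eq_right.2 le_sup_left] at hfind
    exact hne hfind
  obtain ⟨k, hk⟩ : ∃ k, Nat.find hex = k + 1 := ⟨Nat.find hex - 1, by omega⟩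
  have hnot : ¬ P.lowerCentralSeries k ⊓ V ≤ Z := Nat.find_min hex (by omega)
  obtain ⟨v, hv, hvZ⟩ := SetLike.not_le_iff_exists.1 hnot
  refine ⟨v, hv.2, hvZ, fun w hw => hfind ⟨?_, ?_⟩⟩
  · rw [hk, Subgroup.lowerCentralSeries_succ]
    exact Subgroup.commutator_mem_commutator hv.1 (Subgroup.mem_sup_right hw)
  · rw [commutatorElement_def, mul_assoc, mul_assoc]
    refine mul_mem hv.2 ?_
    rw [← mul_assoc]
    exact (Subgroup.mem_normalizer_iff.1 (hWV hw) _).1 (inv_mem hv.2)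

/-- The common data of the asymmetric L-lemma: `U = O_p(H)`, `Y₀ = Y ∩ U` and so on. -/
structure LData (p : ℕ) (H Y O L : Subgroup G) where
  /-- an element moving `Y` out of the unique maximal overgroup -/
  l : G
  hl : l ∈ L
  hLH : L ≤ H
  hOH : O ≤ H
  hYO : Y ≤ O
  hO : IsPGroup p O
  hab : ∀ a ∈ Y, ∀ b ∈ Y, a * b = b * a
  hOY : O ≤ Subgroup.centralizer (Y : Set G)
  hUY : pCoreOf p H ≤ Subgroup.normalizer (Y : Set G)
  hUO : pCoreOf p H ≤ Subgroup.normalizer (O : Set G)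
  hgen : Y ⊔ cj Y l = L
  hgenH : cj Y l ⊔ O = H

namespace LData

variable {H Y O L : Subgroup G} (D : LData p H Y O L)

/-- `Y₀ = Y ∩ O_p(H)`. -/
abbrev Y0 (_D : LData p H Y O L) : Subgroup G := Y ⊓ pCoreOf p H

/-- `V = Y₀ Y₀^l`. -/
abbrev V : Subgroup G := D.Y0 ⊔ cj D.Y0 D.l

/-- `U₀ = C_U(Y)`. -/
abbrev U0 (_D : LData p H Y O L) : Subgroup G := pCoreOf p H ⊓ Subgroup.centralizer (Y : Set G)

include D

omit [Finite G] hp in
theorem YL : Y ≤ L := le_sup_left.trans_eq D.hgen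

omit [Finite G] hp in
theorem lH : D.l ∈ H := D.hLH D.hl

omit [Finite G] hp in
theorem Yl_le : cj Y D.l ≤ L := le_sup_right.trans_eq D.hgen

omit [Finite G] hp in
theorem cjU : cj (pCoreOf p H) D.l = pCoreOf p H :=
  mem_normalizer_iff_cj.1 (le_normalizer_pCoreOf p H D.lH)

omit [Finite G] hp in
theorem U_le_normalizer_Yl : pCoreOf p H ≤ Subgroup.normalizer ((cj Y D.l : Subgroup G) : Set G) := by
  rw [normalizer_cj, ← D.cjU]
  exact cj_mono D.hUY _

omit [Finite G] hp in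
/-- An element centralized by `Y` and `Y^l` is centralized by `L`. -/
theorem mem_centralizer_L {a : G} (h1 : ∀ y ∈ Y, y * a = a * y) (h2 : ∀ y ∈ cj Y D.l, y * a = a * y) :
    a ∈ Subgroup.centralizer (L : Set G) := by
  have hle : L ≤ Subgroup.centralizer ({a} : Set G) := by
    rw [← D.hgen]
    exact sup_le (fun y hy => Subgroup.mem_centralizer_singleton_iff.2 (h1 y hy))
      (fun y hy => Subgroup.mem_centralizer_singleton_iff.2 (h2 y hy))
  exact Subgroup.mem_centralizer_iff.2 fun x hx => Subgroup.mem_centralizer_singleton_iff.1 (hle hx)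

omit [Finite G] hp in
theorem Yl_comm {a : G} (ha : a ∈ cj Y D.l) : ∀ y ∈ cj Y D.l, y * a = a * y := by
  obtain ⟨a', ha', rfl⟩ := ha
  rintro _ ⟨y, hy, rfl⟩
  rw [← map_mul, ← map_mul, D.hab y hy a' ha']

omit [Finite G] hp in
/-- An element of `Y^l` centralizing `Y` lies in `Y`. -/
theorem mem_Y_of_comm {b : G} (hb : b ∈ cj Y D.l) (h : ∀ y ∈ Y, y * b = b * y) :
    b ∈ Y ∧ b ∈ Subgroup.centralizer (L : Set G) := by
  have hc := D.mem_centralizer_L h (D.Yl_comm hb)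
  obtain ⟨a, ha, hab⟩ := hb
  have hab' : D.l * a * D.l⁻¹ = b := hab
  have h1 := Subgroup.mem_centralizer_iff.1 hc D.l D.hl
  have : a = b := by
    have : a = D.l⁻¹ * b * D.l := by rw [← hab']; group
    rw [this, mul_assoc, ← h1]; group
  exact ⟨this ▸ ha, hc⟩

omit [Finite G] hp in
theorem cjY0 : cj D.Y0 D.l = cj Y D.l ⊓ pCoreOf p H := by
  rw [cj, Subgroup.map_inf _ _ _ (MulAut.conj D.l).injective]
  exact congrArg _ D.cjU

omit [Finite G] hp in
theorem comm_mem_Y0 {u y : G} (hu : u ∈ pCoreOf p H) (hy : y ∈ Y) : ⁅u, y⁆ ∈ D.Y0 := by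
  refine ⟨?_, ?_⟩
  · rw [commutatorElement_def]
    exact mul_mem ((Subgroup.mem_normalizer_iff.1 (D.hUY hu) y).1 hy) (Y.inv_mem hy)
  · rw [commutatorElement_def, mul_assoc, mul_assoc]
    refine mul_mem hu ?_
    rw [← mul_assoc]
    exact (Subgroup.mem_normalizer_iff.1 (le_normalizer_pCoreOf p H (D.hLH (D.YL hy))) _).1 (inv_mem hu)

omit [Finite G] hp in
theorem comm_mem_Y0l {u y : G} (hu : u ∈ pCoreOf p H) (hy : y ∈ cj Y D.l) : ⁅u, y⁆ ∈ cj D.Y0 D.l := by
  rw [D.cjY0]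
  refine ⟨?_, ?_⟩
  · rw [commutatorElement_def]
    exact mul_mem ((Subgroup.mem_normalizer_iff.1 (D.U_le_normalizer_Yl hu) y).1 hy) ((cj Y D.l).inv_mem hy)
  · rw [commutatorElement_def, mul_assoc, mul_assoc]
    refine mul_mem hu ?_
    rw [← mul_assoc]
    exact (Subgroup.mem_normalizer_iff.1 (le_normalizer_pCoreOf p H (D.hLH (D.Yl_le hy))) _).1 (inv_mem hu)

omit [Finite G] hp in
theorem VU : D.V ≤ pCoreOf p H := sup_le inf_le_right (D.cjY0.le.trans inf_le_right)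

omit [Finite G] hp in
theorem L_le_normalizer_V : L ≤ Subgroup.normalizer (D.V : Set G) := by
  have h1 : ⁅D.V, L⁆ ≤ D.V := by
    rw [Subgroup.commutator_comm]
    refine (Subgroup.commutator_mono le_rfl le_rfl).trans ?_
    rw [Subgroup.commutator_comm, Subgroup.commutator_le]
    intro v hv x hx
    have hle : L ≤ commInto (pCoreOf p H) D.V (Subgroup.normalizer (D.V : Set G)) le_rfl := by
      refine D.hgen.ge.trans ?_
      refine sup_le (fun y hy => ⟨?_, fun u hu => Subgroup.mem_sup_left (D.comm_mem_Y0 hu hy)⟩)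
        (fun y hy => ⟨?_, fun u hu => Subgroup.mem_sup_right (D.comm_mem_Y0l hu hy)⟩)
      · refine (Subgroup.le_normalizer_iff_commutator_le_left.2 ?_ : Y ≤ _) hy
        exact Subgroup.commutator_le.2 fun v hv z hz => Subgroup.mem_sup_left (D.comm_mem_Y0 (D.VU hv) hz)
      · refine (Subgroup.le_normalizer_iff_commutator_le_left.2 ?_ : cj Y D.l ≤ _) hy
        exact Subgroup.commutator_le.2 fun v hv z hz => Subgroup.mem_sup_right (D.comm_mem_Y0l (D.VU hv) hz)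
    exact (hle hx).2 v (D.VU hv)
  exact Subgroup.le_normalizer_iff_commutator_le_left.2 h1

omit [Finite G] hp in
/-- Every element of `V` is `a b` with `a ∈ Y₀` and `b ∈ Y₀^l`. -/
theorem mem_V {v : G} (hv : v ∈ D.V) : ∃ a ∈ D.Y0, ∃ b ∈ cj D.Y0 D.l, a * b = v := by
  have hn : cj D.Y0 D.l ≤ Subgroup.normalizer ((D.Y0 : Subgroup G) : Set G) :=
    (D.cjY0.le.trans inf_le_right).trans
      (le_trans (le_inf D.hUY Subgroup.le_normalizer) Subgroup.inf_normalizer_le_normalizer_inf)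
  rw [← SetLike.mem_coe, Subgroup.coe_mul_of_right_le_normalizer_left _ _ hn] at hv
  exact hv

omit [Finite G] hp in
/-- `C_V(Y) = Y₀`. -/
theorem V_inf_centralizer {v : G} (hv : v ∈ D.V) (h : ∀ y ∈ Y, y * v = v * y) : v ∈ D.Y0 := by
  obtain ⟨a, ha, b, hb, rfl⟩ := D.mem_V hv
  refine mul_mem ha ⟨(D.mem_Y_of_comm (D.cjY0.le hb).1 fun y hy => ?_).1, (D.cjY0.le hb).2⟩
  refine mul_left_cancel (a := a) ?_
  have h1 := h y hy
  rw [← mul_assoc, D.hab a ha.1 y hy, mul_assoc, h1, mul_assoc]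

omit [Finite G] hp in
/-- `U' = U₀ Y₀^l` is normal in `H`. -/
theorem H_le_normalizer_U' :
    H ≤ Subgroup.normalizer ((D.U0 ⊔ cj D.Y0 D.l : Subgroup G) : Set G) := by
  conv_lhs => rw [← D.hgenH]
  have hU' : D.U0 ⊔ cj D.Y0 D.l ≤ pCoreOf p H := sup_le inf_le_left (D.cjY0.le.trans inf_le_right)
  refine sup_le ?_ ?_ <;> refine Subgroup.le_normalizer_iff_commutator_le_left.2 (Subgroup.commutator_le.2 ?_)
  · exact fun v hv y hy => Subgroup.mem_sup_right (D.comm_mem_Y0l (hU' hv) hy)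
  · intro v hv o ho
    refine Subgroup.mem_sup_left ⟨?_, D.hOY ?_⟩
    · rw [commutatorElement_def, mul_assoc, mul_assoc]
      refine mul_mem (hU' hv) ?_
      rw [← mul_assoc]
      exact (Subgroup.mem_normalizer_iff.1 (le_normalizer_pCoreOf p H (D.hOH ho)) _).1 (inv_mem (hU' hv))
    · rw [commutatorElement_def]
      exact mul_mem ((Subgroup.mem_normalizer_iff.1 (D.hUO (hU' hv)) o).1 ho) (inv_mem ho)

omit hp in
/-- `C_U(Y) = Y₀ C_U(L)`. -/
theorem U0_decomp {u : G} (hu : u ∈ D.U0) :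
    ∃ a ∈ D.Y0, ∃ c ∈ pCoreOf p H ⊓ Subgroup.centralizer (L : Set G), u = c * a := by
  set U' := D.U0 ⊔ cj D.Y0 D.l with hU'
  set A := cj D.U0 D.l with hA
  have hAU : A = pCoreOf p H ⊓ Subgroup.centralizer ((cj Y D.l : Subgroup G) : Set G) := by
    rw [hA, cj, Subgroup.map_inf _ _ _ (MulAut.conj D.l).injective, centralizer_cj]
    exact congrArg (· ⊓ _) D.cjU
  have hY0U0 : D.Y0 ≤ D.U0 := le_inf inf_le_right fun a ha =>
    Subgroup.mem_centralizer_iff.2 fun y hy => D.hab y hy a ha.1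
  have hle : A ⊔ D.Y0 ≤ U' := sup_le
    ((cj_mono le_sup_left D.l).trans (mem_normalizer_iff_cj.1 (D.H_le_normalizer_U' D.lH)).le)
    (hY0U0.trans le_sup_left)
  have hn1 : cj D.Y0 D.l ≤ Subgroup.normalizer ((D.U0 : Subgroup G) : Set G) :=
    (D.cjY0.le.trans inf_le_right).trans
      (le_normalizer_inf (Subgroup.le_normalizer) (le_normalizer_centralizer D.hUY))
  have hn2 : D.Y0 ≤ Subgroup.normalizer (A : Set G) := by
    rw [hAU]
    exact inf_le_right.trans (le_normalizer_inf (Subgroup.le_normalizer)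
      (le_normalizer_centralizer D.U_le_normalizer_Yl))
  have e1 := LA5.Basic.card_mul_card_inf D.U0 (cj D.Y0 D.l)
  have e2 := LA5.Basic.card_mul_card_inf A D.Y0
  have hi1 : D.U0 ⊓ cj D.Y0 D.l = D.Y0 ⊓ Subgroup.centralizer (L : Set G) := by
    refine le_antisymm ?_ ?_
    · rintro b ⟨hb1, hb2⟩
      obtain ⟨h1, h2⟩ := D.mem_Y_of_comm (D.cjY0.le hb2).1 (Subgroup.mem_centralizer_iff.1 hb1.2)
      exact ⟨⟨h1, hb1.1⟩, h2⟩
    · rintro a ⟨ha, hac⟩
      refine ⟨hY0U0 ha, a, ha, ?_⟩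
      show D.l * a * D.l⁻¹ = a
      rw [Subgroup.mem_centralizer_iff.1 hac D.l D.hl, mul_inv_cancel_right]
  have hi2 : A ⊓ D.Y0 = D.Y0 ⊓ Subgroup.centralizer (L : Set G) := by
    rw [hAU]
    refine le_antisymm ?_ ?_
    · rintro a ⟨ha1, ha2⟩
      exact ⟨ha2, D.mem_centralizer_L (fun y hy => D.hab y hy a ha2.1) (Subgroup.mem_centralizer_iff.1 ha1.2)⟩
    · rintro a ⟨ha, hac⟩
      exact ⟨⟨ha.2, Subgroup.centralizer_le D.Yl_le hac⟩, ha⟩
  have eA : Nat.card A = Nat.card D.U0 :=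
    Subgroup.card_map_of_injective (MulAut.conj D.l).injective
  have eY : Nat.card (cj D.Y0 D.l) = Nat.card D.Y0 :=
    Subgroup.card_map_of_injective (MulAut.conj D.l).injective
  rw [hi1, eY, ← Subgroup.coe_mul_of_right_le_normalizer_left _ _ hn1] at e1
  rw [hi2, eA, ← Subgroup.coe_mul_of_right_le_normalizer_left _ _ hn2, ← e1] at e2
  have heq : A ⊔ D.Y0 = U' := Subgroup.eq_of_le_of_card_ge hle
    (Nat.eq_of_mul_eq_mul_right Nat.card_pos e2).ge
  have hu' : u ∈ ((A ⊔ D.Y0 : Subgroup G) : Set G) := heq.ge (Subgroup.mem_sup_left hu)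
  rw [Subgroup.coe_mul_of_right_le_normalizer_left _ _ hn2] at hu'
  obtain ⟨c, hc, a, ha, rfl⟩ := hu'
  rw [hAU] at hc
  refine ⟨a, ha, c, ⟨hc.1, D.mem_centralizer_L ?_ (Subgroup.mem_centralizer_iff.1 hc.2)⟩, rfl⟩
  intro y hy
  refine mul_right_cancel (b := a) ?_
  have h1 := Subgroup.mem_centralizer_iff.1 hu.2 y hy
  rw [mul_assoc, h1, mul_assoc, mul_assoc, D.hab y hy a ha.1]

end LData

variable {S : Sylow p G} {M H L : Subgroup G}

/-- In the setting of the asymmetric L-lemma, the maximal overgroup `L₀` of `Y_M` in `L` normalizes `Y_M`. -/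
theorem le_normalizer_of_lData (hpar : IsOfParabolicCharacteristic p G) (hSM : (S : Subgroup G) ≤ M)
    (hM : IsInFrakM p M) (hasym : ¬ IsSymmetricIn (largestPReducedOf p M)) (hH : IsInFrakH p M H)
    (D : LData p H (largestPReducedOf p M) (pCoreOf p M) L) (hnL : ¬ IsPGroup p L) {L₀ : Subgroup G}
    (hL₀L : L₀ ≤ L) (hYL₀ : largestPReducedOf p M ≤ L₀)
    (hYO₀ : largestPReducedOf p M ≤ pCoreOf p L₀) :
    L₀ ≤ Subgroup.normalizer (largestPReducedOf p M : Set G) := by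
  set Y := largestPReducedOf p M with hY
  set O := pCoreOf p M with hO
  set U := pCoreOf p H with hU
  have hUp : IsPGroup p U := isPGroup_pCoreOf p H
  set Z := D.V ⊓ Subgroup.centralizer (L : Set G) with hZ
  have hVL : L ≤ Subgroup.normalizer (D.V : Set G) := D.L_le_normalizer_V
  -- `V` is not centralized by `L`
  have hVZ : ¬ D.V ≤ Z := by
    intro h
    apply hnL
    refine isPGroup_of_coprime_eq_one fun z hz hzo => eq_one_of_charP hH.1 (D.hLH hz) hzo fun u hu => ?_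
    refine commute_of_comm_mem (U := D.V) (hUp.to_le D.VU) hzo (fun v hv => ?_) ?_
    · exact (Subgroup.mem_centralizer_iff.1 (h hv).2 z hz)
    · have hle : L ≤ commInto U D.V L hVL := by
        refine D.hgen.ge.trans (sup_le (fun y hy => ⟨D.YL hy, fun u hu => ?_⟩) (fun y hy => ⟨D.Yl_le hy, fun u hu => ?_⟩))
        · exact Subgroup.mem_sup_left (D.comm_mem_Y0 hu hy)
        · exact Subgroup.mem_sup_right (D.comm_mem_Y0l hu hy)
      exact (hle hz).2 _ (inv_mem hu)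
  -- the fixed points `I` of `W = ⟨Y^L₀⟩` on `V` modulo `Z`
  set W : Subgroup G := ⨆ x : L₀, cj Y (x : G) with hW
  have hWn : L₀ ≤ Subgroup.normalizer (W : Set G) := le_normalizer_iSup_cj L₀ Y
  have hYW : Y ≤ W := le_iSup_of_le (1 : L₀) (by rw [Subgroup.coe_one, cj_one])
  have hWO : W ≤ pCoreOf p L₀ := iSup_le fun x =>
    (cj_mono hYO₀ _).trans (mem_normalizer_iff_cj.1 (le_normalizer_pCoreOf p L₀ x.2)).le
  have hWL : W ≤ L := (hWO.trans (pCoreOf_le p L₀)).trans hL₀L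
  have hLZ : L ≤ Subgroup.normalizer (Z : Set G) :=
    le_normalizer_inf hVL (le_normalizer_centralizer Subgroup.le_normalizer)
  obtain ⟨v, hv, hvZ, hvW⟩ := exists_fixed_mod ((isPGroup_pCoreOf p L₀).to_le hWO) (hUp.to_le D.VU)
    (hWL.trans hVL) hVZ
  set I₀ : Set G := {a | a ∈ D.V ∧ ∀ w ∈ W, ⁅a, w⁆ ∈ Z} with hI₀
  have hZY : ∀ z ∈ Z, z ∈ D.Y0 := fun z hz =>
    D.V_inf_centralizer hz.1 fun y hy => Subgroup.mem_centralizer_iff.1 hz.2 y (D.YL hy)
  have hY0L : D.Y0 ≤ L := inf_le_left.trans D.YL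
  have hY0V : D.Y0 ≤ D.V := le_sup_left
  have hI₀Y : ∀ a ∈ I₀, a ∈ D.Y0 := by
    rintro a ⟨ha, haW⟩
    obtain ⟨a₁, ha₁, b, hb, rfl⟩ := D.mem_V ha
    refine mul_mem ha₁ ?_
    have hbY : ∀ y ∈ Y, ⁅b, y⁆ ∈ Z := fun y hy => by
      have h := haW y (hYW hy)
      rw [show ⁅a₁ * b, y⁆ = a₁ * ⁅b, y⁆ * a₁⁻¹ * ⁅a₁, y⁆ by simp only [commutatorElement_def]; group,
        commutatorElement_eq_one_iff_mul_comm.2 (D.hab a₁ ha₁.1 y hy), mul_one] at h
      have h' : a₁⁻¹ * (a₁ * ⁅b, y⁆ * a₁⁻¹) * a₁ = a₁ * ⁅b, y⁆ * a₁⁻¹ := by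
        rw [mul_assoc, ← Subgroup.mem_centralizer_iff.1 h.2 a₁ (D.YL ha₁.1), ← mul_assoc, inv_mul_cancel,
          one_mul]
      rw [← h', show a₁⁻¹ * (a₁ * ⁅b, y⁆ * a₁⁻¹) * a₁ = ⁅b, y⁆ by group] at h
      exact h
    have hbL : L ≤ commInto {b} Z L hLZ := by
      refine D.hgen.ge.trans (sup_le (fun y hy => ⟨D.YL hy, fun u hu => ?_⟩)
        (fun y hy => ⟨D.Yl_le hy, fun u hu => ?_⟩))
      · rw [Set.mem_singleton_iff.1 hu]; exact hbY y hy
      · rw [Set.mem_singleton_iff.1 hu, commutatorElement_eq_one_iff_mul_comm.2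
          (D.Yl_comm (D.cjY0.le hb).1 y hy).symm]
        exact one_mem _
    have hbl := (hbL (inv_mem D.hl)).2 b rfl
    obtain ⟨a', ha', hab⟩ := hb
    have hab' : D.l * a' * D.l⁻¹ = b := hab
    have e : ⁅b, D.l⁻¹⁆ = b * a'⁻¹ := by rw [← hab', commutatorElement_def]; group
    rw [e] at hbl
    have := mul_mem (hZY _ hbl) ha'
    rwa [inv_mul_cancel_right] at this
  set I := Subgroup.closure I₀ with hI
  have hIY : I ≤ D.Y0 := (Subgroup.closure_le _).2 hI₀Y
  have hOn : ∀ o ∈ O, ∀ a ∈ D.Y0, o * a * o⁻¹ = a := fun o ho a ha => by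
    rw [← Subgroup.mem_centralizer_iff.1 (D.hOY ho) a ha.1, mul_inv_cancel_right]
  have hPI : L₀ ⊔ O ≤ Subgroup.normalizer (I : Set G) := by
    refine sup_le (fun x hx => ?_) (fun o ho => ?_)
    · have key : ∀ x ∈ L₀, cj I x ≤ I := fun x hx => by
        rw [cj, hI, MonoidHom.map_closure, Subgroup.closure_le]
        rintro _ ⟨a, ⟨ha, haW⟩, rfl⟩
        refine Subgroup.subset_closure ⟨(Subgroup.mem_normalizer_iff.1 (hVL (hL₀L hx)) a).1 ha, fun w hw => ?_⟩
        have hw' : x⁻¹ * w * x ∈ W := by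
          have := (Subgroup.mem_normalizer_iff.1 (hWn (inv_mem hx)) w).1 hw
          rwa [inv_inv] at this
        show ⁅x * a * x⁻¹, w⁆ ∈ Z
        rw [show ⁅x * a * x⁻¹, w⁆ = x * ⁅a, x⁻¹ * w * x⁆ * x⁻¹ by simp only [commutatorElement_def]; group]
        exact (Subgroup.mem_normalizer_iff.1 (hLZ (hL₀L hx)) _).1 (haW _ hw')
      refine mem_normalizer_iff_cj.2 (le_antisymm (key x hx) ?_)
      have := cj_mono (key x⁻¹ (inv_mem hx)) x
      rwa [cj_cj, mul_inv_cancel, cj_one] at this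
    · refine Subgroup.centralizer_le_normalizer _ (Subgroup.mem_centralizer_iff.2 fun a ha => ?_)
      exact Subgroup.mem_centralizer_iff.1 (D.hOY ho) a (hIY ha).1
  have hPH : L₀ ⊔ O < H := by
    refine lt_of_le_of_ne (sup_le (hL₀L.trans D.hLH) D.hOH) fun h => hvZ ⟨hv, ?_⟩
    have hvI : v ∈ I := Subgroup.subset_closure ⟨hv, hvW⟩
    have hlI : D.l⁻¹ * v * D.l ∈ I := by
      have := (Subgroup.mem_normalizer_iff.1 (hPI (h.ge (inv_mem D.lH))) v).1 hvI
      rwa [inv_inv] at this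
    have hvl : v ∈ cj Y D.l := ⟨_, (hIY hlI).1, by simp [mul_assoc]⟩
    exact D.mem_centralizer_L (fun y hy => D.hab y hy v (hIY hvI).1) (D.Yl_comm hvl)
  set P := L₀ ⊔ O with hP
  have hYP : Y ≤ pCoreOf p P := hH.2.2.2 P le_sup_right hPH
  have hRPY : pCoreOf p P ≤ Subgroup.normalizer (Y : Set G) :=
    (asym_pCoreOf_le hpar hSM hM hasym le_sup_right).2.trans (dagger_le_normalizer M)
  have hconj : ∀ x ∈ L₀, cj Y x ≤ Subgroup.normalizer (Y : Set G) := fun x hx =>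
    ((cj_mono hYP x).trans (mem_normalizer_iff_cj.1
      (le_normalizer_pCoreOf p P (Subgroup.mem_sup_left hx))).le).trans hRPY
  have hcomm : ∀ x ∈ L₀, ∀ a ∈ Y, ∀ y ∈ Y, y * (x * a * x⁻¹) = x * a * x⁻¹ * y := fun x hx a ha y hy => by
    have h3 : Y ≤ Subgroup.normalizer ((cj Y x : Subgroup G) : Set G) := by
      rw [normalizer_cj]
      have := cj_mono (hconj x⁻¹ (inv_mem hx)) x
      rwa [cj_cj, mul_inv_cancel, cj_one] at this
    exact (Subgroup.mem_centralizer_iff.1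
      (Subgroup.commutator_eq_bot_iff_le_centralizer.1 (asym_commute hasym (hconj x hx) h3) hy)
      _ ⟨a, ha, rfl⟩).symm
  have hY0conj : ∀ x ∈ L₀, ∀ a ∈ D.Y0, x * a * x⁻¹ ∈ D.Y0 := fun x hx a ha =>
    D.V_inf_centralizer ((Subgroup.mem_normalizer_iff.1 (hVL (hL₀L hx)) a).1 (hY0V ha))
      (hcomm x hx a ha.1)
  have norm_of_conj : ∀ (A : Subgroup G), (∀ x ∈ L₀, ∀ a ∈ A, x * a * x⁻¹ ∈ A) →
      L₀ ≤ Subgroup.normalizer (A : Set G) := fun A hA x hx => by
    refine Subgroup.mem_normalizer_iff.2 fun a => ⟨hA x hx a, fun h => ?_⟩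
    have := hA x⁻¹ (inv_mem hx) _ h
    simpa [mul_assoc] using this
  have hPY0 : P ≤ Subgroup.normalizer ((D.Y0 : Subgroup G) : Set G) :=
    sup_le (norm_of_conj _ hY0conj) (fun o ho => Subgroup.centralizer_le_normalizer _
      (Subgroup.mem_centralizer_iff.2 fun a ha => Subgroup.mem_centralizer_iff.1 (D.hOY ho) a ha.1))
  have hU0conj : ∀ x ∈ L₀, ∀ u ∈ D.U0, x * u * x⁻¹ ∈ D.U0 := by
    intro x hx u hu
    obtain ⟨a, ha, c, hc, rfl⟩ := D.U0_decomp hu
    have hxc : x * c * x⁻¹ = c := by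
      rw [Subgroup.mem_centralizer_iff.1 hc.2 x (hL₀L hx), mul_inv_cancel_right]
    rw [show x * (c * a) * x⁻¹ = x * c * x⁻¹ * (x * a * x⁻¹) by group, hxc]
    refine mul_mem ⟨hc.1, Subgroup.centralizer_le D.YL hc.2⟩ ?_
    have h := hY0conj x hx a ha
    exact ⟨h.2, Subgroup.mem_centralizer_iff.2 fun y hy => D.hab y hy _ h.1⟩
  have hPU : P ≤ Subgroup.normalizer (U : Set G) := hPH.le.trans (le_normalizer_pCoreOf p H)
  have hPU0 : P ≤ Subgroup.normalizer ((D.U0 : Subgroup G) : Set G) :=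
    sup_le (norm_of_conj _ hU0conj) (le_normalizer_inf ((le_sup_right : O ≤ P).trans hPU)
      (le_normalizer_centralizer (D.hOY.trans (Subgroup.centralizer_le_normalizer _))))
  set N₀ := commInto (D.U0 : Set G) D.Y0 P hPY0 with hN₀
  have hL₀N : L₀ ≤ N₀ := by
    intro x hx
    refine ⟨Subgroup.mem_sup_left hx, fun u hu => ?_⟩
    obtain ⟨a, ha, c, hc, rfl⟩ := D.U0_decomp hu
    have hax : ⁅a, x⁆ ∈ D.Y0 := by
      rw [commutatorElement_def, mul_assoc, mul_assoc, ← mul_assoc x]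
      exact mul_mem ha (hY0conj x hx _ (inv_mem ha))
    have hcx : ⁅c, x⁆ = 1 := commutatorElement_eq_one_iff_mul_comm.2
      (Subgroup.mem_centralizer_iff.1 hc.2 x (hL₀L hx)).symm
    have hca : c * ⁅a, x⁆ * c⁻¹ = ⁅a, x⁆ := by
      rw [← Subgroup.mem_centralizer_iff.1 hc.2 _ (hY0L hax), mul_inv_cancel_right]
    rw [show ⁅c * a, x⁆ = c * ⁅a, x⁆ * c⁻¹ * ⁅c, x⁆ by simp only [commutatorElement_def]; group, hca, hcx,
      mul_one]
    exact hax
  have hN₀n : P ≤ Subgroup.normalizer (N₀ : Set G) :=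
    le_normalizer_commInto hPU0 hPY0 Subgroup.le_normalizer
  have hN₀P : N₀ ≤ P := fun x hx => hx.1
  set S₁ := commInto (U : Set G) D.U0 P hPU0 ⊓ Subgroup.centralizer ((D.Y0 : Subgroup G) : Set G) with hS₁
  have hS₁p : IsPGroup p S₁ := by
    refine isPGroup_of_coprime_eq_one fun z hz hzo => ?_
    haveI : (N₀.subgroupOf P).Normal := (Subgroup.normal_subgroupOf_iff_le_normalizer hN₀P).2 hN₀n
    have hzN : z ∈ N₀ := by
      refine mem_of_coprime_of_mem_sup (A := N₀.subgroupOf P) (B := O.subgroupOf P) (g := ⟨z, hz.1.1⟩)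
        D.hO.comap_subtype ?_ (by rwa [Subgroup.orderOf_mk])
      rw [← Subgroup.subgroupOf_sup hN₀P le_sup_right]
      exact sup_le_sup_right hL₀N O hz.1.1
    have h0 : ∀ a ∈ D.Y0, Commute z a := fun a ha => (Subgroup.mem_centralizer_iff.1 hz.2 a ha).symm
    have h1 : ∀ u ∈ D.U0, Commute z u := fun u hu =>
      commute_of_comm_mem (hUp.to_le inf_le_right) hzo h0 (hzN.2 _ (inv_mem hu))
    exact eq_one_of_charP hH.1 (hPH.le hz.1.1) hzo fun u hu =>
      commute_of_comm_mem (hUp.to_le inf_le_left) hzo h1 (hz.1.2 _ (inv_mem hu))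
  have hOS₁ : O ≤ S₁ := fun o ho => ⟨⟨Subgroup.mem_sup_right ho, fun u hu => by
      refine ⟨?_, D.hOY ?_⟩
      · rw [commutatorElement_def, mul_assoc, mul_assoc]
        refine mul_mem hu ?_
        rw [← mul_assoc]
        exact (Subgroup.mem_normalizer_iff.1 (le_normalizer_pCoreOf p H (D.hOH ho)) _).1 (inv_mem hu)
      · rw [commutatorElement_def]
        exact mul_mem ((Subgroup.mem_normalizer_iff.1 (D.hUO hu) o).1 ho) (inv_mem ho)⟩,
    Subgroup.mem_centralizer_iff.2 fun a ha => Subgroup.mem_centralizer_iff.1 (D.hOY ho) a ha.1⟩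
  have hPS₁ : P ≤ Subgroup.normalizer (S₁ : Set G) :=
    le_normalizer_inf (le_normalizer_commInto hPU hPU0 Subgroup.le_normalizer)
      (le_normalizer_centralizer hPY0)
  obtain ⟨h1, h2⟩ := asym_normalizer_le hpar hSM hM hasym hS₁p hOS₁
  exact (le_sup_left.trans (hPS₁.trans (h1.trans h2))).trans (dagger_le_normalizer M)

/-- Everything in the asymmetric L-lemma. -/
theorem asym_lLemma (hpar : IsOfParabolicCharacteristic p G) (hSM : (S : Subgroup G) ≤ M)
    (hM : IsInFrakM p M) (hasym : ¬ IsSymmetricIn (largestPReducedOf p M)) (hH : IsInFrakH p M H)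
    (hLH : L ≤ H) (hYL : largestPReducedOf p M ≤ L) (hYO : ¬ largestPReducedOf p M ≤ pCoreOf p L)
    (hmin : ∀ L' : Subgroup G, L' ≤ L → largestPReducedOf p M ≤ L' →
      ¬ largestPReducedOf p M ≤ pCoreOf p L' → L' = L) :
    (∀ X : Subgroup G, largestPReducedOf p M ≤ X → X < L →
        X ≤ Subgroup.normalizer (largestPReducedOf p M : Set G)) ∧
      (∀ h ∈ L, h ∉ Subgroup.normalizer (largestPReducedOf p M : Set G) →
        largestPReducedOf p M ⊔ cj (largestPReducedOf p M) h = L ∧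
          cj (largestPReducedOf p M) h ⊔ pCoreOf p M = H) ∧
      Nonempty (LData p H (largestPReducedOf p M) (pCoreOf p M) L) := by
  set Y := largestPReducedOf p M with hY
  set O := pCoreOf p M with hO
  have hYel : IsElementaryAbelian p Y := (largestPReducedOf_isPRed M).elemAb
  have hYp : IsPGroup p Y := elemAb_isPGroup hYel
  have hab : ∀ a ∈ Y, ∀ b ∈ Y, a * b = b * a := fun a ha b hb => ((elemAb_iff.1 hYel).1 a ha b hb).eq
  have hYO' : Y ≤ O := largest_le_pCoreOf M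
  have hLO : L ⊔ O = H := by
    by_contra hne
    exact hYO ((le_inf (hH.2.2.2 _ le_sup_right (lt_of_le_of_ne (sup_le hLH hH.2.1) hne)) hYL).trans
      (pCoreOf_inf_le le_sup_left))
  have hminL := isMinimalOver_of_minimal hYL hYp hYO hmin
  obtain ⟨M₀, hM₀, -⟩ := hminL.2
  set L₀ := M₀.map L.subtype with hL₀
  have hL₀L : L₀ ≤ L := Subgroup.map_subtype_le _
  have hmem : ∀ x : L, (x : G) ∈ L₀ ↔ x ∈ M₀ :=
    fun x => ⟨fun ⟨y, hy, hyx⟩ => (Subtype.ext hyx : y = x) ▸ hy, fun h => ⟨x, h, rfl⟩⟩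
  have hYL₀ : Y ≤ L₀ := fun y hy => (hmem ⟨y, hYL hy⟩).2 (hM₀.2 hy)
  have hle : ∀ X : Subgroup G, Y ≤ X → X < L → X ≤ L₀ := fun X hYX hX x hx =>
    (hmem ⟨x, hX.le hx⟩).2 (IsMinimalOver.le_of_lt hminL hM₀ (X := X.subgroupOf L) (fun y hy => hYX hy)
      (fun h => hX.not_ge (Subgroup.subgroupOf_eq_top.1 h)) hx)
  have hL₀ne : L₀ ≠ L := fun h => hM₀.1.1 (eq_top_iff.2 fun x _ => (hmem x).1 (h.ge x.2))
  have hYO₀ : Y ≤ pCoreOf p L₀ := by
    by_contra h
    exact hL₀ne (hmin L₀ hL₀L hYL₀ h)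
  have hgen : ∀ h ∈ L, h ∉ L₀ → Y ⊔ cj Y h = L ∧ cj Y h ⊔ O = H := fun h hh hh₀ => by
    have e := congrArg (Subgroup.map L.subtype)
      (sup_conj_eq_top hM₀.1 hM₀.2 hminL (g := ⟨h, hh⟩) fun hc => hh₀ ((hmem ⟨h, hh⟩).2 hc))
    rw [Subgroup.map_sup, Subgroup.map_subgroupOf_eq_of_le hYL, Subgroup.map_map,
      show L.subtype.comp (MulAut.conj (⟨h, hh⟩ : L)).toMonoidHom =
        (MulAut.conj h).toMonoidHom.comp L.subtype by ext x; simp,
      ← Subgroup.map_map, Subgroup.map_subgroupOf_eq_of_le hYL, ← MonoidHom.range_eq_map,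
      Subgroup.range_subtype] at e
    refine ⟨e, le_antisymm (sup_le ?_ hH.2.1) ?_⟩
    · exact (le_sup_right.trans_eq e).trans hLH
    · rw [← hLO]
      exact sup_le (e.ge.trans (sup_le (hYO'.trans le_sup_right) le_sup_left)) le_sup_right
  obtain ⟨l, hl, hl₀⟩ := SetLike.not_le_iff_exists.1 (fun h => hL₀ne (le_antisymm hL₀L h))
  obtain ⟨hUO, hUD⟩ := asym_pCoreOf_le hpar hSM hM hasym hH.2.1
  let D : LData p H Y O L :=
    { l := l, hl := hl, hLH := hLH, hOH := hH.2.1, hYO := hYO', hO := isPGroup_pCoreOf p M, hab := hab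
      hOY := (largestPReducedOf_isPRed M).pCoreOf_le_centralizer
      hUY := hUD.trans (dagger_le_normalizer M), hUO := hUO
      hgen := (hgen l hl hl₀).1, hgenH := (hgen l hl hl₀).2 }
  have hnL : ¬ IsPGroup p L := fun h => hYO (hYL.trans (le_pCoreOf h le_rfl Subgroup.le_normalizer))
  have hL₀Y := le_normalizer_of_lData hpar hSM hM hasym hH D hnL hL₀L hYL₀ hYO₀
  exact ⟨fun X hYX hX => (hle X hYX hX).trans hL₀Y,
    fun h hh hhY => hgen h hh fun hc => hhY (hL₀Y hc), ⟨D⟩⟩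

end Cfsg.Agent.Lib.CharP
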