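import Cfsg.Agent.Lib.Components.GenFitting
import Cfsg.Agent.Lib.Coprime.Commutator
import Cfsg.Agent.Lib.CharP.Basic

/-!
Subnormal subgroups of the generalized Fitting subgroup: `L` is generated by the components in it and
`L ∩ F`; the action of a `p`-group on them when `O_p = 1`.

Owner: helper55.
-/

set_option autoImplicit false
set_option linter.style.haveILetI false

open Cfsg
open scoped commutatorElement Pointwise

namespace Cfsg.Agent.Lib.CharP

section FStar

variable {G : Type*} [Group G] [Finite G] {p : ℕ} [hp : Fact p.Prime]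

/-- If `O_p(G) = 1` then `F(G)` has order prime to `p`. -/
theorem fitting_coprime (hO : pCore p G = ⊥) : (Nat.card (fittingSubgroup G)).Coprime p := by
  haveI : Group.IsNilpotent ↥(fittingSubgroup G) := Cores.fittingSubgroup_isNilpotent
  refine ((Nat.Prime.coprime_iff_not_dvd hp.out).2 fun hd => ?_).symm
  obtain ⟨T⟩ : Nonempty (Sylow p ↥(fittingSubgroup G)) := inferInstance
  have hTn : (T : Subgroup ↥(fittingSubgroup G)).Normal :=
    Sylow.normal_of_normalizerCondition (fun H hH => Group.normalizerCondition_of_isNilpotent H hH) T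
  have h1 : (T : Subgroup ↥(fittingSubgroup G)) ≤ pCore p ↥(fittingSubgroup G) :=
    Cores.le_pCore T.isPGroup'
  have h2 := Cores.map_subtype_pCore p (fittingSubgroup G)
  rw [hO, inf_bot_eq, Subgroup.map_eq_bot_iff_of_injective _ (fittingSubgroup G).subtype_injective] at h2
  rw [h2, le_bot_iff] at h1
  have := T.dvd_card_of_dvd_card hd
  rw [h1, Subgroup.card_bot] at this
  exact hp.out.ne_one (Nat.dvd_one.1 this)

omit [Finite G] hp in
/-- A join of subgroups permuted by `g` is normalized by `g`. -/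
theorem mem_normalizer_sSup {s : Set (Subgroup G)} {g : G}
    (h : ∀ K ∈ s, K.map (MulAut.conj g).toMonoidHom ≤ sSup s ∧ K.map (MulAut.conj g⁻¹).toMonoidHom ≤ sSup s) :
    g ∈ Subgroup.normalizer ((sSup s : Subgroup G) : Set G) := by
  rw [Subgroup.mem_normalizer_iff]
  refine fun x => ⟨fun hx => ?_, fun hx => ?_⟩
  · exact (sSup_le fun K hK => Subgroup.map_le_iff_le_comap.1 (h K hK).1 :
      sSup s ≤ (sSup s).comap (MulAut.conj g).toMonoidHom) hx
  · have := (sSup_le fun K hK => Subgroup.map_le_iff_le_comap.1 (h K hK).2 :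
      sSup s ≤ (sSup s).comap (MulAut.conj g⁻¹).toMonoidHom) hx
    simpa [mul_assoc] using this

omit hp in
/-- A subnormal subgroup of `F*(G)` is generated by the components it contains and its intersection
with `F(G)`. -/
theorem le_components_sup {L : Subgroup G} (hL : L.IsSubnormal) (hLF : L ≤ generalizedFittingSubgroup G) :
    L ≤ sSup {K : Subgroup G | IsComponent K ∧ K ≤ L} ⊔ (L ⊓ fittingSubgroup G) := by
  set A := sSup {K : Subgroup G | IsComponent K ∧ K ≤ L} with hA
  set B := sSup {K : Subgroup G | IsComponent K ∧ ¬ K ≤ L} with hB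
  have hAL : A ≤ L := sSup_le fun K hK => hK.2
  have hLB : B ≤ Subgroup.centralizer (L : Set G) := sSup_le fun K hK =>
    Subgroup.le_centralizer_iff.1 (Subgroup.commutator_eq_bot_iff_le_centralizer.1
      ((Components.Component.le_or_commutator_eq_bot hK.1 hL).resolve_left hK.2))
  have hAB : A ≤ Subgroup.normalizer (B : Set G) :=
    ((Subgroup.le_centralizer_iff.1 hLB).trans' hAL).trans (Subgroup.centralizer_le_normalizer _)
  have hlay : layer G ≤ A ⊔ B := sSup_le fun K hK => by
    by_cases h : K ≤ L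
    · exact (le_sSup ⟨hK, h⟩ : K ≤ A).trans le_sup_left
    · exact (le_sSup ⟨hK, h⟩ : K ≤ B).trans le_sup_right
  have hBlay : B ≤ layer G := sSup_le fun K hK => le_sSup hK.1
  have hlB : layer G ≤ Subgroup.normalizer (B : Set G) := fun l hl => by
    refine mem_normalizer_sSup fun K hK => ⟨?_, ?_⟩
    · rintro _ ⟨k, hk, rfl⟩
      exact le_sSup (α := Subgroup G) hK
        ((Subgroup.mem_normalizer_iff.1 (Components.Layer.layer_le_normalizer hK.1 hl) k).1 hk)
    · rintro _ ⟨k, hk, rfl⟩
      exact le_sSup (α := Subgroup G) hK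
        ((Subgroup.mem_normalizer_iff.1 (inv_mem (Components.Layer.layer_le_normalizer hK.1 hl)) k).1 hk)
  -- the centre of `B` is in the Fitting subgroup
  have hW : B ⊓ Subgroup.centralizer (B : Set G) ≤ fittingSubgroup G := by
    haveI : IsMulCommutative ↥(B ⊓ Subgroup.centralizer (B : Set G)) :=
      ⟨⟨fun a b => Subtype.ext (Subgroup.mem_centralizer_iff.1 b.2.2 _ a.2.1)⟩⟩
    refine Cores.IsSubnormal.le_fittingSubgroup ?_ ?_
    · haveI : ((B ⊓ Subgroup.centralizer (B : Set G)).subgroupOf (layer G)).Normal := by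
        refine (Subgroup.normal_subgroupOf_iff_le_normalizer (inf_le_left.trans hBlay)).2 fun l hl => ?_
        have hl' := hlB hl
        have hc : ∀ x ∈ Subgroup.centralizer (B : Set G), ∀ m ∈ Subgroup.normalizer (B : Set G),
            m * x * m⁻¹ ∈ Subgroup.centralizer (B : Set G) := fun x hx m hm => by
          rw [Subgroup.mem_centralizer_iff] at hx ⊢
          intro b hb
          have := hx (m⁻¹ * b * m) (by simpa using (Subgroup.mem_normalizer_iff.1 (inv_mem hm) b).1 hb)
          calc b * (m * x * m⁻¹) = m * ((m⁻¹ * b * m) * x) * m⁻¹ := by group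
            _ = m * x * m⁻¹ * b := by rw [this]; group
        rw [Subgroup.mem_normalizer_iff]
        refine fun x => ⟨fun hx => ⟨(Subgroup.mem_normalizer_iff.1 hl' x).1 hx.1, hc x hx.2 l hl'⟩,
          fun hx => ⟨(Subgroup.mem_normalizer_iff.1 hl' x).2 hx.1, ?_⟩⟩
        have := hc _ hx.2 l⁻¹ (inv_mem hl')
        simpa [mul_assoc] using this
      exact Subgroup.IsSubnormal.trans (inf_le_left.trans hBlay) (Subgroup.Normal.isSubnormal this)
        (Subgroup.Normal.isSubnormal inferInstance)
    · exact Cores.isNilpotent_of_le le_rfl (Subgroup.isNilpotent_of_lowerCentralSeries_eq_bot (n := 1) (by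
        rw [Subgroup.lowerCentralSeries_succ, Subgroup.lowerCentralSeries_zero,
          Subgroup.commutator_eq_bot_iff_le_centralizer]
        exact Subgroup.le_centralizer _))
  intro x hx
  obtain ⟨e, he, f, hf, rfl⟩ := Subgroup.mem_sup_of_normal_right.1
    (show x ∈ layer G ⊔ fittingSubgroup G from hLF hx)
  have he' : e ∈ ((A ⊔ B : Subgroup G) : Set G) := hlay he
  rw [Subgroup.coe_mul_of_left_le_normalizer_right A B hAB] at he'
  obtain ⟨a, ha, b, hb, rfl⟩ := he'
  have hy : b * f ∈ L := by
    have := mul_mem (inv_mem (hAL ha)) hx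
    simpa [mul_assoc] using this
  have hbc : b ∈ Subgroup.centralizer (B : Set G) := by
    rw [Subgroup.mem_centralizer_iff]
    intro z hz
    have h1 : (b * f) * z = z * (b * f) := Subgroup.mem_centralizer_iff.1 (hLB hz) _ hy
    have h2 : z * f = f * z :=
      Subgroup.mem_centralizer_iff.1 (Components.Layer.fitting_le_centralizer_layer hf) z (hBlay hz)
    rw [mul_assoc, ← h2, ← mul_assoc, ← mul_assoc] at h1
    exact (mul_right_cancel h1).symm
  show a * b * f ∈ _
  rw [mul_assoc]
  exact mul_mem (Subgroup.mem_sup_left ha) (Subgroup.mem_sup_right ⟨hy, mul_mem (hW ⟨hb, hbc⟩) hf⟩)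

end FStar

section Action

variable {G : Type*} [Group G] [Finite G] {p : ℕ} [hp : Fact p.Prime] {H : Subgroup G}

omit hp in
/-- A characteristic subgroup of `H` is normalized by the normalizer of `H`. -/
theorem normalizer_le_normalizer_map_char (C : Subgroup H) [hC : C.Characteristic] :
    Subgroup.normalizer (H : Set G) ≤ Subgroup.normalizer ((C.map H.subtype : Subgroup G) : Set G) := by
  have key : ∀ g ∈ Subgroup.normalizer (H : Set G), ∀ x ∈ C.map H.subtype, g * x * g⁻¹ ∈ C.map H.subtype := by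
    rintro g hg _ ⟨c, hc, rfl⟩
    have h1 := (Subgroup.characteristic_iff_map_le.1 hC) (H.normalizerMonoidHom ⟨g, hg⟩) ⟨c, hc, rfl⟩
    exact ⟨_, h1, rfl⟩
  intro g hg
  rw [Subgroup.mem_normalizer_iff]
  refine fun x => ⟨key g hg x, fun h => ?_⟩
  have := key g⁻¹ (inv_mem hg) _ h
  simpa [mul_assoc] using this

/-- A component inside `L` lies in `[L, Y]` or is centralized by `Y`. -/
theorem component_le_commutator_or (Y : Subgroup G) {L : Subgroup G}
    (hLH : L ≤ H) (hLsn : (L.subgroupOf H).IsSubnormal) (hYL : Y ≤ Subgroup.normalizer (L : Set G))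
    {K : Subgroup H} (hK : IsComponent K) (hKL : K.map H.subtype ≤ L) :
    K.map H.subtype ≤ ⁅L, Y⁆ ∨ K.map H.subtype ≤ Subgroup.centralizer (Y : Set G) := by
  set M := ⁅L, Y⁆ with hM
  have hML : M ≤ L := Coprime.commutator_le_of_le_normalizer hYL
  have hnorm : ((M.subgroupOf H).subgroupOf (L.subgroupOf H)).Normal := by
    refine (Subgroup.normal_subgroupOf_iff_le_normalizer (G := ↥H) (H := M.subgroupOf H) (K := L.subgroupOf H)
      (fun x hx => hML hx)).2 ?_
    rintro ⟨l, hlH⟩ hl
    have hl' : l ∈ Subgroup.normalizer (M : Set G) := Coprime.left_le_normalizer_commutator L Y hl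
    rw [Subgroup.mem_normalizer_iff]
    intro x
    exact Subgroup.mem_normalizer_iff.1 hl' x
  have hMsn : (M.subgroupOf H).IsSubnormal :=
    Subgroup.IsSubnormal.trans (fun x hx => hML hx) (Subgroup.Normal.isSubnormal hnorm) hLsn
  rcases Components.Component.le_or_commutator_eq_bot hK hMsn with h | h
  · left
    rintro _ ⟨k, hk, rfl⟩
    exact h hk
  · right
    have h' : ⁅M, K.map H.subtype⁆ = ⊥ := by
      rw [← inf_eq_left.2 (hML.trans hLH), ← Subgroup.subgroupOf_map_subtype, ← Subgroup.map_commutator, h,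
        Subgroup.map_bot]
    have h2 : ⁅⁅Y, K.map H.subtype⁆, K.map H.subtype⁆ = ⊥ := by
      refine le_bot_iff.1 (h' ▸ Subgroup.commutator_mono ?_ le_rfl)
      rw [Subgroup.commutator_comm]
      exact Subgroup.commutator_mono hKL le_rfl
    have hperf : ⁅K.map H.subtype, K.map H.subtype⁆ = K.map H.subtype := by
      rw [← Subgroup.map_commutator, Components.Component.commutator_self hK]
    exact Subgroup.le_centralizer_iff.1 (Subgroup.commutator_eq_bot_iff_le_centralizer.1
      (Components.commutator_eq_bot_of_perfect hperf h2))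

/-- `L = [L, Y] C_L(Y)` for a subnormal subgroup `L` of `F*(H)`, `O_p(H) = 1` and `Y` a `p`-group. -/
theorem commutator_sup_fixed (hO : pCore p ↥H = ⊥) {Y : Subgroup G} (hY : IsPGroup p ↥Y)
    (hYH : Y ≤ Subgroup.normalizer (H : Set G)) {L : Subgroup G}
    (hLF : L ≤ (generalizedFittingSubgroup ↥H).map H.subtype) (hLsn : (L.subgroupOf H).IsSubnormal)
    (hYL : Y ≤ Subgroup.normalizer (L : Set G)) :
    ⁅L, Y⁆ ⊔ (L ⊓ Subgroup.centralizer (Y : Set G)) = L := by
  have hLH : L ≤ H := hLF.trans (Subgroup.map_subtype_le _)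
  refine le_antisymm (sup_le (Coprime.commutator_le_of_le_normalizer hYL) inf_le_left) ?_
  have hLF' : L.subgroupOf H ≤ generalizedFittingSubgroup ↥H := fun x hx => by
    obtain ⟨y, hy, hyx⟩ := hLF hx
    exact (Subtype.ext hyx : y = x) ▸ hy
  have h1 := Subgroup.map_mono (f := H.subtype) (le_components_sup hLsn hLF')
  rw [Subgroup.subgroupOf_map_subtype, inf_eq_left.2 hLH, Subgroup.map_sup] at h1
  refine h1.trans (sup_le ?_ ?_)
  · rw [Subgroup.map_le_iff_le_comap]
    refine sSup_le fun K hK => Subgroup.map_le_iff_le_comap.1 ?_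
    have hKL : K.map H.subtype ≤ L := by
      rintro _ ⟨k, hk, rfl⟩
      exact hK.2 hk
    rcases component_le_commutator_or Y hLH hLsn hYL hK.1 hKL with h | h
    · exact h.trans le_sup_left
    · exact (le_inf hKL h).trans le_sup_right
  · rw [Subgroup.map_inf _ _ _ H.subtype_injective, Subgroup.subgroupOf_map_subtype, inf_eq_left.2 hLH]
    set N := L ⊓ (fittingSubgroup ↥H).map H.subtype with hN
    have hYF : Y ≤ Subgroup.normalizer (((fittingSubgroup ↥H).map H.subtype : Subgroup G) : Set G) := by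
      haveI : (fittingSubgroup ↥H).Characteristic :=
        Subgroup.characteristic_iff_map_eq.2 fun e => Cores.map_fittingSubgroup_equiv e
      exact hYH.trans (normalizer_le_normalizer_map_char _)
    have hYN : Y ≤ Subgroup.normalizer (N : Set G) := by
      rw [Subgroup.le_normalizer_iff_commutator_le_right]
      exact le_inf ((Subgroup.commutator_mono le_rfl inf_le_left).trans
        (Subgroup.le_normalizer_iff_commutator_le_right.1 hYL))
        ((Subgroup.commutator_mono le_rfl inf_le_right).trans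
        (Subgroup.le_normalizer_iff_commutator_le_right.1 hYF))
    have hNsol : Group.IsSolvable ↥N := by
      haveI : Group.IsNilpotent ↥((fittingSubgroup ↥H).map H.subtype) :=
        Cores.isNilpotent_map _ Cores.fittingSubgroup_isNilpotent
      haveI : Group.IsNilpotent ↥N := Cores.isNilpotent_of_le inf_le_right this
      infer_instance
    have hcop : (Nat.card Y).Coprime (Nat.card N) := by
      obtain ⟨n, hn⟩ := IsPGroup.iff_card.1 hY
      rw [hn]
      refine Nat.Coprime.pow_left n ?_
      refine ((fitting_coprime hO).coprime_dvd_left ?_).symm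
      exact (Subgroup.card_dvd_of_le inf_le_right).trans (Subgroup.card_map_dvd _ _)
    calc N = ⁅N, Y⁆ ⊔ (N ⊓ Subgroup.centralizer (Y : Set G)) :=
          (Coprime.commutator_sup_centralizer hYN hcop (Or.inr hNsol)).symm
      _ ≤ _ := sup_le_sup (Subgroup.commutator_mono inf_le_left le_rfl) (inf_le_inf inf_le_left le_rfl)

/-- `[L, Y, Y] = [L, Y]`. -/
theorem commutator_commutator_fixed (hO : pCore p ↥H = ⊥) {Y : Subgroup G} (hY : IsPGroup p ↥Y)
    (hYH : Y ≤ Subgroup.normalizer (H : Set G)) {L : Subgroup G}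
    (hLF : L ≤ (generalizedFittingSubgroup ↥H).map H.subtype) (hLsn : (L.subgroupOf H).IsSubnormal)
    (hYL : Y ≤ Subgroup.normalizer (L : Set G)) : ⁅L, Y⁆ = ⁅⁅L, Y⁆, Y⁆ := by
  have hsup := commutator_sup_fixed hO hY hYH hLF hLsn hYL
  have hle := Coprime.commutator_le_of_le_normalizer hYL
  refine le_antisymm ?_ (Subgroup.commutator_mono hle le_rfl)
  refine Subgroup.commutator_le.2 fun l hl y hy => ?_
  have hc : L ⊓ Subgroup.centralizer (Y : Set G) ≤ Subgroup.normalizer ((⁅L, Y⁆ : Subgroup G) : Set G) :=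
    inf_le_left.trans (Coprime.left_le_normalizer_commutator L Y)
  have hl' : l ∈ ((L ⊓ Subgroup.centralizer (Y : Set G) ⊔ ⁅L, Y⁆ : Subgroup G) : Set G) := by
    rw [sup_comm, hsup]; exact hl
  rw [Subgroup.coe_mul_of_left_le_normalizer_right _ _ hc] at hl'
  obtain ⟨c, hc', m, hm, rfl⟩ := hl'
  have hcy : y * c = c * y := Subgroup.mem_centralizer_iff.1 hc'.2 y hy
  have e : ⁅c * m, y⁆ = ⁅c * m * c⁻¹, y⁆ := by
    simp only [commutatorElement_def]
    calc c * m * y * (c * m)⁻¹ * y⁻¹ = c * m * y * m⁻¹ * (c⁻¹ * y⁻¹) := by group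
      _ = c * m * y * m⁻¹ * (y⁻¹ * c⁻¹) := by rw [← mul_inv_rev, hcy, mul_inv_rev]
      _ = c * m * (c⁻¹ * c) * y * m⁻¹ * y⁻¹ * c⁻¹ := by group
      _ = c * m * c⁻¹ * (y * c) * m⁻¹ * (y⁻¹ * c⁻¹) := by rw [hcy]; group
      _ = c * m * c⁻¹ * (y * c) * m⁻¹ * (c⁻¹ * y⁻¹) := by rw [← mul_inv_rev, ← hcy, mul_inv_rev]
      _ = c * m * c⁻¹ * y * (c * m * c⁻¹)⁻¹ * y⁻¹ := by group
  rw [e]
  exact Subgroup.commutator_mem_commutator ((Subgroup.mem_normalizer_iff.1 (hc hc') m).1 hm) hy

end Action

section Whole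

variable {G : Type*} [Group G] [Finite G] {p : ℕ} [hp : Fact p.Prime]

/-- The case `H = G` of `commutator_sup_fixed` and `commutator_commutator_fixed`. -/
theorem commutator_fixed_whole (hO : pCore p G = ⊥) {Y : Subgroup G} (hY : IsPGroup p ↥Y)
    {L : Subgroup G} (hLF : L ≤ generalizedFittingSubgroup G) (hLsn : L.IsSubnormal)
    (hYL : Y ≤ Subgroup.normalizer (L : Set G)) :
    ⁅L, Y⁆ ⊔ (L ⊓ Subgroup.centralizer (Y : Set G)) = L ∧ ⁅L, Y⁆ = ⁅⁅L, Y⁆, Y⁆ := by
  have hO' : pCore p ↥(⊤ : Subgroup G) = ⊥ := by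
    rw [← Cores.map_pCore_equiv (Subgroup.topEquiv (G := G)).symm, hO, Subgroup.map_bot]
  have hF : L ≤ (generalizedFittingSubgroup ↥(⊤ : Subgroup G)).map (⊤ : Subgroup G).subtype := by
    refine hLF.trans (le_of_eq ?_)
    rw [← Components.GenFitting.map_generalizedFitting (Subgroup.topEquiv (G := G))]
    rfl
  have hn : Y ≤ Subgroup.normalizer (((⊤ : Subgroup G)) : Set G) := le_trans le_top Subgroup.le_normalizer
  exact ⟨commutator_sup_fixed hO' hY hn hF hLsn.subgroupOf hYL,
    commutator_commutator_fixed hO' hY hn hF hLsn.subgroupOf hYL⟩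

theorem commutator_fstar_fixed (hO : pCore p G = ⊥) {Y : Subgroup G} (hY : IsPGroup p ↥Y) :
    ⁅generalizedFittingSubgroup G, Y⁆ ⊔ (generalizedFittingSubgroup G ⊓ Subgroup.centralizer (Y : Set G)) =
        generalizedFittingSubgroup G ∧
      ⁅generalizedFittingSubgroup G, Y⁆ = ⁅⁅generalizedFittingSubgroup G, Y⁆, Y⁆ :=
  commutator_fixed_whole hO hY le_rfl (Subgroup.Normal.isSubnormal inferInstance)
    (by rw [Subgroup.normalizer_eq_top]; exact le_top)

omit hp in
/-- `[F*(G), Y]` is subnormal and inside `F*(G)`. -/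
theorem commutator_fstar_isSubnormal (Y : Subgroup G) :
    ⁅generalizedFittingSubgroup G, Y⁆.IsSubnormal ∧
      ⁅generalizedFittingSubgroup G, Y⁆ ≤ generalizedFittingSubgroup G := by
  have hle : ⁅generalizedFittingSubgroup G, Y⁆ ≤ generalizedFittingSubgroup G :=
    Subgroup.commutator_le_left _ _
  exact ⟨Subgroup.IsSubnormal.trans hle (Subgroup.Normal.isSubnormal
    ((Subgroup.normal_subgroupOf_iff_le_normalizer hle).2 (Coprime.left_le_normalizer_commutator _ _)))
    (Subgroup.Normal.isSubnormal inferInstance), hle⟩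

/-- A subgroup of `F*(G)` centralizing `F*(G)` has order prime to `p`. -/
theorem eq_one_of_centralizes_fstar (hO : pCore p G = ⊥) {x : G}
    (hx : x ∈ Subgroup.centralizer (generalizedFittingSubgroup G : Set G)) {k : ℕ} (hk : x ^ p ^ k = 1) :
    x = 1 := by
  set W := generalizedFittingSubgroup G ⊓ Subgroup.centralizer (generalizedFittingSubgroup G : Set G)
  haveI : IsMulCommutative ↥W :=
    ⟨⟨fun a b => Subtype.ext (Subgroup.mem_centralizer_iff.1 b.2.2 _ a.2.1)⟩⟩
  have hW : W ≤ fittingSubgroup G := Cores.le_fittingSubgroup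
    (Subgroup.isNilpotent_of_lowerCentralSeries_eq_bot (n := 1) (by
      rw [Subgroup.lowerCentralSeries_succ, Subgroup.lowerCentralSeries_zero,
        Subgroup.commutator_eq_bot_iff_le_centralizer]
      exact Subgroup.le_centralizer _))
  have hxF : x ∈ fittingSubgroup G := hW ⟨Components.GenFitting.centralizer_le hx, hx⟩
  have h1 := orderOf_dvd_natCard (⟨x, hxF⟩ : fittingSubgroup G)
  rw [Subgroup.orderOf_mk] at h1
  exact eq_one_of_coprime_of_pElement ((fitting_coprime hO).coprime_dvd_left h1) hk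

end Whole

end Cfsg.Agent.Lib.CharP
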