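import Mathlib

/-!
# Actions of `SL₂(q)` with quadratic unipotent radical

An action on an abelian group `V = B ⊕ wB`, where `B` is fixed by the upper unitriangular group, contains the
displacements `u v - v`, and contains every fixed point of each nontrivial upper unitriangular element, has no
fixed points for elements `x` with `x ^ p ≠ 1`.

Owner: helper19.
-/

set_option autoImplicit false

open Matrix

namespace Cfsg.Agent.Lib.CharP.SL2Fix

variable {F : Type*} [Field F]

/-- Upper unitriangular. -/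
def up (s : F) : Matrix.SpecialLinearGroup (Fin 2) F := ⟨!![1, s; 0, 1], by simp [Matrix.det_fin_two_of]⟩

/-- Lower unitriangular. -/
def lo (s : F) : Matrix.SpecialLinearGroup (Fin 2) F := ⟨!![1, 0; s, 1], by simp [Matrix.det_fin_two_of]⟩

/-- The Weyl element. -/
def wy : Matrix.SpecialLinearGroup (Fin 2) F := ⟨!![0, 1; -1, 0], by simp [Matrix.det_fin_two_of]⟩

/-- The inverse of the Weyl element. -/
def wyI : Matrix.SpecialLinearGroup (Fin 2) F := ⟨!![0, -1; 1, 0], by simp [Matrix.det_fin_two_of]⟩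

/-- A diagonal element. -/
def dg (a : F) (ha : a ≠ 0) : Matrix.SpecialLinearGroup (Fin 2) F :=
  ⟨!![a, 0; 0, a⁻¹], by simp [Matrix.det_fin_two_of, ha]⟩

theorem ext4 {x y : Matrix.SpecialLinearGroup (Fin 2) F} (h00 : x.1 0 0 = y.1 0 0) (h01 : x.1 0 1 = y.1 0 1)
    (h10 : x.1 1 0 = y.1 1 0) (h11 : x.1 1 1 = y.1 1 1) : x = y := by
  apply Subtype.ext
  ext i j
  fin_cases i <;> fin_cases j <;> assumption

/-- The entries of a product. -/
theorem mul00 (x y : Matrix.SpecialLinearGroup (Fin 2) F) :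
    (x * y).1 0 0 = x.1 0 0 * y.1 0 0 + x.1 0 1 * y.1 1 0 ∧
      (x * y).1 0 1 = x.1 0 0 * y.1 0 1 + x.1 0 1 * y.1 1 1 ∧
      (x * y).1 1 0 = x.1 1 0 * y.1 0 0 + x.1 1 1 * y.1 1 0 ∧
      (x * y).1 1 1 = x.1 1 0 * y.1 0 1 + x.1 1 1 * y.1 1 1 := by
  simp [Matrix.mul_apply, Fin.sum_univ_two]

@[simp] theorem up_val (s : F) : (up s).1 = !![1, s; 0, 1] := rfl
@[simp] theorem lo_val (s : F) : (lo s).1 = !![1, 0; s, 1] := rfl
@[simp] theorem wy_val : (wy : Matrix.SpecialLinearGroup (Fin 2) F).1 = !![0, 1; -1, 0] := rfl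
@[simp] theorem wyI_val : (wyI : Matrix.SpecialLinearGroup (Fin 2) F).1 = !![0, -1; 1, 0] := rfl
@[simp] theorem dg_val (a : F) (ha : a ≠ 0) : (dg a ha).1 = !![a, 0; 0, a⁻¹] := rfl

theorem up_zero : up (0 : F) = 1 := by
  apply ext4 <;> simp

theorem up_add (s t : F) : up (s + t) = up s * up t := by
  apply ext4 <;> simp [mul00, add_comm]

theorem lo_eq (t : F) : wy * up (-t) = lo t * wy := by
  apply ext4 <;> simp [mul00]

theorem up_dg (s a : F) (ha : a ≠ 0) : up s * dg a ha = dg a ha * up (s / (a * a)) := by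
  apply ext4 <;> simp [mul00]
  field_simp

variable {p : ℕ} [Fact p.Prime] [CharP F p]

theorem pow_char_of_trace {x : Matrix.SpecialLinearGroup (Fin 2) F} (h : x.1 0 0 + x.1 1 1 = 2) :
    x ^ p = 1 := by
  set N : Matrix (Fin 2) (Fin 2) F := x.1 - 1 with hN
  have hdet : x.1 0 0 * x.1 1 1 - x.1 0 1 * x.1 1 0 = 1 := by
    rw [← Matrix.det_fin_two]; exact x.2
  have hN2 : N ^ 2 = 0 := by
    rw [sq]
    ext i j
    fin_cases i <;> fin_cases j <;>
      simp [hN, Matrix.mul_apply, Fin.sum_univ_two, Matrix.sub_apply]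
    · linear_combination (x.1 0 0) * h - hdet
    · linear_combination (x.1 0 1) * h
    · linear_combination (x.1 1 0) * h
    · linear_combination (x.1 1 1) * h - hdet
  have hp2 : 2 ≤ p := (Fact.out : p.Prime).two_le
  have hNp : N ^ p = 0 := by
    rw [show p = 2 + (p - 2) by omega, pow_add, hN2, zero_mul]
  apply Subtype.ext
  change (x ^ p).1 = (1 : Matrix (Fin 2) (Fin 2) F)
  rw [Matrix.SpecialLinearGroup.coe_pow, show x.1 = N + 1 by rw [hN, sub_add_cancel],
    add_pow_char_of_commute p (Commute.one_right N), hNp, one_pow, zero_add]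

variable {V : Type*} [AddCommGroup V] (σ : Matrix.SpecialLinearGroup (Fin 2) F →* AddMonoid.End V)
  (B : AddSubgroup V)

theorem act_mul (x y : Matrix.SpecialLinearGroup (Fin 2) F) (v : V) : σ (x * y) v = σ x (σ y v) := by
  rw [map_mul]; rfl

theorem act_one (v : V) : σ 1 v = v := by
  rw [map_one]; rfl

theorem act_cancel (x : Matrix.SpecialLinearGroup (Fin 2) F) (v : V) : σ x⁻¹ (σ x v) = v := by
  rw [← act_mul, inv_mul_cancel, act_one]

theorem fpf (hB : ∀ (s : F), ∀ v ∈ B, σ (up s) v = v)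
    (hfix : ∀ (s : F), s ≠ 0 → ∀ v, σ (up s) v = v → v ∈ B)
    (hdiff : ∀ (s : F) (v : V), σ (up s) v - v ∈ B)
    (hsplit : ∀ v, ∃ b ∈ B, ∃ b' ∈ B, v = b + σ wy b')
    (hindep : ∀ b ∈ B, σ wy b ∈ B → b = 0)
    (hexp : ∀ v : V, p • v = 0)
    {x : Matrix.SpecialLinearGroup (Fin 2) F} (hx : x ^ p ≠ 1) {v : V} (hv : σ x v = v) : v = 0 := by
  have hneg : ∀ (b : V), b ∈ B → ∀ c ∈ B, b + σ wy c = 0 → b = 0 ∧ c = 0 := by
    intro b hb c hc h
    have h1 : σ wy c ∈ B := by
      rw [eq_neg_of_add_eq_zero_right h]; exact neg_mem hb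
    have hc0 := hindep c hc h1
    rw [hc0, map_zero, add_zero] at h
    exact ⟨h, hc0⟩
  have huniq : ∀ b ∈ B, ∀ c ∈ B, ∀ b₁ ∈ B, ∀ c₁ ∈ B,
      b + σ wy c = b₁ + σ wy c₁ → b = b₁ ∧ c = c₁ := by
    intro b hb c hc b₁ hb₁ c₁ hc₁ h
    obtain ⟨h1, h2⟩ := hneg (b - b₁) (sub_mem hb hb₁) (c - c₁) (sub_mem hc hc₁) (by
      rw [map_sub, show b - b₁ + (σ wy c - σ wy c₁) = (b + σ wy c) - (b₁ + σ wy c₁) by abel, h, sub_self])
    exact ⟨sub_eq_zero.1 h1, sub_eq_zero.1 h2⟩
  have hdg : ∀ (a : F) (ha : a ≠ 0), ∀ b ∈ B, σ (dg a ha) b ∈ B := fun a ha b hb => by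
    refine hfix 1 one_ne_zero _ ?_
    rw [← act_mul, up_dg, act_mul, hB _ b hb]
  -- the element `w(s)` swaps the two halves
  have hws : ∀ (s : F) (hs : s ≠ 0),
      up s * lo (-s⁻¹) * up s = dg s hs * wy ∧ dg s hs * wy = wy * dg s⁻¹ (inv_ne_zero hs) := by
    intro s hs
    constructor <;> apply ext4 <;> simp [mul00, hs]
  let M : F → V → V := fun s z => σ (up s) z - z
  have hMB : ∀ s z, M s z ∈ B := hdiff
  have hup : ∀ s z, σ (up s) z = z + M s z := fun s z => by simp only [M]; abel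
  have hlo : ∀ (t : F) (z : V), ∃ c ∈ B, σ (lo t) z = z + σ wy c := fun t z => by
    refine ⟨σ (up (-t)) (σ wy⁻¹ z) - σ wy⁻¹ z, hdiff _ _, ?_⟩
    have h1 : σ wy (σ wy⁻¹ z) = z := by rw [← act_mul, mul_inv_cancel, act_one]
    rw [map_sub, ← act_mul, lo_eq, act_mul, h1]
    abel
  have key : ∀ (s : F) (hs : s ≠ 0), (∀ b ∈ B, ∃ c ∈ B, σ (dg s hs * wy) b = σ wy c ∧ M s (σ wy c) = -b) ∧
      (∀ c ∈ B, σ (dg s hs * wy) (σ wy c) = M s (σ wy c)) := by
    intro s hs
    obtain ⟨he, he'⟩ := hws s hs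
    refine ⟨fun b hb => ?_, fun c hc => ?_⟩
    · obtain ⟨c, hc, hcz⟩ := hlo (-s⁻¹) b
      have h1 : σ (dg s hs * wy) b = (b + M s (σ wy c)) + σ wy c := by
        rw [← he, act_mul, act_mul, hB s b hb, hcz, map_add, hB s b hb, hup s (σ wy c)]
        abel
      have h2 : σ (dg s hs * wy) b = σ wy (σ (dg s⁻¹ (inv_ne_zero hs)) b) := by rw [he', act_mul]
      obtain ⟨h3, h4⟩ := huniq _ (add_mem hb (hMB s _)) c hc 0 (zero_mem B) _ (hdg _ (inv_ne_zero hs) b hb)
        (by rw [zero_add, ← h2, h1])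
      exact ⟨c, hc, by rw [h2, h4], eq_neg_of_add_eq_zero_right h3⟩
    · set z := σ wy c with hz
      obtain ⟨c₁, hc₁, hcz⟩ := hlo (-s⁻¹) (M s z)
      obtain ⟨c₂, hc₂, hcz₂⟩ := hlo (-s⁻¹) z
      have hwwB : σ (wy * wy) c ∈ B := by
        refine hfix 1 one_ne_zero _ ?_
        have hcomm : up (1 : F) * (wy * wy) = wy * wy * up 1 := by
          apply ext4 <;> simp [mul00]
        rw [← act_mul, hcomm, act_mul, hB 1 c hc]
      have h2 : σ (dg s hs * wy) z ∈ B := by
        rw [hz, ← act_mul, mul_assoc, act_mul]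
        exact hdg s hs _ hwwB
      have hlz : σ (lo (-s⁻¹)) z = z := by
        have h1 : lo (-s⁻¹) * wy = wy * up (- -s⁻¹) := (lo_eq _).symm
        rw [hz, ← act_mul, h1, act_mul, hB _ c hc]
      have h3 : σ (dg s hs * wy) z = (M s z + M s z + M s (σ wy c₁)) + σ wy (c + c₁) := by
        rw [← he, act_mul, act_mul, hup s z, map_add, hlz, hcz, map_add, map_add, hup s z,
          hB s _ (hMB s z), hup s (σ wy c₁), map_add, ← hz]
        abel
      obtain ⟨-, h5⟩ := huniq _ h2 0 (zero_mem B) _ (add_mem (add_mem (hMB s z) (hMB s z)) (hMB s _))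
        _ (add_mem hc hc₁) (by rw [map_zero, add_zero]; exact h3)
      have h6 : σ wy c₁ = -z := by
        rw [hz]
        have := congrArg (σ wy) h5
        rw [map_zero, map_add] at this
        exact eq_neg_of_add_eq_zero_right this.symm
      have h7 : M s (σ wy c₁) = -M s z := by
        simp only [M, h6, map_neg]; abel
      rw [h3, h7, ← h5, map_zero]
      abel
  have hwy : dg (1 : F) one_ne_zero * wy = wy := by
    apply ext4 <;> simp [mul00]
  -- the central involution inverts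
  have hnegone : ∀ z, σ (wy * wy) z = -z := by
    intro z
    obtain ⟨b, hb, c, hc, rfl⟩ := hsplit z
    obtain ⟨hk1, hk2⟩ := key 1 one_ne_zero
    rw [hwy] at hk1 hk2
    obtain ⟨d, hd, hd1, hd2⟩ := hk1 b hb
    have hb' : σ (wy * wy) b = -b := by rw [act_mul, hd1, hk2 d hd, hd2]
    obtain ⟨e, he, he1, he2⟩ := hk1 _ (hMB 1 (σ wy c))
    have hc' : σ (wy * wy) (σ wy c) = -σ wy c := by
      have hMM : σ wy (σ wy c) = M 1 (σ wy c) := hk2 c hc
      obtain ⟨f, hf, hf1, hf2⟩ := hk1 c hc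
      have : σ (wy * wy) c = -c := by rw [act_mul, hf1, hk2 f hf, hf2]
      rw [← act_mul, mul_assoc, act_mul _ wy, this, map_neg]
    rw [map_add, hb', hc', neg_add]
  -- the main case
  have main : ∀ y : Matrix.SpecialLinearGroup (Fin 2) F, y.1 1 0 ≠ 0 → y.1 0 0 + y.1 1 1 ≠ 2 →
      ∀ z, σ y z = z → z = 0 := by
    intro y hc htr z hz
    set r := y.1 1 0 with hr
    set s := -r⁻¹ with hs
    have hs0 : s ≠ 0 := neg_ne_zero.2 (inv_ne_zero hc)
    set τ := y.1 0 0 + y.1 1 1 with hτ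
    set k := -(y.1 0 0) / r with hk
    have hconj : up k * y = dg s hs0 * wy * up (-(τ * s)) * up k := by
      have hdet : y.1 0 0 * y.1 1 1 - y.1 0 1 * y.1 1 0 = 1 := by
        rw [← Matrix.det_fin_two]; exact y.2
      rw [← hr] at hdet
      apply ext4 <;> simp [mul00, hk, hs, hτ, ← hr] <;> field_simp
      all_goals first
        | linear_combination hdet
        | linear_combination -hdet
        | linear_combination 2 * hdet
        | linear_combination -2 * hdet
        | linear_combination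
    set z' := σ (up k) z with hz'
    have hfix' : σ (dg s hs0 * wy) (σ (up (-(τ * s))) z') = z' := by
      rw [← act_mul, hz', ← act_mul, ← hconj, act_mul, hz]
    obtain ⟨b, hb, c, hc', hzbc⟩ := hsplit z'
    obtain ⟨hk1, hk2⟩ := key s hs0
    set e := -(τ * s) with he
    obtain ⟨d, hd, hd1, hd2⟩ := hk1 _ (add_mem hb (hMB e (σ wy c)))
    have h1 : σ (dg s hs0 * wy) (σ (up e) z') = M s (σ wy c) + σ wy d := by
      rw [hzbc, map_add, hB e b hb, hup e (σ wy c),
        show b + (σ wy c + M e (σ wy c)) = (b + M e (σ wy c)) + σ wy c by abel, map_add, hd1, hk2 c hc']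
      abel
    obtain ⟨e1, e2⟩ := huniq _ (hMB s (σ wy c)) d hd b hb c hc' (by rw [← h1, hfix', hzbc])
    rw [e2, ← e1] at hd2
    have h4 : M (e + s + s) (σ wy c) = 0 := by
      have hadd : ∀ a a' : F, M (a + a') (σ wy c) = M a (σ wy c) + M a' (σ wy c) := fun a a' => by
        simp only [M]
        rw [up_add, act_mul, hup a' (σ wy c), map_add, hB a _ (hMB a' _), hup a (σ wy c)]
        simp only [M]
        abel
      rw [hadd, hadd]
      have : M s (σ wy c) + M s (σ wy c) + M e (σ wy c) = 0 := by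
        nth_rewrite 1 [hd2]; abel
      rw [← this]; abel
    have hne : e + s + s ≠ 0 := by
      intro h0
      have : s * (2 - τ) = 0 := by rw [← h0, he]; ring
      exact htr (sub_eq_zero.1 ((mul_eq_zero.1 this).resolve_left hs0)).symm
    have hc0 : c = 0 := hindep c hc' (hfix _ hne _ (sub_eq_zero.1 h4))
    have hz0 : z' = 0 := by
      rw [hzbc, ← e1, hc0]
      simp [M]
    have := congrArg (σ (up k)⁻¹) hz0
    rwa [hz', act_cancel, map_zero] at this
  -- reduction to the main case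
  have htr : x.1 0 0 + x.1 1 1 ≠ 2 := fun h => hx (pow_char_of_trace h)
  have hdet : x.1 0 0 * x.1 1 1 - x.1 0 1 * x.1 1 0 = 1 := by
    rw [← Matrix.det_fin_two]; exact x.2
  have conjmain : ∀ g : Matrix.SpecialLinearGroup (Fin 2) F, (g * x * g⁻¹).1 1 0 ≠ 0 →
      (g * x * g⁻¹).1 0 0 + (g * x * g⁻¹).1 1 1 = x.1 0 0 + x.1 1 1 → v = 0 := by
    intro g h1 h2
    have := main _ h1 (h2 ▸ htr) (σ g v) (by rw [← act_mul, inv_mul_cancel_right, act_mul, hv])
    have := congrArg (σ g⁻¹) this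
    rwa [act_cancel, map_zero] at this
  rcases ne_or_eq (x.1 1 0) 0 with hc | hc
  · exact main x hc htr v hv
  rcases ne_or_eq (x.1 0 1) 0 with hb | hb
  · have hwi : (wy : Matrix.SpecialLinearGroup (Fin 2) F)⁻¹ = wyI := by
      apply inv_eq_of_mul_eq_one_right
      apply ext4 <;> simp [mul00]
    refine conjmain wy ?_ ?_ <;> rw [hwi] <;> simp [mul00, hb]
    ring
  rcases ne_or_eq (x.1 0 0) (x.1 1 1) with had | had
  · have hli : (lo (1 : F))⁻¹ = lo (-1) := by
      apply inv_eq_of_mul_eq_one_right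
      apply ext4 <;> simp [mul00]
    refine conjmain (lo 1) ?_ ?_ <;> rw [hli] <;> simp [mul00, hb, hc]
    exact fun h => had (by linear_combination h)
  · have h1 : x.1 0 0 * x.1 0 0 = 1 := by
      rw [hb, zero_mul, sub_zero, ← had] at hdet; exact hdet
    rcases mul_self_eq_one_iff.1 h1 with ha | ha
    · exact absurd (by rw [show x = 1 from ext4 (by simp [ha]) (by simp [hb]) (by simp [hc]) (by simp [← had, ha]), one_pow]) hx
    · have hxw : x = wy * wy := ext4 (by simp [mul00, ha]) (by simp [mul00, hb]) (by simp [mul00, hc])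
        (by simp [mul00, ← had, ha])
      rw [hxw, hnegone] at hv
      have h2 : (2 : ℕ) • v = 0 := by
        rw [two_nsmul]; nth_rewrite 1 [← hv]; exact neg_add_cancel v
      have hp2 : p ≠ 2 := by
        rintro rfl
        refine hx ?_
        have : (-1 : F) = 1 := CharTwo.neg_eq 1
        rw [show x = 1 from ext4 (by simp [ha, this]) (by simp [hb]) (by simp [hc]) (by simp [← had, ha, this]), one_pow]
      have hcop : Nat.Coprime 2 p := (Nat.coprime_primes Nat.prime_two Fact.out).2 (Ne.symm hp2)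
      have ho : addOrderOf v ∣ Nat.gcd 2 p :=
        Nat.dvd_gcd (addOrderOf_dvd_of_nsmul_eq_zero h2) (addOrderOf_dvd_of_nsmul_eq_zero (hexp v))
      rw [hcop] at ho
      exact AddMonoid.addOrderOf_eq_one_iff.1 (Nat.dvd_one.1 ho)

end Cfsg.Agent.Lib.CharP.SL2Fix
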