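import Cfsg.Agent.Lib.CharP.Irreducible

/-!
# Weakly closed subgroups and large subgroups

Owner: helper55.

`cj Q g` is the conjugate of `Q` by `g` (definitionally `Q.map (MulAut.conj g).toMonoidHom`).
-/

set_option autoImplicit false
set_option linter.style.haveILetI false

open Cfsg
open scoped Pointwise commutatorElement

namespace Cfsg.Agent.Lib.CharP

variable {G : Type*} [Group G] {p : ℕ}

/-- The conjugate `g Q g⁻¹`. -/
abbrev cj (Q : Subgroup G) (g : G) : Subgroup G := Q.map (MulAut.conj g).toMonoidHom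

theorem cj_cj (Q : Subgroup G) (g h : G) : cj (cj Q g) h = cj Q (h * g) := by
  rw [cj, cj, cj, Subgroup.map_map]
  congr 1
  ext x
  simp [mul_assoc]

theorem cj_one (Q : Subgroup G) : cj Q 1 = Q := by
  ext x; simp [cj]

theorem cj_inv_cj (Q : Subgroup G) (g : G) : cj (cj Q g) g⁻¹ = Q := by
  rw [cj_cj, inv_mul_cancel, cj_one]

theorem cj_mono {Q R : Subgroup G} (h : Q ≤ R) (g : G) : cj Q g ≤ cj R g := Subgroup.map_mono h

theorem mem_normalizer_iff_cj {Q : Subgroup G} {g : G} :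
    g ∈ Subgroup.normalizer (Q : Set G) ↔ cj Q g = Q :=
  Subgroup.mem_normalizer_iff_map_conj_eq

theorem normalizer_cj (Q : Subgroup G) (g : G) :
    Subgroup.normalizer ((cj Q g : Subgroup G) : Set G) = cj (Subgroup.normalizer (Q : Set G)) g := by
  ext x
  rw [mem_normalizer_iff_cj, cj_cj]
  constructor
  · intro h
    refine ⟨g⁻¹ * x * g, ?_, by simp [mul_assoc]⟩
    rw [SetLike.mem_coe, mem_normalizer_iff_cj, show g⁻¹ * x * g = g⁻¹ * (x * g) by group, ← cj_cj Q, h,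
      cj_inv_cj]
  · rintro ⟨y, hy, rfl⟩
    rw [show (MulAut.conj g).toMonoidHom y * g = g * y by simp [mul_assoc], ← cj_cj Q,
      mem_normalizer_iff_cj.1 hy]

theorem coe_smul_sylow (T : Sylow p G) (g : G) : ((g • T : Sylow p G) : Subgroup G) = cj (T : Subgroup G) g :=
  rfl

variable {Q : Subgroup G}

/-- Weak closure holds in every Sylow subgroup containing `Q`. -/
theorem wc_apply [Finite G] [Fact p.Prime] (h : IsWeaklyClosedSubgroup p Q) (T : Sylow p G)
    (hQT : Q ≤ (T : Subgroup G)) {g : G} (hg : cj Q g ≤ (T : Subgroup G)) : cj Q g = Q := by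
  obtain ⟨T₀, hQ₀, hw⟩ := h
  obtain ⟨a, rfl⟩ := MulAction.exists_smul_eq G T₀ T
  have h1 : cj Q a⁻¹ ≤ (T₀ : Subgroup G) := by
    have := cj_mono hQT a⁻¹
    rwa [coe_smul_sylow, cj_inv_cj] at this
  have h2 : cj Q (a⁻¹ * g) ≤ (T₀ : Subgroup G) := by
    have := cj_mono hg a⁻¹
    rwa [coe_smul_sylow, cj_inv_cj, cj_cj] at this
  have e1 : cj Q a⁻¹ = Q := hw a⁻¹ h1
  have e2 : cj Q (a⁻¹ * g) = Q := hw _ h2
  have e3 : cj Q a = Q := by
    conv_lhs => rw [← e1]
    rw [cj_cj, mul_inv_cancel, cj_one]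
  calc cj Q g = cj (cj Q (a⁻¹ * g)) a := by rw [cj_cj]; congr 1; group
    _ = Q := by rw [e2, e3]

/-- A weakly closed `Q` is normalized by each `p`-group containing it, and by its normalizer. -/
theorem wc_normalizer_le [Finite G] [Fact p.Prime] (h : IsWeaklyClosedSubgroup p Q) {R : Subgroup G}
    (hR : IsPGroup p R) (hQR : Q ≤ R) :
    Subgroup.normalizer (R : Set G) ≤ Subgroup.normalizer (Q : Set G) := by
  obtain ⟨T, hT⟩ := hR.exists_le_sylow
  intro n hn
  rw [mem_normalizer_iff_cj]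
  exact wc_apply h T (hQR.trans hT) (((cj_mono hQR n).trans (mem_normalizer_iff_cj.1 hn).le).trans hT)

theorem wc_le_normalizer [Finite G] [Fact p.Prime] (h : IsWeaklyClosedSubgroup p Q) {R : Subgroup G}
    (hR : IsPGroup p R) (hQR : Q ≤ R) : R ≤ Subgroup.normalizer (Q : Set G) :=
  Subgroup.le_normalizer.trans (wc_normalizer_le h hR hQR)

theorem wc_conj [Finite G] [Fact p.Prime] (hQp : IsPGroup p Q) (h : IsWeaklyClosedSubgroup p Q) {g : G}
    (hg : cj Q g ≤ Subgroup.normalizer (Q : Set G)) : cj Q g = Q := by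
  obtain ⟨T, hT⟩ := (((hQp.map _).to_sup_of_normal_right' hQp hg) :
    IsPGroup p (cj Q g ⊔ Q : Subgroup G)).exists_le_sylow
  exact wc_apply h T (le_sup_right.trans hT) (le_sup_left.trans hT)

/-- The normalizer condition in a `p`-group, in ambient form. -/
theorem exists_mem_normalizer_not_mem [Finite G] [Fact p.Prime] {T R : Subgroup G} (hT : IsPGroup p T)
    (hRT : R ≤ T) (hne : ¬ T ≤ R) : ∃ x ∈ T, x ∈ Subgroup.normalizer (R : Set G) ∧ x ∉ R := by
  haveI := hT.isNilpotent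
  have hlt : R.subgroupOf T < ⊤ := lt_top_iff_ne_top.2 fun h => hne (Subgroup.subgroupOf_eq_top.1 h)
  obtain ⟨x, hx, hxR⟩ := SetLike.exists_of_lt (Group.normalizerCondition_of_isNilpotent _ hlt)
  rw [← Subgroup.subgroupOf_normalizer_eq hRT] at hx
  exact ⟨x, x.2, hx, hxR⟩

/-- If mutually normalizing conjugates of `Q` are equal, `Q` is normalized by each Sylow subgroup containing it. -/
theorem sylow_le_normalizer_of_mutual [Finite G] [Fact p.Prime]
    (hcond : ∀ g : G, cj Q g ≤ Subgroup.normalizer (Q : Set G) →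
      Q ≤ Subgroup.normalizer ((cj Q g : Subgroup G) : Set G) → cj Q g = Q)
    (T : Sylow p G) (hQT : Q ≤ (T : Subgroup G)) : (T : Subgroup G) ≤ Subgroup.normalizer (Q : Set G) := by
  set R := (T : Subgroup G) ⊓ Subgroup.normalizer (Q : Set G) with hR
  by_contra hne
  obtain ⟨x, hxT, hxN, hxR⟩ := exists_mem_normalizer_not_mem T.isPGroup' (inf_le_left : R ≤ _)
    fun h => hne (h.trans inf_le_right)
  have hQR : Q ≤ R := le_inf hQT Subgroup.le_normalizer
  have hxR' : cj R x = R := mem_normalizer_iff_cj.1 hxN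
  have h1 : cj Q x ≤ R := (cj_mono hQR x).trans hxR'.le
  have h2 : R ≤ Subgroup.normalizer ((cj Q x : Subgroup G) : Set G) := by
    rw [normalizer_cj]
    exact hxR'.ge.trans (cj_mono inf_le_right x)
  exact hxR ⟨hxT, mem_normalizer_iff_cj.2 (hcond x (h1.trans inf_le_right) (hQR.trans h2))⟩

theorem wc_of_mutual [Finite G] [Fact p.Prime] (hQp : IsPGroup p Q)
    (hcond : ∀ g : G, cj Q g ≤ Subgroup.normalizer (Q : Set G) →
      Q ≤ Subgroup.normalizer ((cj Q g : Subgroup G) : Set G) → cj Q g = Q) :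
    IsWeaklyClosedSubgroup p Q := by
  obtain ⟨T, hT⟩ := hQp.exists_le_sylow
  refine ⟨T, hT, fun g hg => ?_⟩
  have hTQ := sylow_le_normalizer_of_mutual hcond T hT
  have h1 : Q ≤ ((g⁻¹ • T : Sylow p G) : Subgroup G) := by
    rw [coe_smul_sylow]
    have := cj_mono hg g⁻¹
    rwa [cj_inv_cj] at this
  have h2 := sylow_le_normalizer_of_mutual hcond (g⁻¹ • T) h1
  refine hcond g (hg.trans hTQ) ?_
  rw [normalizer_cj]
  refine hT.trans ?_
  have := cj_mono h2 g
  rwa [coe_smul_sylow, cj_cj, mul_inv_cancel, cj_one] at this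

theorem wc_of_normalizer [Finite G] [Fact p.Prime] (hQp : IsPGroup p Q)
    (hcond : ∀ R : Subgroup G, IsPGroup p R → Q ≤ R →
      Subgroup.normalizer (R : Set G) ≤ Subgroup.normalizer (Q : Set G)) : IsWeaklyClosedSubgroup p Q := by
  obtain ⟨T, hT⟩ := hQp.exists_le_sylow
  refine ⟨T, hT, fun g hg => ?_⟩
  have hTQ : (T : Subgroup G) ≤ Subgroup.normalizer (Q : Set G) :=
    Subgroup.le_normalizer.trans (hcond _ T.isPGroup' hT)
  have h1 : Q ≤ ((g⁻¹ • T : Sylow p G) : Subgroup G) := by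
    rw [coe_smul_sylow]
    have := cj_mono hg g⁻¹
    rwa [cj_inv_cj] at this
  -- both `T` and `g⁻¹ T g` lie in `N(Q)`, so they are conjugate there
  have hTQ' : ((g⁻¹ • T : Sylow p G) : Subgroup G) ≤ Subgroup.normalizer (Q : Set G) :=
    Subgroup.le_normalizer.trans (hcond _ (g⁻¹ • T).isPGroup' h1)
  obtain ⟨n, hn⟩ := MulAction.exists_smul_eq ↥(Subgroup.normalizer (Q : Set G))
    (T.subtype hTQ) ((g⁻¹ • T).subtype hTQ')
  have hn' : cj (T : Subgroup G) (n : G) = cj (T : Subgroup G) g⁻¹ := by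
    have h3 := congrArg (fun S : Sylow p ↥(Subgroup.normalizer (Q : Set G)) =>
      (S : Subgroup ↥(Subgroup.normalizer (Q : Set G))).map (Subgroup.normalizer (Q : Set G)).subtype) hn
    simp only [Sylow.coe_subtype, Subgroup.map_subgroupOf_eq_of_le hTQ'] at h3
    rw [← coe_smul_sylow T g⁻¹, ← h3]
    ext z
    constructor
    · rintro ⟨t, ht, rfl⟩
      exact ⟨n * ⟨t, hTQ ht⟩ * n⁻¹, ⟨⟨t, hTQ ht⟩, ht, rfl⟩, rfl⟩
    · rintro ⟨_, ⟨t, ht, rfl⟩, rfl⟩
      exact ⟨t, ht, rfl⟩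
  have hgn : g * (n : G) ∈ Subgroup.normalizer ((T : Subgroup G) : Set G) := by
    rw [mem_normalizer_iff_cj, ← cj_cj, hn', cj_cj, mul_inv_cancel, cj_one]
  have h4 : g * (n : G) ∈ Subgroup.normalizer (Q : Set G) := hcond _ T.isPGroup' hT hgn
  have h5 := (Subgroup.normalizer (Q : Set G)).mul_mem h4 (inv_mem n.2)
  rw [mul_inv_cancel_right] at h5
  exact mem_normalizer_iff_cj.1 h5

/-- The weakly closed `Q` in a subgroup `K`: `H`-conjugates inside `K` are `K`-conjugates. -/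
theorem wc_conj_in [Finite G] [Fact p.Prime] (hQp : IsPGroup p Q) (h : IsWeaklyClosedSubgroup p Q)
    {K : Subgroup G} (hQK : Q ≤ K) {g : G} (hg : cj Q g ≤ K) : ∃ k ∈ K, cj Q g = cj Q k := by
  obtain ⟨S, hS⟩ := (hQp.comap_subtype (K := K)).exists_le_sylow
  obtain ⟨S', hS'⟩ := ((hQp.map (MulAut.conj g).toMonoidHom).comap_subtype (K := K)).exists_le_sylow
  obtain ⟨k, hk⟩ := MulAction.exists_smul_eq K S' S
  obtain ⟨T, hT⟩ := (S.isPGroup'.map K.subtype).exists_le_sylow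
  have hQT : Q ≤ (T : Subgroup G) := fun q hq => hT ⟨⟨q, hQK hq⟩, hS hq, rfl⟩
  have h2 : cj Q ((k : G) * g) ≤ (T : Subgroup G) := by
    rw [← cj_cj]
    rintro _ ⟨z, hz, rfl⟩
    refine hT ⟨k * ⟨z, hg hz⟩ * k⁻¹, ?_, rfl⟩
    rw [← hk]
    exact ⟨⟨z, hg hz⟩, hS' hz, rfl⟩
  refine ⟨(k : G)⁻¹, inv_mem k.2, ?_⟩
  rw [show (k : G)⁻¹ = (k : G)⁻¹ * 1 by group]
  conv_rhs => rw [mul_one, ← wc_apply h T hQT h2, cj_cj, inv_mul_cancel_left]

theorem weakClosure_eq [Finite G] [Fact p.Prime] (hQp : IsPGroup p Q) (h : IsWeaklyClosedSubgroup p Q)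
    {K : Subgroup G} (hQK : Q ≤ K) : weakClosure Q K = ⨆ k : K, cj Q (k : G) := by
  refine le_antisymm (iSup_le fun g => ?_) (iSup_le fun k => ?_)
  · obtain ⟨k, hk, he⟩ := wc_conj_in hQp h hQK g.2
    exact le_iSup_of_le ⟨k, hk⟩ he.le
  · have : cj Q (k : G) ≤ K := (cj_mono hQK _).trans
      (mem_normalizer_iff_cj.1 (Subgroup.le_normalizer k.2)).le
    exact le_iSup_of_le (⟨(k : G), this⟩ : {g : G // Q.map (MulAut.conj g).toMonoidHom ≤ K}) le_rfl

theorem le_weakClosure {K : Subgroup G} (hQK : Q ≤ K) : Q ≤ weakClosure Q K :=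
  le_iSup_of_le (⟨1, le_of_eq_of_le (cj_one Q) hQK⟩ : {g : G // Q.map (MulAut.conj g).toMonoidHom ≤ K})
    (cj_one Q).ge

theorem weakClosure_le (Q K : Subgroup G) : weakClosure Q K ≤ K := iSup_le fun g => g.2

theorem weakClosure_mono {K L : Subgroup G} (hKL : K ≤ L) : weakClosure Q K ≤ weakClosure Q L :=
  iSup_le fun g => le_iSup_of_le (⟨(g : G), g.2.trans hKL⟩ : {g : G // Q.map (MulAut.conj g).toMonoidHom ≤ L}) le_rfl

theorem le_normalizer_weakClosure (Q K : Subgroup G) :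
    Subgroup.normalizer (K : Set G) ≤ Subgroup.normalizer (weakClosure Q K : Set G) := by
  have key : ∀ n ∈ Subgroup.normalizer (K : Set G), cj (weakClosure Q K) n ≤ weakClosure Q K := by
    intro n hn
    rw [weakClosure, cj, Subgroup.map_iSup, iSup_le_iff]
    intro g
    have h1 : cj Q (n * g) ≤ K := by
      rw [← cj_cj]; exact (cj_mono g.2 n).trans (mem_normalizer_iff_cj.1 hn).le
    exact le_iSup_of_le (⟨n * g, h1⟩ : {g : G // Q.map (MulAut.conj g).toMonoidHom ≤ K}) (cj_cj Q _ n).le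
  intro n hn
  refine mem_normalizer_iff_cj.2 (le_antisymm (key n hn) ?_)
  calc weakClosure Q K = cj (cj (weakClosure Q K) n⁻¹) n := by rw [cj_cj, mul_inv_cancel, cj_one]
    _ ≤ cj (weakClosure Q K) n := cj_mono (key _ (inv_mem hn)) n

/-- `Q` is weakly closed in subgroups containing it. -/
theorem wc_subgroupOf [Finite G] [Fact p.Prime] (hQp : IsPGroup p Q) (h : IsWeaklyClosedSubgroup p Q)
    {K : Subgroup G} (hQK : Q ≤ K) : IsWeaklyClosedSubgroup p (Q.subgroupOf K) := by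
  obtain ⟨S, hS⟩ := (hQp.comap_subtype (K := K)).exists_le_sylow
  obtain ⟨T, hT⟩ := (S.isPGroup'.map K.subtype).exists_le_sylow
  refine ⟨S, hS, fun k hk => ?_⟩
  have hQT : Q ≤ (T : Subgroup G) := fun q hq => hT ⟨⟨q, hQK hq⟩, hS hq, rfl⟩
  have hkT : cj Q (k : G) ≤ (T : Subgroup G) := by
    rintro _ ⟨q, hq, rfl⟩
    exact hT ⟨k * ⟨q, hQK hq⟩ * k⁻¹, hk ⟨⟨q, hQK hq⟩, hq, rfl⟩, rfl⟩
  have he := wc_apply h T hQT hkT
  refine le_antisymm ?_ ?_
  · rintro _ ⟨q, hq, rfl⟩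
    exact he.le ⟨q, hq, rfl⟩
  · intro q hq
    obtain ⟨q', hq', hqq⟩ := he.ge (show (q : G) ∈ Q from hq)
    exact ⟨⟨q', hQK hq'⟩, hq', Subtype.ext hqq⟩

/-- `Q N / N` is weakly closed in `G / N`. -/
theorem wc_map_mk' [Finite G] [Fact p.Prime] (hQp : IsPGroup p Q) (h : IsWeaklyClosedSubgroup p Q)
    (N : Subgroup G) [N.Normal] : IsWeaklyClosedSubgroup p (Q.map (QuotientGroup.mk' N)) := by
  obtain ⟨T, hT⟩ := hQp.exists_le_sylow
  set f := QuotientGroup.mk' N
  refine ⟨T.mapSurjective (QuotientGroup.mk'_surjective N), ?_, fun q hq => ?_⟩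
  · rw [Sylow.coe_mapSurjective]; exact Subgroup.map_mono hT
  obtain ⟨g, rfl⟩ := QuotientGroup.mk'_surjective N q
  have hconj : ∀ g : G, (Q.map f).map (MulAut.conj (f g)).toMonoidHom = (cj Q g).map f := fun g => by
    rw [cj, Subgroup.map_map, Subgroup.map_map]
    congr 1
  rw [hconj] at hq ⊢
  rw [Sylow.coe_mapSurjective] at hq
  have hgN : cj Q g ≤ (T : Subgroup G) ⊔ N := by
    rw [Subgroup.map_le_iff_le_comap, Subgroup.comap_map_eq] at hq
    rwa [QuotientGroup.ker_mk'] at hq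
  obtain ⟨m, hm, he⟩ := wc_conj_in hQp h (hT.trans le_sup_left) hgN
  obtain ⟨t, ht, n, hn, rfl⟩ := Subgroup.mem_sup_of_normal_right.1 hm
  rw [he, ← hconj, map_mul, show f n = 1 from (QuotientGroup.eq_one_iff n).2 hn, mul_one, hconj,
    mem_normalizer_iff_cj.1 (wc_le_normalizer h T.isPGroup' hT ht)]

/-! ### Large subgroups -/

/-- A large `p`-subgroup: normalizers of `p`-subgroups containing `Q` normalize `Q`. -/
theorem large_normalizer_le [Finite G] [Fact p.Prime] (hQ1 : Q ≠ ⊥) (hL : IsLarge Q) {R : Subgroup G}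
    (hR : IsPGroup p R) (hQR : Q ≤ R) :
    Subgroup.normalizer (R : Set G) ≤ Subgroup.normalizer (Q : Set G) := by
  set U := R ⊓ Subgroup.centralizer (R : Set G) with hU
  haveI : Nontrivial R := R.nontrivial_iff_ne_bot.2 fun h => hQ1 (le_bot_iff.1 (h ▸ hQR))
  have hne : U ≠ ⊥ := fun h => by
    haveI := hR.center_nontrivial
    obtain ⟨z, hz⟩ := exists_ne (1 : Subgroup.center R)
    refine hz (Subtype.ext (Subtype.ext (Subgroup.mem_bot.1 (h ▸ ?_ : ((z : R) : G) ∈ (⊥ : Subgroup G)))))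
    exact ⟨(z : R).2, Subgroup.mem_centralizer_iff.2 fun r hr =>
      congrArg Subtype.val (Subgroup.mem_center_iff.1 z.2 ⟨r, hr⟩)⟩
  refine le_trans (fun n hn => ?_) (hL.2 U (inf_le_right.trans (Subgroup.centralizer_le hQR)) hne)
  exact Subgroup.inf_normalizer_le_normalizer_inf
    ⟨hn, (le_normalizer_centralizer (L := Subgroup.normalizer (R : Set G)) le_rfl) hn⟩

theorem large_wc [Finite G] [Fact p.Prime] (hQp : IsPGroup p Q) (hQ1 : Q ≠ ⊥) (hL : IsLarge Q) :
    IsWeaklyClosedSubgroup p Q :=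
  wc_of_normalizer hQp fun _ hR hQR => large_normalizer_le hQ1 hL hR hQR

/-- In a large situation distinct conjugates have centralizers meeting trivially. -/
theorem large_centralizer_inf [Finite G] [Fact p.Prime] (hQp : IsPGroup p Q) (hQ1 : Q ≠ ⊥)
    (hL : IsLarge Q) {g : G} (hg : g ∉ Subgroup.normalizer (Q : Set G)) :
    Subgroup.centralizer (Q : Set G) ⊓ Subgroup.centralizer ((cj Q g : Subgroup G) : Set G) = ⊥ := by
  by_contra hne
  set U := Subgroup.centralizer (Q : Set G) ⊓ Subgroup.centralizer ((cj Q g : Subgroup G) : Set G) with hU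
  refine hg (mem_normalizer_iff_cj.2 (wc_conj hQp (large_wc hQp hQ1 hL) ?_))
  refine le_trans (fun x hx => ?_) (hL.2 U inf_le_left hne)
  rw [Subgroup.mem_normalizer_iff]
  intro u
  have hcomm : ∀ v ∈ U, x * v * x⁻¹ = v := fun v hv =>
    (show Commute x v from Subgroup.mem_centralizer_iff.1 hv.2 x hx).mul_inv_cancel
  refine ⟨fun h => (hcomm u h).symm ▸ h, fun h => ?_⟩
  have h2 := hcomm _ h
  have h3 : x * u * x⁻¹ = u := (MulAut.conj x).injective h2
  exact h3 ▸ h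

end Cfsg.Agent.Lib.CharP
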