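import Cfsg.Agent.Lib.CharP.FrakMFacts
import Cfsg.Agent.Lib.CharP.FStar
import Cfsg.Agent.Lib.Coprime.Conjugacy

/-!
# Facts about `Y_M` in the asymmetric case

Owner: helper55.
-/

set_option autoImplicit false
set_option linter.style.haveILetI false

open Cfsg
open scoped commutatorElement

namespace Cfsg.Agent.Lib.CharP

section Quot

variable {X : Type*} [Group X] [Finite X] {p : ℕ} [hp : Fact p.Prime]

/-- A `p`-subgroup normalized by `F*(X)` is trivial when `O_p(X) = 1`. -/
theorem eq_bot_of_fstar_normalizes (hO : pCore p X = ⊥) {P : Subgroup X} (hP : IsPGroup p P)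
    (h : generalizedFittingSubgroup X ≤ Subgroup.normalizer (P : Set X)) : P = ⊥ := by
  set F := generalizedFittingSubgroup X with hF
  have h1 : ⁅P, F⁆ ≤ P := Subgroup.le_normalizer_iff_commutator_le_left.1 h
  have h2 : ⁅P, F⁆ ≤ pCoreOf p F :=
    le_pCoreOf (hP.to_le h1) (Subgroup.commutator_le_right P F) (Coprime.right_le_normalizer_commutator P F)
  have h3 : pCoreOf p F ≤ pCoreOf p (⊤ : Subgroup X) :=
    le_pCoreOf (isPGroup_pCoreOf p F) le_top
      (le_trans (le_of_eq (Subgroup.normalizer_eq_top (H := F)).symm) (normalizer_le_normalizer_map_char _))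
  rw [pCoreOf_top, hO] at h3
  have h4 : P ≤ Subgroup.centralizer (F : Set X) :=
    Subgroup.commutator_eq_bot_iff_le_centralizer.1 (le_bot_iff.1 (h2.trans h3))
  rw [Subgroup.eq_bot_iff_forall]
  intro x hx
  obtain ⟨k, hk⟩ := exists_pow_eq_one_of_mem hP hx
  exact eq_one_of_centralizes_fstar hO (h4 hx) hk

end Quot

variable {G : Type*} [Group G] [Finite G] {p : ℕ} [hp : Fact p.Prime]

/-- `O_p(D / C_D(Y)) = 1` for a `p`-reduced `Y` of `D`. -/
theorem pCore_quotient_eq_bot {D Y : Subgroup G} (hY : IsPRed p D Y)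
    [((Subgroup.centralizer (Y : Set G)).subgroupOf D).Normal] :
    pCore p (↥D ⧸ (Subgroup.centralizer (Y : Set G)).subgroupOf D) = ⊥ := by
  set f := QuotientGroup.mk' ((Subgroup.centralizer (Y : Set G)).subgroupOf D)
  set K := ((pCore p (↥D ⧸ (Subgroup.centralizer (Y : Set G)).subgroupOf D)).comap f).map D.subtype with hK
  have hle : K ≤ Subgroup.centralizer (Y : Set G) := by
    refine hY.2.2.2 K (Subgroup.map_subtype_le _) ?_ ?_
    · exact (Subgroup.normal_subgroupOf_iff_le_normalizer (Subgroup.map_subtype_le _)).1 (by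
        rw [show K.subgroupOf D = (pCore p _).comap f from
          Subgroup.comap_map_eq_self_of_injective D.subtype_injective _]
        infer_instance)
    · rintro _ ⟨g, hg, rfl⟩ hgo
      have hgo' : (orderOf g).Coprime p := by rwa [← Subgroup.orderOf_coe]
      have := eq_one_of_coprime_of_mem (Cores.pCore_isPGroup p) hg
        (Nat.Coprime.coprime_dvd_left (orderOf_map_dvd f g) hgo')
      exact (QuotientGroup.eq_one_iff g).1 this
  rw [Subgroup.eq_bot_iff_forall]
  intro q hq
  obtain ⟨g, rfl⟩ := QuotientGroup.mk'_surjective _ q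
  exact (QuotientGroup.eq_one_iff g).2 (hle ⟨g, hq, rfl⟩)

/-- The preimage in `D` of `F*(D / C_D(Y))`. -/
abbrev fstarPreimage (D Y : Subgroup G) [((Subgroup.centralizer (Y : Set G)).subgroupOf D).Normal] :
    Subgroup G :=
  ((generalizedFittingSubgroup (↥D ⧸ (Subgroup.centralizer (Y : Set G)).subgroupOf D)).comap
    (QuotientGroup.mk' ((Subgroup.centralizer (Y : Set G)).subgroupOf D))).map D.subtype

/-- A subgroup `P` of `D` whose `p'`-elements centralize `Y` and which is normalized by the preimage of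
`F*(D/C_D(Y))` centralizes `Y`. -/
theorem le_centralizer_of_fstar_normalizes {D Y : Subgroup G} (hY : IsPRed p D Y)
    [((Subgroup.centralizer (Y : Set G)).subgroupOf D).Normal] {P : Subgroup G} (hPD : P ≤ D)
    (hcop : ∀ g ∈ P, (orderOf g).Coprime p → g ∈ Subgroup.centralizer (Y : Set G))
    (hF : fstarPreimage D Y ≤ Subgroup.normalizer (P : Set G)) :
    P ≤ Subgroup.centralizer (Y : Set G) := by
  set f := QuotientGroup.mk' ((Subgroup.centralizer (Y : Set G)).subgroupOf D)
  have hbot : (P.subgroupOf D).map f = ⊥ := by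
    refine eq_bot_of_fstar_normalizes (pCore_quotient_eq_bot hY) ?_ ?_
    · rw [isPGroup_iff_pow_pow_eq_one]
      rintro ⟨_, g, hg, rfl⟩
      obtain ⟨a, ha⟩ := exists_pow_coprime (p := p) g
      exact ⟨a, Subtype.ext (by
        rw [SubmonoidClass.coe_pow, OneMemClass.coe_one]
        show f g ^ p ^ a = 1
        rw [← map_pow]
        exact (QuotientGroup.eq_one_iff (g ^ p ^ a)).2
          (hcop _ (P.pow_mem hg _) (by rwa [orderOf_injective D.subtype D.subtype_injective])))⟩
    · intro q hq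
      obtain ⟨g, rfl⟩ := QuotientGroup.mk'_surjective _ q
      have hg : g ∈ Subgroup.normalizer ((P.subgroupOf D : Subgroup D) : Set D) := by
        have h := hF ⟨g, hq, rfl⟩
        exact Subgroup.mem_normalizer_iff.2 fun x => Subgroup.mem_normalizer_iff.1 h (x : G)
      exact Subgroup.le_normalizer_map f ⟨g, hg, rfl⟩
  intro x hx
  exact (QuotientGroup.eq_one_iff (⟨x, hPD hx⟩ : D)).1
    ((Subgroup.eq_bot_iff_forall _).1 hbot _ ⟨⟨x, hPD hx⟩, hx, rfl⟩)

variable {M : Subgroup G} {S : Sylow p G}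

/-- In the asymmetric case `O_p(H) ≤ N(O_p(M)) ≤ M†` for every `H` containing `O_p(M)`. -/
theorem asym_pCoreOf_le (hpar : IsOfParabolicCharacteristic p G) (hSM : (S : Subgroup G) ≤ M)
    (hM : IsInFrakM p M) (hasym : ¬ IsSymmetricIn (largestPReducedOf p M)) {H : Subgroup G}
    (hOH : pCoreOf p M ≤ H) :
    pCoreOf p H ≤ Subgroup.normalizer (pCoreOf p M : Set G) ∧ pCoreOf p H ≤ dagger p M := by
  have hL : IsPGroup p ↥(pCoreOf p H ⊔ pCoreOf p M) :=
    (isPGroup_pCoreOf p H).to_sup_of_normal_left' (isPGroup_pCoreOf p M)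
      (hOH.trans (le_normalizer_pCoreOf p H))
  obtain ⟨h1, h2⟩ := asym_normalizer_le hpar hSM hM hasym hL le_sup_right
  have h3 : pCoreOf p H ≤ Subgroup.normalizer (pCoreOf p M : Set G) :=
    (le_sup_left.trans Subgroup.le_normalizer).trans h1
  exact ⟨h3, h3.trans h2⟩

/-- In the asymmetric case, `Y_M ≤ Y_H` for `H` of characteristic `p` containing the preimage of `F*(M†/C(Y_M))`. -/
theorem asym_le_largest (hpar : IsOfParabolicCharacteristic p G) (hSM : (S : Subgroup G) ≤ M)
    (hM : IsInFrakM p M) (hasym : ¬ IsSymmetricIn (largestPReducedOf p M))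
    [((Subgroup.centralizer (largestPReducedOf p M : Set G)).subgroupOf (dagger p M)).Normal]
    {H : Subgroup G} (hFH : fstarPreimage (dagger p M) (largestPReducedOf p M) ≤ H)
    (hH : Subgroup.centralizer (pCore p ↥H : Set ↥H) ≤ pCore p ↥H) :
    largestPReducedOf p M ≤ largestPReducedOf p H := by
  set Y := largestPReducedOf p M with hY
  set C := Subgroup.centralizer (Y : Set G) with hC
  have hYel : IsElementaryAbelian p Y := (largestPReducedOf_isPRed M).elemAb
  have hYD : IsPRed p (dagger p M) Y := by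
    have h := largestPReducedOf_isPRed (p := p) (dagger p M)
    rwa [← hM.2.2.2.1] at h
  have hCH : C ≤ H := fun x hx => by
    refine hFH ⟨⟨x, (le_sup_right : C ≤ dagger p M) hx⟩, ?_, rfl⟩
    have h1 : QuotientGroup.mk' ((Subgroup.centralizer (Y : Set G)).subgroupOf (dagger p M))
        ⟨x, (le_sup_right : C ≤ dagger p M) hx⟩ = 1 := (QuotientGroup.eq_one_iff _).2 hx
    rw [SetLike.mem_coe, Subgroup.mem_comap, h1]
    exact one_mem _
  have hOH : pCoreOf p M ≤ H := (largestPReducedOf_isPRed M).pCoreOf_le_centralizer.trans hCH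
  have hYH : Y ≤ H := (elemAb_le_centralizer hYel).trans hCH
  set U := pCoreOf p H with hU
  have hUC : U ≤ C := le_centralizer_of_fstar_normalizes hYD (asym_pCoreOf_le hpar hSM hM hasym hOH).2
    (fun g hg hgo => by
      rw [eq_one_of_coprime_of_mem (isPGroup_pCoreOf p H) hg hgo]; exact one_mem _)
    (hFH.trans (le_normalizer_pCoreOf p H))
  have hYU : Y ≤ U ⊓ Subgroup.centralizer (U : Set G) := by
    have hYCU : Y ≤ Subgroup.centralizer (U : Set G) := Subgroup.le_centralizer_iff.1 hUC
    exact le_inf ((le_inf hYH hYCU).trans (charP_iff.1 hH)) hYCU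
  set W : Subgroup G := ⨆ h : H, cj Y (h : G) with hW
  have hYW : Y ≤ W := le_iSup_of_le (1 : H) (by rw [Subgroup.coe_one, cj_one])
  have hHn : H ≤ Subgroup.normalizer (U ⊓ Subgroup.centralizer (U : Set G) : Subgroup G) :=
    le_normalizer_inf (le_normalizer_pCoreOf p H) (le_normalizer_centralizer (le_normalizer_pCoreOf p H))
  have hWZ : W ≤ omegaOne p (U ⊓ Subgroup.centralizer (U : Set G)) := iSup_le fun h => by
    rintro _ ⟨y, hy, rfl⟩
    refine mem_omegaOne ?_ (by rw [← map_pow, hYel.2 y hy, map_one])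
    exact (mem_normalizer_iff_cj.1 (hHn h.2)).le ⟨y, hYU hy, rfl⟩
  have hWH : W ≤ H := hWZ.trans ((omegaOne_le' _).trans (inf_le_left.trans (pCoreOf_le p H)))
  have hWn : H ≤ Subgroup.normalizer (W : Set G) := by
    have hle : ∀ a ∈ H, cj W a ≤ W := fun a ha => by
      rw [hW, cj, Subgroup.map_iSup, iSup_le_iff]
      intro h
      refine le_iSup_of_le (⟨a, ha⟩ * h : H) ?_
      rw [Subgroup.coe_mul, ← cj_cj]
    intro a ha
    refine mem_normalizer_iff_cj.2 (le_antisymm (hle a ha) ?_)
    have := cj_mono (hle a⁻¹ (inv_mem ha)) a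
    rwa [cj_cj, mul_inv_cancel, cj_one] at this
  refine hYW.trans (IsPRed.le_largest ⟨hWH, hWn, elemAb_mono (elemAb_omegaOne_center U) hWZ, ?_⟩)
  intro K hKH hHK hcop
  have hcopY : ∀ g ∈ K, (orderOf g).Coprime p → g ∈ C := fun g hg hgo =>
    Subgroup.centralizer_le hYW (hcop g hg hgo)
  have hKD : K ≤ dagger p M := by
    obtain ⟨T, hT⟩ := ((isPGroup_pCoreOf p M).comap_subtype (K := H)).exists_le_sylow
    have hTD : (T : Subgroup H).map H.subtype ≤ dagger p M := by
      obtain ⟨h1, h2⟩ := asym_normalizer_le hpar hSM hM hasym (T.isPGroup'.map H.subtype)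
        (fun o ho => ⟨⟨o, hOH ho⟩, hT ho, rfl⟩)
      exact (Subgroup.le_normalizer.trans h1).trans h2
    haveI : (K.subgroupOf H).Normal := (Subgroup.normal_subgroupOf_iff_le_normalizer hKH).2 hHK
    have h := le_of_inf_sylow_of_coprime T (K := K.subgroupOf H) (W := (dagger p M).subgroupOf H)
      (le_top.trans_eq (Subgroup.normalizer_eq_top_iff.2 inferInstance).symm) (fun x hx => hTD ⟨x, hx.1, rfl⟩)
      (fun g hg hgo => le_sup_right (a := M) (hcopY g hg (by rwa [Subgroup.orderOf_coe])))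
    exact fun k hk => h (show (⟨k, hKH hk⟩ : H) ∈ K.subgroupOf H from hk)
  have hKC : K ≤ C := le_centralizer_of_fstar_normalizes hYD hKD hcopY (hFH.trans hHK)
  rw [Subgroup.le_centralizer_iff]
  refine iSup_le fun h => ?_
  have h1 := cj_mono (Subgroup.le_centralizer_iff.1 hKC) (h : G)
  rwa [← centralizer_cj, mem_normalizer_iff_cj.1 (hHK h.2)] at h1

omit [Finite G] hp in
theorem normalizer_le_normalizer_cj {A : Subgroup G} {L : Subgroup G} (h : L ≤ Subgroup.normalizer (A : Set G))
    (g : G) : cj L g ≤ Subgroup.normalizer ((cj A g : Subgroup G) : Set G) := by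
  rw [normalizer_cj]
  exact cj_mono h g

omit hp in
/-- `O_p` commutes with conjugation. -/
theorem pCoreOf_cj (L : Subgroup G) (g : G) : pCoreOf p (cj L g) = cj (pCoreOf p L) g := by
  have key : ∀ (L : Subgroup G) (g : G), cj (pCoreOf p L) g ≤ pCoreOf p (cj L g) := fun L g =>
    le_pCoreOf ((isPGroup_pCoreOf p L).map _) (cj_mono (pCoreOf_le p L) g)
      (normalizer_le_normalizer_cj (le_normalizer_pCoreOf p L) g)
  refine le_antisymm ?_ (key L g)
  have h := cj_mono (key (cj L g) g⁻¹) g
  rwa [cj_inv_cj, cj_cj, mul_inv_cancel, cj_one] at h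

omit hp in
/-- Characteristic `p` is invariant under conjugation. -/
theorem charP_cj {L : Subgroup G} (h : Subgroup.centralizer (pCore p L : Set L) ≤ pCore p L) (g : G) :
    Subgroup.centralizer (pCore p ↥(cj L g) : Set ↥(cj L g)) ≤ pCore p ↥(cj L g) := by
  rw [charP_iff] at h ⊢
  rw [pCoreOf_cj, centralizer_cj, ← Subgroup.map_inf _ _ _ (MulAut.conj g).injective]
  exact cj_mono h g

/-- In a group `L` of characteristic `p`, a subgroup normalized by `O_p(L)` has characteristic `p`. -/
theorem charP_of_normalized {L K : Subgroup G}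
    (hL : Subgroup.centralizer (pCore p L : Set L) ≤ pCore p L) (hKL : K ≤ L)
    (hn : pCoreOf p L ≤ Subgroup.normalizer (K : Set G)) :
    Subgroup.centralizer (pCore p K : Set K) ≤ pCore p K := by
  refine charP_of_coprime fun x hxK hx hc => eq_one_of_charP hL (hKL hxK) hx fun u hu => ?_
  have hle : pCoreOf p L ⊓ K ≤ pCoreOf p K :=
    le_pCoreOf ((isPGroup_pCoreOf p L).to_le inf_le_left) inf_le_right
      (le_trans (le_inf (hKL.trans (le_normalizer_pCoreOf p L)) Subgroup.le_normalizer)
        Subgroup.inf_normalizer_le_normalizer_inf)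
  refine commute_of_comm_mem (U := pCoreOf p L ⊓ K) ((isPGroup_pCoreOf p L).to_le inf_le_left) hx
    (fun v hv => hc v (hle hv)) ⟨?_, ?_⟩
  · have h := (Subgroup.mem_normalizer_iff.1 (le_normalizer_pCoreOf p L (hKL hxK)) u).1 hu
    rw [commutatorElement_def]
    simpa [mul_assoc] using mul_mem (inv_mem hu) h
  · have h := (Subgroup.mem_normalizer_iff.1 (hn (inv_mem hu)) x).1 hxK
    rw [commutatorElement_def]
    simpa [mul_assoc] using mul_mem h (inv_mem hxK)

omit [Finite G] hp in
/-- The closure of a subgroup under conjugation by a subgroup `P`. -/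
theorem le_normalizer_iSup_cj (P A : Subgroup G) :
    P ≤ Subgroup.normalizer ((⨆ g : P, cj A (g : G) : Subgroup G) : Set G) := by
  have hle : ∀ a ∈ P, cj (⨆ g : P, cj A (g : G)) a ≤ ⨆ g : P, cj A (g : G) := fun a ha => by
    rw [cj, Subgroup.map_iSup, iSup_le_iff]
    intro g
    refine le_iSup_of_le (⟨a, ha⟩ * g : P) ?_
    rw [Subgroup.coe_mul, ← cj_cj]
  intro a ha
  refine mem_normalizer_iff_cj.2 (le_antisymm (hle a ha) ?_)
  have := cj_mono (hle a⁻¹ (inv_mem ha)) a
  rwa [cj_cj, mul_inv_cancel, cj_one] at this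

/-- A minimal witness of char-`p`-tallness lies in `ℌ_G(O_p(M))`. -/
theorem exists_frakH (hpar : IsOfParabolicCharacteristic p G) (hSM : (S : Subgroup G) ≤ M)
    (hM : IsInFrakM p M) (htall : IsCharPTall p (largestPReducedOf p M))
    (hasym : ¬ IsSymmetricIn (largestPReducedOf p M)) : ∃ H : Subgroup G, IsInFrakH p M H := by
  set Y := largestPReducedOf p M with hY
  set O := pCoreOf p M with hO
  set C := Subgroup.centralizer (Y : Set G) with hC
  obtain ⟨T, L, hTL, hL, hYL⟩ := htall
  have hOC : O ≤ C := (largestPReducedOf_isPRed M).pCoreOf_le_centralizer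
  obtain ⟨P, hP⟩ := ((isPGroup_pCoreOf p M).comap_subtype (K := C)).exists_le_sylow
  obtain ⟨c, hc⟩ := MulAction.exists_smul_eq ↥C T P
  have hOL : O ≤ cj L (c : G) := by
    intro o ho
    have h := hP (show (⟨o, hOC ho⟩ : C) ∈ (pCoreOf p M).subgroupOf C from ho)
    rw [← hc] at h
    obtain ⟨t, ht, htc⟩ := h
    exact ⟨t, hTL ⟨t, ht, rfl⟩, congrArg Subtype.val htc⟩
  have hcY : cj Y (c : G) = Y := mem_normalizer_iff_cj.1 (Subgroup.centralizer_le_normalizer _ c.2)
  let s : Set (Subgroup G) := {H | Subgroup.centralizer (pCore p ↥H : Set ↥H) ≤ pCore p ↥H ∧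
    O ≤ H ∧ ¬ Y ≤ pCoreOf p H}
  have hs : cj L (c : G) ∈ s := by
    refine ⟨charP_cj hL _, hOL, fun h => hYL ?_⟩
    rw [pCoreOf_cj, ← hcY] at h
    exact (Subgroup.map_le_map_iff_of_injective (MulAut.conj (c : G)).injective).1 h
  obtain ⟨H, ⟨hH, hOH, hYH⟩, hmin⟩ := (Set.toFinite s).exists_minimal ⟨_, hs⟩
  refine ⟨H, hH, hOH, hYH, fun P hOP hPH => ?_⟩
  have hYO : Y ≤ O := largest_le_pCoreOf M
  set U := pCoreOf p H with hU
  have hsmall : ∀ K : Subgroup G, Subgroup.centralizer (pCore p ↥K : Set ↥K) ≤ pCore p ↥K →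
      O ≤ K → K ≤ H → K ≠ H → Y ≤ pCoreOf p K := fun K h1 h2 h3 h4 => by
    by_contra h5
    exact h4 (le_antisymm h3 (hmin ⟨h1, h2, h5⟩ h3))
  by_cases hPU : P ⊔ U = H
  · exfalso
    have hUN := (asym_pCoreOf_le hpar hSM hM hasym hOH)
    have hUY : U ≤ Subgroup.normalizer (Y : Set G) := hUN.2.trans (dagger_le_normalizer M)
    have hUP : ∀ A : Subgroup G, U ≤ Subgroup.normalizer (A : Set G) →
        U ≤ Subgroup.normalizer ((⨆ g : P, cj A (g : G) : Subgroup G) : Set G) := by
      intro A hA u hu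
      have hle : ∀ u ∈ U, cj (⨆ g : P, cj A (g : G)) u ≤ ⨆ g : P, cj A (g : G) := fun u hu => by
        rw [cj, Subgroup.map_iSup, iSup_le_iff]
        intro g
        have hu' : (g : G)⁻¹ * u * g ∈ U := by
          have := (Subgroup.mem_normalizer_iff.1 (le_normalizer_pCoreOf p H (hPH.le (inv_mem g.2))) u).1 hu
          rwa [inv_inv] at this
        refine le_iSup_of_le g (le_of_eq ?_)
        show cj (cj A (g : G)) u = cj A (g : G)
        rw [cj_cj, show u * (g : G) = (g : G) * ((g : G)⁻¹ * u * g) by group, ← cj_cj,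
          mem_normalizer_iff_cj.1 (hA hu')]
      refine mem_normalizer_iff_cj.2 (le_antisymm (hle u hu) ?_)
      have := cj_mono (hle u⁻¹ (inv_mem hu)) u
      rwa [cj_cj, mul_inv_cancel, cj_one] at this
    set W := ⨆ g : P, cj Y (g : G) with hW
    have hWP : W ≤ P := iSup_le fun g => (cj_mono (hYO.trans hOP) _).trans
      (mem_normalizer_iff_cj.1 (Subgroup.le_normalizer g.2)).le
    have hHW : H ≤ Subgroup.normalizer (W : Set G) := by
      rw [← hPU]
      exact sup_le (le_normalizer_iSup_cj P Y) (hUP Y hUY)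
    set K := W ⊔ O with hK
    have hKP : K ≤ P := sup_le hWP hOP
    have hKn : U ≤ Subgroup.normalizer (K : Set G) :=
      Coprime.le_normalizer_sup ((pCoreOf_le p H).trans hHW) hUN.1
    have hK1 := hsmall K (charP_of_normalized hH (hKP.trans hPH.le) hKn) le_sup_right (hKP.trans hPH.le)
      (fun h => hPH.not_ge (h ▸ hKP))
    have hW1 : pCoreOf p K ⊓ W ≤ pCoreOf p W :=
      le_pCoreOf ((isPGroup_pCoreOf p K).to_le inf_le_left) inf_le_right
        (le_trans (le_inf ((le_sup_left : W ≤ K).trans (le_normalizer_pCoreOf p K)) Subgroup.le_normalizer)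
          Subgroup.inf_normalizer_le_normalizer_inf)
    have hW2 : pCoreOf p W ≤ U :=
      le_pCoreOf (isPGroup_pCoreOf p W) ((pCoreOf_le p W).trans (hWP.trans hPH.le))
        (hHW.trans (normalizer_le_normalizer_map_char _))
    exact hYH ((le_inf hK1 (le_iSup_of_le (1 : P) (by rw [Subgroup.coe_one, cj_one]))).trans (hW1.trans hW2))
  · have hle : P ⊔ U ≤ H := sup_le hPH.le (pCoreOf_le p H)
    have h1 := hsmall _ (charP_of_pCoreOf_le hH hle le_sup_right) (hOP.trans le_sup_left) hle hPU
    refine (le_inf h1 (hYO.trans hOP)).trans ?_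
    exact le_pCoreOf ((isPGroup_pCoreOf p _).to_le inf_le_left) inf_le_right
      (le_trans (le_inf (le_sup_left.trans (le_normalizer_pCoreOf p (P ⊔ U))) Subgroup.le_normalizer)
        Subgroup.inf_normalizer_le_normalizer_inf)

end Cfsg.Agent.Lib.CharP
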