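import Cfsg.Prelude.Def_LocalStructure
import Cfsg.Agent.Lib.CharP.Parabolic

/-!
# `p`-closed, `p`-irreducible and `p`-minimal groups

Owner: helper55.

* `isPClosed_iff`, `isPClosed_normal_iff`: `p`-closedness through the `p`-elements;
* quotients by normal `p`-subgroups;
* basic facts on `IsPIrreducible`, `IsMinimalOver`.
-/

set_option autoImplicit false
set_option linter.style.haveILetI false

open Cfsg
open scoped Pointwise commutatorElement

namespace Cfsg.Agent.Lib.CharP

variable {G : Type*} [Group G] {p : ℕ}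

theorem pow_mem_zpowers_isPGroup {x : G} {k : ℕ} (hk : x ^ p ^ k = 1) :
    IsPGroup p (Subgroup.zpowers x) := by
  rw [isPGroup_iff_pow_pow_eq_one]
  rintro ⟨_, j, rfl⟩
  refine ⟨k, Subtype.ext ?_⟩
  simp only [SubgroupClass.coe_pow, OneMemClass.coe_one]
  rw [← zpow_natCast, zpow_comm, zpow_natCast, hk, one_zpow]

theorem exists_pow_eq_one_of_mem {P : Subgroup G} (hP : IsPGroup p P) {x : G} (hx : x ∈ P) :
    ∃ k : ℕ, x ^ p ^ k = 1 := by
  obtain ⟨k, hk⟩ := isPGroup_iff_pow_pow_eq_one.1 hP ⟨x, hx⟩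
  exact ⟨k, by simpa using congrArg Subtype.val hk⟩

/-- `H` is `p`-closed iff all its `p`-elements lie in `O_p(H)`. -/
theorem isPClosed_iff [Finite G] [Fact p.Prime] :
    IsPClosed p G ↔ ∀ (x : G) (k : ℕ), x ^ p ^ k = 1 → x ∈ pCore p G := by
  constructor
  · intro h x k hk
    obtain ⟨P, hP⟩ := (pow_mem_zpowers_isPGroup hk).exists_le_sylow
    haveI := h P
    rw [Cores.pCore_eq_of_normal_sylow P]
    exact hP (Subgroup.mem_zpowers x)
  · intro h P
    have : (P : Subgroup G) = pCore p G := le_antisymm (fun x hx => by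
      obtain ⟨k, hk⟩ := exists_pow_eq_one_of_mem P.isPGroup' hx
      exact h x k hk) (Cores.pCore_le_sylow P)
    rw [this]; infer_instance

/-- A normal subgroup is `p`-closed iff its `p`-elements lie in `O_p` of the group. -/
theorem isPClosed_normal_iff [Finite G] [Fact p.Prime] {N : Subgroup G} [N.Normal] :
    IsPClosed p N ↔ ∀ x ∈ N, ∀ k : ℕ, x ^ p ^ k = 1 → x ∈ pCore p G := by
  rw [isPClosed_iff]
  constructor
  · intro h x hx k hk
    have := Cores.map_subtype_pCore p N ▸
      (Subgroup.mem_map_of_mem N.subtype (h ⟨x, hx⟩ k (Subtype.ext (by simpa using hk))))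
    exact this.2
  · intro h x k hk
    have h1 : (x : G) ∈ (pCore p N).map N.subtype := by
      rw [Cores.map_subtype_pCore]
      exact ⟨x.2, h x x.2 k (by simpa using congrArg Subtype.val hk)⟩
    obtain ⟨y, hy, hyx⟩ := h1
    exact (Subtype.ext hyx : y = x) ▸ hy

theorem isPClosed_of_isPGroup [Finite G] [Fact p.Prime] (h : IsPGroup p G) : IsPClosed p G :=
  isPClosed_iff.2 fun x _ _ => by rw [Cores.pCore_eq_top_iff.2 h]; exact Subgroup.mem_top x

/-- A normal subgroup of a `p`-closed normal subgroup is `p`-closed. -/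
theorem isPClosed_mono [Finite G] [Fact p.Prime] {M N : Subgroup G} [M.Normal] [N.Normal] (h : M ≤ N)
    (hN : IsPClosed p N) : IsPClosed p M :=
  isPClosed_normal_iff.2 fun x hx k hk => isPClosed_normal_iff.1 hN x (h hx) k hk

/-- Elements of order prime to `p` of `A ⊔ B` with `B` a normal `p`-subgroup lie in `A`, for `A` normal. -/
theorem mem_of_coprime_of_mem_sup [Finite G] {A B : Subgroup G} [A.Normal] (hB : IsPGroup p B) {g : G}
    (hg : g ∈ A ⊔ B) (hgo : (orderOf g).Coprime p) : g ∈ A := by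
  obtain ⟨a, ha, b, hb, rfl⟩ := Subgroup.mem_sup_of_normal_left.1 hg
  obtain ⟨k, hk⟩ := exists_pow_eq_one_of_mem hB hb
  refine mem_of_pow_mem_of_coprime hgo (a := k) ?_
  have h1 : QuotientGroup.mk' A ((a * b) ^ p ^ k) = 1 := by
    rw [map_pow, map_mul, show QuotientGroup.mk' A a = 1 from (QuotientGroup.eq_one_iff a).2 ha, one_mul,
      ← map_pow, hk, map_one]
  exact (QuotientGroup.eq_one_iff _).1 h1

/-- `O^p(H) ≤ A` as soon as `O^p(H) ≤ A ⊔ B` with `A` normal and `B` a normal `p`-subgroup. -/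
theorem pResidual_le_of_le_sup [Finite G] {A B : Subgroup G} [A.Normal] (hB : IsPGroup p B)
    (h : pResidual p G ≤ A ⊔ B) : pResidual p G ≤ A :=
  (Subgroup.closure_le _).2 fun _ hg => mem_of_coprime_of_mem_sup hB (h (mem_pResidual hg)) hg

/-! ### Quotients by normal `p`-subgroups -/

section Quotient

variable {D : Subgroup G} [D.Normal]

theorem comap_pCore_quotient [Finite G] (hD : IsPGroup p D) :
    (pCore p (G ⧸ D)).comap (QuotientGroup.mk' D) = pCore p G := by
  refine le_antisymm ?_ (Subgroup.map_le_iff_le_comap.1 (Cores.map_pCore_le _ (QuotientGroup.mk'_surjective D)))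
  exact Cores.le_pCore ((Cores.pCore_isPGroup p).comap_of_ker_isPGroup _
    (by rw [QuotientGroup.ker_mk']; exact hD))

theorem map_pResidual_quotient [Finite G] [Fact p.Prime] :
    (pResidual p G).map (QuotientGroup.mk' D) = pResidual p (G ⧸ D) := by
  refine le_antisymm (map_pResidual_le _) ((Subgroup.closure_le _).2 fun q hq => ?_)
  obtain ⟨x, rfl⟩ := QuotientGroup.mk'_surjective D q
  obtain ⟨a, ha⟩ := exists_pow_coprime (p := p) x
  refine mem_of_pow_mem_of_coprime hq (a := a) ⟨_, mem_pResidual ha, map_pow _ _ _⟩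

theorem isPClosed_map_iff [Finite G] [Fact p.Prime] (hD : IsPGroup p D) {N : Subgroup G} [N.Normal] :
    IsPClosed p (N.map (QuotientGroup.mk' D)) ↔ IsPClosed p N := by
  haveI : (N.map (QuotientGroup.mk' D)).Normal :=
    Subgroup.Normal.map inferInstance _ (QuotientGroup.mk'_surjective D)
  rw [isPClosed_normal_iff, isPClosed_normal_iff]
  constructor
  · intro h x hx k hk
    rw [← comap_pCore_quotient hD]
    exact h _ ⟨x, hx, rfl⟩ k (by rw [← map_pow, hk, map_one])
  · rintro h _ ⟨x, hx, rfl⟩ k hk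
    rw [← map_pow] at hk
    obtain ⟨l, hl⟩ := exists_pow_eq_one_of_mem hD ((QuotientGroup.eq_one_iff _).1 hk)
    have := h x hx (k + l) (by rw [pow_add, pow_mul]; exact hl)
    rw [← comap_pCore_quotient hD] at this
    exact this

theorem isPClosed_quotient_iff [Finite G] [Fact p.Prime] (hD : IsPGroup p D) :
    IsPClosed p (G ⧸ D) ↔ IsPClosed p G := by
  rw [isPClosed_iff, isPClosed_iff]
  constructor
  · intro h x k hk
    rw [← comap_pCore_quotient hD]
    exact h _ k (by rw [← map_pow, hk, map_one])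
  · intro h q k hk
    obtain ⟨x, rfl⟩ := QuotientGroup.mk'_surjective D q
    rw [← map_pow] at hk
    obtain ⟨l, hl⟩ := exists_pow_eq_one_of_mem hD ((QuotientGroup.eq_one_iff _).1 hk)
    have := h x (k + l) (by rw [pow_add, pow_mul]; exact hl)
    rw [← comap_pCore_quotient hD] at this
    exact this

theorem isPIrreducible_quotient_iff [Finite G] [Fact p.Prime] (hD : IsPGroup p D) :
    IsPIrreducible p G ↔ IsPIrreducible p (G ⧸ D) := by
  rw [IsPIrreducible, IsPIrreducible, isPClosed_quotient_iff hD]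
  refine and_congr Iff.rfl ⟨fun h M hM hMc => ?_, fun h N hN hNc => ?_⟩
  · haveI := hM
    have hN : ¬ IsPClosed p (M.comap (QuotientGroup.mk' D)) := fun hc => by
      have h1 := (isPClosed_map_iff hD).2 hc
      rw [Subgroup.map_comap_eq_self_of_surjective (QuotientGroup.mk'_surjective D)] at h1
      exact hMc h1
    rw [← map_pResidual_quotient, Subgroup.map_le_iff_le_comap]
    exact h _ inferInstance hN
  · haveI := hN
    have h1 := h _ (hN.map _ (QuotientGroup.mk'_surjective D)) fun hc => hNc ((isPClosed_map_iff hD).1 hc)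
    rw [← map_pResidual_quotient, Subgroup.map_le_map_iff, QuotientGroup.ker_mk'] at h1
    exact pResidual_le_of_le_sup hD h1

theorem commutator_top_map_le_iff [Finite G] (hD : IsPGroup p D) {N : Subgroup G} :
    ⁅N.map (QuotientGroup.mk' D), (⊤ : Subgroup (G ⧸ D))⁆ ≤ pCore p (G ⧸ D) ↔
      ⁅N, (⊤ : Subgroup G)⁆ ≤ pCore p G := by
  rw [← Subgroup.map_top_of_surjective (QuotientGroup.mk' D) (QuotientGroup.mk'_surjective D),
    ← Subgroup.map_commutator, Subgroup.map_le_iff_le_comap, comap_pCore_quotient hD]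

theorem isStronglyPIrreducible_quotient_iff [Finite G] [Fact p.Prime] (hD : IsPGroup p D) :
    IsStronglyPIrreducible p G ↔ IsStronglyPIrreducible p (G ⧸ D) := by
  rw [IsStronglyPIrreducible, IsStronglyPIrreducible, isPClosed_quotient_iff hD]
  refine and_congr Iff.rfl ⟨fun h M hM hMc => ?_, fun h N hN hNc => ?_⟩
  · haveI := hM
    rw [← map_pResidual_quotient, Subgroup.map_le_iff_le_comap]
    refine h _ inferInstance fun hc => hMc ?_
    have h1 := (commutator_top_map_le_iff hD).2 hc
    rwa [Subgroup.map_comap_eq_self_of_surjective (QuotientGroup.mk'_surjective D)] at h1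
  · haveI := hN
    have h1 := h _ (hN.map _ (QuotientGroup.mk'_surjective D)) fun hc =>
      hNc ((commutator_top_map_le_iff hD).1 hc)
    rw [← map_pResidual_quotient, Subgroup.map_le_map_iff, QuotientGroup.ker_mk'] at h1
    exact pResidual_le_of_le_sup hD h1

end Quotient

/-- A strongly `p`-irreducible group is `p`-irreducible. -/
theorem isPIrreducible_of_strongly [Finite G] [Fact p.Prime] (h : IsStronglyPIrreducible p G) :
    IsPIrreducible p G := by
  refine ⟨h.1, fun N hN hNc => h.2 N hN fun hc => hNc ?_⟩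
  haveI := hN
  obtain ⟨P⟩ : Nonempty (Sylow p N) := inferInstance
  -- `P (N ∩ O_p)` is a normal `p`-subgroup of `N`
  rw [isPClosed_iff]
  intro x k hk
  have h1 : (Cfsg.pCore p N ⊔ Subgroup.zpowers x).Normal := by
    refine @Subgroup.Normal.of_commutator_le ↥N _ _ ?_
    refine le_trans ?_ le_sup_left
    change ⁅(⊤ : Subgroup N), (⊤ : Subgroup N)⁆ ≤ _
    rw [Subgroup.commutator_le]
    intro a _ b _
    have h2 : (⁅a, b⁆ : N).1 ∈ (Cfsg.pCore p N).map N.subtype := by
      rw [Cores.map_subtype_pCore]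
      exact ⟨⁅a, b⁆.2, hc (by
        rw [show (⁅a, b⁆ : N).1 = ⁅(a : G), (b : G)⁆ from map_commutatorElement N.subtype a b]
        exact Subgroup.commutator_mem_commutator a.2 (Subgroup.mem_top _))⟩
    obtain ⟨y, hy, hyx⟩ := h2
    exact (Subtype.ext hyx : y = ⁅a, b⁆) ▸ hy
  haveI := h1
  exact Cores.le_pCore ((Cores.pCore_isPGroup p).to_sup_of_normal_left (pow_mem_zpowers_isPGroup hk))
    (Subgroup.mem_sup_right (Subgroup.mem_zpowers x))

/-- In a `p`-irreducible group, a normal subgroup not containing `O^p` is `p`-closed. -/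
theorem IsPIrreducible.isPClosed_of_not_le {N : Subgroup G} [hN : N.Normal] (h : IsPIrreducible p G)
    (hle : ¬ pResidual p G ≤ N) : IsPClosed p N :=
  by_contra fun hc => hle (h.2 N hN hc)

/-- A `p`-irreducible group is generated by the conjugates of a Sylow subgroup. -/
theorem IsPIrreducible.normalClosure_sylow [Finite G] [Fact p.Prime] (h : IsPIrreducible p G)
    (T : Sylow p G) : Subgroup.normalClosure ((T : Subgroup G) : Set G) = ⊤ := by
  set N := Subgroup.normalClosure ((T : Subgroup G) : Set G)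
  have hT : (T : Subgroup G) ≤ N := Subgroup.subset_normalClosure
  have hR : pResidual p G ≤ N := by
    by_contra hc
    refine h.1 (isPClosed_iff.2 fun x k hk => ?_)
    obtain ⟨Q, hQ⟩ := (pow_mem_zpowers_isPGroup hk).exists_le_sylow
    obtain ⟨g, rfl⟩ := MulAction.exists_smul_eq G T Q
    refine isPClosed_normal_iff.1 (IsPIrreducible.isPClosed_of_not_le (N := N) h hc) x ?_ k hk
    have hx := hQ (Subgroup.mem_zpowers x)
    rw [Sylow.smul_def, Sylow.pointwise_smul_def, Subgroup.pointwise_smul_def] at hx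
    obtain ⟨y, hy, rfl⟩ := hx
    exact Subgroup.Normal.conj_mem inferInstance y (hT hy) g
  rw [eq_top_iff, ← sylow_sup_pResidual T]
  exact sup_le hT hR

theorem IsMinimalOver.le_of_lt {Y : Subgroup G} [Finite G] (h : IsMinimalOver Y) {M X : Subgroup G}
    (hM : IsCoatom M ∧ Y ≤ M) (hYX : Y ≤ X) (hX : X ≠ ⊤) : X ≤ M := by
  obtain ⟨M', hM', hXM'⟩ := (eq_top_or_exists_le_coatom X).resolve_left hX
  obtain ⟨M₀, -, huniq⟩ := h.2
  rw [huniq M hM, ← huniq M' ⟨hM', hYX.trans hXM'⟩]
  exact hXM'

end Cfsg.Agent.Lib.CharP
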