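import Cfsg.Agent.Lib.CharP.WeaklyClosed
import Cfsg.Agent.Lib.CharP.Parabolic
import Cfsg.Agent.Lib.CharP.FStar

/-!
# Subgroups above a weakly closed `Q` with `C(Q) ≤ Q`

Owner: helper55.

For `Q ≤ L`, `P = O_p(L)` and `W = C(y)` of characteristic `p` for some `y ∈ C_P(Q)` (`y = 1` allowed):
`L` has characteristic `p`, `C(P)` is a `p`-group normalizing `Q`.
-/

set_option autoImplicit false
set_option linter.style.haveILetI false

open Cfsg
open scoped commutatorElement

namespace Cfsg.Agent.Lib.CharP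

variable {G : Type*} [Group G] [Finite G] {p : ℕ} [hp : Fact p.Prime]

omit [Finite G] in
theorem le_normalizer_inf {L A B : Subgroup G} (hA : L ≤ Subgroup.normalizer (A : Set G))
    (hB : L ≤ Subgroup.normalizer (B : Set G)) :
    L ≤ Subgroup.normalizer ((A ⊓ B : Subgroup G) : Set G) :=
  (le_inf hA hB).trans Subgroup.inf_normalizer_le_normalizer_inf

omit [Finite G] in
theorem le_normalizer_commutator_both {L A B : Subgroup G} (hA : L ≤ Subgroup.normalizer (A : Set G))
    (hB : L ≤ Subgroup.normalizer (B : Set G)) :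
    L ≤ Subgroup.normalizer ((⁅A, B⁆ : Subgroup G) : Set G) := by
  intro l hl
  refine mem_normalizer_iff_cj.2 ?_
  rw [cj, Subgroup.map_commutator, show A.map (MulAut.conj l).toMonoidHom = A from mem_normalizer_iff_cj.1 (hA hl),
    show B.map (MulAut.conj l).toMonoidHom = B from mem_normalizer_iff_cj.1 (hB hl)]

omit [Finite G] in
/-- If `B ≥ [R, Q]` is normalized by `R`, the elements of `[K, Q]` move each element of `R` only inside `B`. -/
theorem commutator_trivial_mod {R B K Q : Subgroup G}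
    (hRB : R ≤ Subgroup.normalizer (B : Set G)) (hQR : Q ≤ Subgroup.normalizer (R : Set G))
    (hQB : Q ≤ Subgroup.normalizer (B : Set G)) (hKR : K ≤ Subgroup.normalizer (R : Set G))
    (hKB : K ≤ Subgroup.normalizer (B : Set G)) (hcomm : ⁅R, Q⁆ ≤ B) :
    ∀ z ∈ ⁅K, Q⁆, ∀ r ∈ R, z * r * z⁻¹ * r⁻¹ ∈ B := by
  let S : Subgroup G :=
    { carrier := {g | g ∈ Subgroup.normalizer (R : Set G) ∧ g ∈ Subgroup.normalizer (B : Set G) ∧
        ∀ r ∈ R, g * r * g⁻¹ * r⁻¹ ∈ B}
      one_mem' := ⟨one_mem _, one_mem _, fun r _ => by simp⟩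
      mul_mem' := by
        rintro g h ⟨g1, g2, g3⟩ ⟨h1, h2, h3⟩
        refine ⟨mul_mem g1 h1, mul_mem g2 h2, fun r hr => ?_⟩
        have hr' : h * r * h⁻¹ ∈ R := (Subgroup.mem_normalizer_iff.1 h1 r).1 hr
        have := mul_mem (g3 _ hr') (h3 r hr)
        convert this using 1
        group
      inv_mem' := by
        rintro g ⟨g1, g2, g3⟩
        refine ⟨inv_mem g1, inv_mem g2, fun r hr => ?_⟩
        have hr' : g⁻¹ * r * g ∈ R := by
          simpa using (Subgroup.mem_normalizer_iff.1 (inv_mem g1) r).1 hr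
        have := inv_mem (g3 _ hr')
        convert this using 1
        group }
  have hQS : Q ≤ S := fun q hq => ⟨hQR hq, hQB hq, fun r hr => by
    have := inv_mem (hcomm (Subgroup.commutator_mem_commutator hr hq))
    rwa [commutatorElement_inv, commutatorElement_def] at this⟩
  have hKS : ∀ k ∈ K, ∀ s ∈ S, k * s * k⁻¹ ∈ S := by
    intro k hk s hs
    obtain ⟨s1, s2, s3⟩ := hs
    refine ⟨mul_mem (mul_mem (hKR hk) s1) (inv_mem (hKR hk)),
      mul_mem (mul_mem (hKB hk) s2) (inv_mem (hKB hk)), fun r hr => ?_⟩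
    have hr' : k⁻¹ * r * k ∈ R := by
      simpa using (Subgroup.mem_normalizer_iff.1 (inv_mem (hKR hk)) r).1 hr
    have := (Subgroup.mem_normalizer_iff.1 (hKB hk) _).1 (s3 _ hr')
    convert this using 1
    group
  have hle : ⁅K, Q⁆ ≤ S := Subgroup.commutator_le.2 fun k hk q hq => by
    rw [commutatorElement_def]
    exact S.mul_mem (hKS k hk q (hQS hq)) (S.inv_mem (hQS hq))
  exact fun z hz r hr => (hle hz).2.2 r hr

/-- An element of order prime to `p` in `[K, Q]` centralizes `R` if it centralizes a `p`-group `B ≥ [R, Q]`. -/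
theorem commute_of_mem_commutator {R B K Q : Subgroup G} (hB : IsPGroup p B)
    (hRB : R ≤ Subgroup.normalizer (B : Set G)) (hQR : Q ≤ Subgroup.normalizer (R : Set G))
    (hQB : Q ≤ Subgroup.normalizer (B : Set G)) (hKR : K ≤ Subgroup.normalizer (R : Set G))
    (hKB : K ≤ Subgroup.normalizer (B : Set G)) (hcomm : ⁅R, Q⁆ ≤ B) {z : G}
    (hz : z ∈ ⁅K, Q⁆) (hzo : (orderOf z).Coprime p) (hzB : ∀ b ∈ B, Commute z b) :
    ∀ r ∈ R, Commute z r := by
  intro r hr
  refine commute_of_comm_mem hB hzo hzB ?_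
  have h := inv_mem (commutator_trivial_mod hRB hQR hQB hKR hKB hcomm z hz r⁻¹ (inv_mem hr))
  rw [commutatorElement_def]
  convert h using 1
  group

/-- `L` has characteristic `p`. -/
theorem charP_of_wc {Q : Subgroup G} (hQp : IsPGroup p Q) (hwc : IsWeaklyClosedSubgroup p Q)
    (hCQ : Subgroup.centralizer (Q : Set G) ≤ Q) {L : Subgroup G} (hQL : Q ≤ L) {y : G}
    (hyP : y ∈ pCoreOf p L) (hyQ : y ∈ Subgroup.centralizer (Q : Set G))
    (hW : Subgroup.centralizer (pCore p ↥(Subgroup.centralizer ({y} : Set G)) :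
        Set ↥(Subgroup.centralizer ({y} : Set G))) ≤ pCore p ↥(Subgroup.centralizer ({y} : Set G))) :
    Subgroup.centralizer (pCore p ↥L : Set ↥L) ≤ pCore p ↥L := by
  set W := Subgroup.centralizer ({y} : Set G) with hWdef
  set P := pCoreOf p L with hP
  set R := pCoreOf p W with hR
  have hPp : IsPGroup p P := isPGroup_pCoreOf p L
  have hRp : IsPGroup p R := isPGroup_pCoreOf p W
  have hLP : L ≤ Subgroup.normalizer (P : Set G) := le_normalizer_pCoreOf p L
  have hWR : W ≤ Subgroup.normalizer (R : Set G) := le_normalizer_pCoreOf p W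
  set P₀ := P ⊓ W with hP₀
  have hP₀p : IsPGroup p P₀ := hPp.to_le inf_le_left
  have hQW : Q ≤ W := fun q hq => Subgroup.mem_centralizer_singleton_iff.2
    (Subgroup.mem_centralizer_iff.1 hyQ q hq)
  have hRQ : R ≤ Subgroup.normalizer (Q : Set G) :=
    le_sup_left.trans (wc_le_normalizer hwc (hRp.to_sup_of_normal_left' hQp (hQW.trans hWR)) le_sup_right)
  have hQP₀ : Q ≤ Subgroup.normalizer (P₀ : Set G) :=
    le_normalizer_inf (hQL.trans hLP) (hQW.trans Subgroup.le_normalizer)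
  have hyP₀ : y ∈ P₀ := ⟨hyP, Subgroup.mem_centralizer_singleton_iff.2 rfl⟩
  set R₀ := R ⊓ Subgroup.centralizer (P₀ : Set G) with hR₀
  have hQR₀ : Q ≤ Subgroup.normalizer (R₀ : Set G) :=
    le_normalizer_inf (hQW.trans hWR) (le_normalizer_centralizer hQP₀)
  set D := L ⊓ Subgroup.centralizer (P₀ : Set G) with hD
  set ND := L ⊓ Subgroup.normalizer (P₀ : Set G) with hND
  set S₀ := pCoreOf p ND with hS₀
  have hDW : D ≤ W := fun d hd =>
    Subgroup.mem_centralizer_singleton_iff.2 (Subgroup.mem_centralizer_iff.1 hd.2 y hyP₀).symm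
  have hRD : R ⊓ D ≤ S₀ := by
    refine (le_pCoreOf (hRp.to_le inf_le_left) inf_le_right
      (le_normalizer_inf (hDW.trans hWR) Subgroup.le_normalizer)).trans ?_
    refine le_pCoreOf (isPGroup_pCoreOf p D)
      ((pCoreOf_le p D).trans (inf_le_inf_left L (Subgroup.centralizer_le_normalizer _))) ?_
    exact (le_normalizer_inf (inf_le_left.trans Subgroup.le_normalizer)
      (le_normalizer_centralizer inf_le_right)).trans (normalizer_le_normalizer_map_char _)
  set K₀ := L ⊓ Subgroup.centralizer (P : Set G) with hK₀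
  have hK₀L : L ≤ Subgroup.normalizer (K₀ : Set G) := le_normalizer_inf_centralizer hLP
  have hK₀W : K₀ ≤ W := fun k hk =>
    Subgroup.mem_centralizer_singleton_iff.2 (Subgroup.mem_centralizer_iff.1 hk.2 y hyP).symm
  set K₁ := (pResidual p ↥K₀).map K₀.subtype with hK₁
  have hK₁K₀ : K₁ ≤ K₀ := Subgroup.map_subtype_le _
  have hK₁L : L ≤ Subgroup.normalizer (K₁ : Set G) := hK₀L.trans (normalizer_le_normalizer_map_char _)
  -- elements of order prime to `p` in `C_L(P)` centralize `R ∩ D`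
  have hfix : ∀ x ∈ K₀, (orderOf x).Coprime p → ∀ v ∈ R ⊓ D, Commute x v := by
    intro x hx hxo v hv
    have hxND : x ∈ ND := ⟨hx.1, Subgroup.centralizer_le_normalizer _
      (Subgroup.centralizer_le (SetLike.coe_subset_coe.2 (inf_le_left : P₀ ≤ P)) hx.2)⟩
    set U := S₀ ⊓ K₀ with hU
    have hUp : IsPGroup p U := (isPGroup_pCoreOf p ND).to_le inf_le_left
    have hK₀ND : K₀ ≤ ND := le_inf inf_le_left
      ((inf_le_right.trans (Subgroup.centralizer_le (SetLike.coe_subset_coe.2 (inf_le_left : P₀ ≤ P)))).trans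
        (Subgroup.centralizer_le_normalizer _))
    have hUP : U ≤ P := by
      refine (le_pCoreOf hUp inf_le_right
        (le_normalizer_inf (hK₀ND.trans (le_normalizer_pCoreOf p ND)) Subgroup.le_normalizer)).trans ?_
      exact le_pCoreOf (isPGroup_pCoreOf p K₀) ((pCoreOf_le p K₀).trans inf_le_left)
        (hK₀L.trans (normalizer_le_normalizer_map_char _))
    have hxU : ∀ u ∈ U, Commute x u := fun u hu => (Subgroup.mem_centralizer_iff.1 hx.2 u (hUP hu)).symm
    refine commute_of_comm_mem hUp hxo hxU ⟨?_, ?_⟩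
    · have hv' : v⁻¹ ∈ S₀ := inv_mem (hRD hv)
      rw [commutatorElement_def]
      have h1 := (Subgroup.mem_normalizer_iff.1 (le_normalizer_pCoreOf p ND hxND) (v⁻¹)⁻¹).1 (inv_mem hv')
      have := S₀.mul_mem hv' h1
      simpa [mul_assoc] using this
    · rw [commutatorElement_def]
      refine K₀.mul_mem ?_ (K₀.inv_mem hx)
      exact (Subgroup.mem_normalizer_iff.1 (hK₀L (L.inv_mem hv.2.1)) x).1 hx
  set B := ⁅R₀, Q⁆ with hB
  have hBD : B ≤ R ⊓ D := by
    have h1 : B ≤ Q := (Subgroup.commutator_mono inf_le_left le_rfl).trans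
      (Subgroup.le_normalizer_iff_commutator_le_right.1 hRQ)
    have h2 : B ≤ R₀ := Coprime.commutator_le_of_le_normalizer hQR₀
    exact le_inf (h2.trans inf_le_left) (le_inf (h1.trans hQL) (h2.trans inf_le_right))
  have hBp : IsPGroup p B := hRp.to_le (hBD.trans inf_le_left)
  have hK₁B : K₁ ≤ Subgroup.centralizer (B : Set G) := by
    rw [hK₁, map_pResidual_subtype, Subgroup.closure_le]
    intro x hx
    exact Subgroup.mem_centralizer_iff.2 fun b hb => (hfix x hx.1 hx.2 b (hBD hb)).eq.symm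
  have hK₁R₀ : K₁ ≤ Subgroup.normalizer (R₀ : Set G) :=
    le_normalizer_inf ((hK₁K₀.trans hK₀W).trans hWR) (le_normalizer_centralizer
      ((hK₁K₀.trans inf_le_right).trans ((Subgroup.centralizer_le
        (SetLike.coe_subset_coe.2 (inf_le_left : P₀ ≤ P))).trans (Subgroup.centralizer_le_normalizer _))))
  set M₁ := ⁅K₁, Q⁆ with hM₁
  have hM₁K₁ : M₁ ≤ K₁ := Coprime.commutator_le_of_le_normalizer (hQL.trans hK₁L)
  have hM₁p : IsPGroup p M₁ := by
    refine isPGroup_of_coprime_eq_one fun z hz hzo => ?_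
    have hzK₀ : z ∈ K₀ := hK₁K₀ (hM₁K₁ hz)
    have h1 : ∀ r ∈ R₀, Commute z r := commute_of_mem_commutator hBp
      (Coprime.left_le_normalizer_commutator R₀ Q) hQR₀ (Coprime.right_le_normalizer_commutator R₀ Q)
      hK₁R₀ (hK₁B.trans (Subgroup.centralizer_le_normalizer _)) le_rfl hz hzo
      (fun b hb => (Subgroup.mem_centralizer_iff.1 (hK₁B (hM₁K₁ hz)) b hb).symm)
    refine eq_one_of_charP hW (hK₀W hzK₀) hzo ?_
    exact commute_of_axb hP₀p hzo (fun b hb => (Subgroup.mem_centralizer_iff.1 hzK₀.2 b hb.1).symm) hRp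
      (inf_le_right.trans hWR) (hWR (hK₀W hzK₀))
      (fun u hu hub => h1 u ⟨hu, Subgroup.mem_centralizer_iff.2 fun b hb => (hub b hb).eq.symm⟩)
  have hM₁P : M₁ ≤ P := by
    refine (le_pCoreOf hM₁p hM₁K₁ (Coprime.left_le_normalizer_commutator K₁ Q)).trans ?_
    exact le_pCoreOf (isPGroup_pCoreOf p K₁) ((pCoreOf_le p K₁).trans (hK₁K₀.trans inf_le_left))
      (hK₁L.trans (normalizer_le_normalizer_map_char _))
  refine charP_of_coprime fun x hx hxo hxc => ?_
  have hxK₀ : x ∈ K₀ := ⟨hx, Subgroup.mem_centralizer_iff.2 fun u hu => (hxc u hu).eq.symm⟩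
  have hxK₁ : x ∈ K₁ := by
    rw [hK₁, map_pResidual_subtype]
    exact Subgroup.subset_closure ⟨hxK₀, hxo⟩
  refine eq_one_of_coprime_of_mem hQp (hCQ (Subgroup.mem_centralizer_iff.2 fun q hq => ?_)) hxo
  refine (commute_of_comm_mem hPp hxo hxc ?_).eq.symm
  rw [comm_mem_symm]
  exact hM₁P (Subgroup.commutator_mem_commutator hxK₁ (inv_mem hq))

/-- `[Q, C(P)] ≤ Q ∩ P`, `C(P)` is a `p`-group normalizing `Q`, for `P = O_p(L)`. -/
theorem centralizer_pCoreOf_of_wc {Q : Subgroup G} (hQp : IsPGroup p Q) (hwc : IsWeaklyClosedSubgroup p Q)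
    (hCQ : Subgroup.centralizer (Q : Set G) ≤ Q) {L : Subgroup G} (hQL : Q ≤ L) {y : G}
    (hyP : y ∈ pCoreOf p L) (hyQ : y ∈ Subgroup.centralizer (Q : Set G))
    (hW : Subgroup.centralizer (pCore p ↥(Subgroup.centralizer ({y} : Set G)) :
        Set ↥(Subgroup.centralizer ({y} : Set G))) ≤ pCore p ↥(Subgroup.centralizer ({y} : Set G))) :
    ⁅Q, Subgroup.centralizer (pCoreOf p L : Set G)⁆ ≤ Q ⊓ pCoreOf p L ∧
      IsPGroup p ↥(Subgroup.centralizer (pCoreOf p L : Set G)) ∧
      Subgroup.centralizer (pCoreOf p L : Set G) ≤ Subgroup.normalizer (Q : Set G) := by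
  set P := pCoreOf p L with hP
  set C := Subgroup.centralizer (P : Set G) with hC
  set L₂ := Subgroup.normalizer (P : Set G) with hL₂
  set P₂ := pCoreOf p L₂ with hP₂
  have hLL₂ : L ≤ L₂ := le_normalizer_pCoreOf p L
  have hPp : IsPGroup p P := isPGroup_pCoreOf p L
  have hPP₂ : P ≤ P₂ := le_pCoreOf hPp Subgroup.le_normalizer le_rfl
  have hcp := charP_of_wc hQp hwc hCQ (hQL.trans hLL₂) (hPP₂ hyP) hyQ hW
  have hcpL := charP_of_wc hQp hwc hCQ hQL hyP hyQ hW
  have hP₂p : IsPGroup p P₂ := isPGroup_pCoreOf p L₂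
  have hL₂P₂ : L₂ ≤ Subgroup.normalizer (P₂ : Set G) := le_normalizer_pCoreOf p L₂
  have hP₂Q : P₂ ≤ Subgroup.normalizer (Q : Set G) :=
    le_sup_left.trans (wc_le_normalizer hwc
      (hP₂p.to_sup_of_normal_left' hQp ((hQL.trans hLL₂).trans hL₂P₂)) le_sup_right)
  have hP₂L : P₂ ⊓ L ≤ P := le_pCoreOf (hP₂p.to_le inf_le_left) inf_le_right
    (le_normalizer_inf (hLL₂.trans hL₂P₂) Subgroup.le_normalizer)
  set B := ⁅P₂, Q⁆ with hB
  have hBP₂ : B ≤ P₂ := Coprime.commutator_le_of_le_normalizer ((hQL.trans hLL₂).trans hL₂P₂)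
  have hBP : B ≤ P := le_trans (le_inf hBP₂
    ((Subgroup.le_normalizer_iff_commutator_le_right.1 hP₂Q).trans hQL)) hP₂L
  have hCL₂ : C ≤ L₂ := Subgroup.centralizer_le_normalizer _
  have hCB : C ≤ Subgroup.normalizer (B : Set G) :=
    (Subgroup.centralizer_le (SetLike.coe_subset_coe.2 hBP)).trans (Subgroup.centralizer_le_normalizer _)
  have hQC : Q ≤ Subgroup.normalizer (C : Set G) := le_normalizer_centralizer (hQL.trans hLL₂)
  set M := ⁅C, Q⁆ with hM
  have hMC : M ≤ C := Coprime.commutator_le_of_le_normalizer hQC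
  have hMp : IsPGroup p M := by
    refine isPGroup_of_coprime_eq_one fun z hz hzo => ?_
    refine eq_one_of_charP hcp (hCL₂ (hMC hz)) hzo ?_
    exact commute_of_mem_commutator (hPp.to_le hBP) (Coprime.left_le_normalizer_commutator P₂ Q)
      ((hQL.trans hLL₂).trans hL₂P₂) (Coprime.right_le_normalizer_commutator P₂ Q)
      (hCL₂.trans hL₂P₂) hCB le_rfl hz hzo
      (fun b hb => (Subgroup.mem_centralizer_iff.1 (hMC hz) b (hBP hb)).symm)
  have hMQn : M ≤ Subgroup.normalizer (Q : Set G) :=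
    le_sup_left.trans (wc_le_normalizer hwc
      (hMp.to_sup_of_normal_left' hQp (Coprime.right_le_normalizer_commutator C Q)) le_sup_right)
  have hCQn : C ≤ Subgroup.normalizer (Q : Set G) := by
    intro c hc
    refine mem_normalizer_iff_cj.2 (wc_conj hQp hwc ?_)
    rintro _ ⟨q, hq, rfl⟩
    have h1 : c * q * c⁻¹ * q⁻¹ ∈ M := Subgroup.commutator_mem_commutator hc hq
    have := mul_mem (hMQn h1) (Subgroup.le_normalizer hq)
    simpa [mul_assoc] using this
  have hMQ : M ≤ Q := Subgroup.le_normalizer_iff_commutator_le_right.1 hCQn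
  have hQCP : ⁅Q, C⁆ ≤ Q ⊓ P := by
    rw [Subgroup.commutator_comm]
    refine le_inf hMQ (le_trans ?_ (le_refl P))
    exact (le_inf (hMQ.trans hQL) hMC).trans (charP_iff.1 hcpL)
  refine ⟨hQCP, isPGroup_of_coprime_eq_one fun x hx hxo => ?_, hCQn⟩
  refine eq_one_of_coprime_of_mem hQp (hCQ (Subgroup.mem_centralizer_iff.2 fun q hq => ?_)) hxo
  refine (commute_of_comm_mem (U := Q ⊓ P) (hQp.to_le inf_le_left) hxo
    (fun u hu => (Subgroup.mem_centralizer_iff.1 hx u hu.2).symm) ?_).eq.symm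
  exact hQCP (Subgroup.commutator_mem_commutator (inv_mem hq) hx)

omit hp in
/-- A group of characteristic `p` is the centralizer of `1` and has characteristic `p`. -/
theorem charP_centralizer_one (h : Subgroup.centralizer (pCore p G : Set G) ≤ pCore p G) :
    Subgroup.centralizer (pCore p ↥(Subgroup.centralizer ({1} : Set G)) :
        Set ↥(Subgroup.centralizer ({1} : Set G))) ≤ pCore p ↥(Subgroup.centralizer ({1} : Set G)) := by
  rw [charP_iff]
  have htop : Subgroup.centralizer ({1} : Set G) = ⊤ := eq_top_iff.2 fun g _ =>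
    Subgroup.mem_centralizer_singleton_iff.2 (by simp)
  rw [htop, pCoreOf_top, top_inf_eq]
  exact h

end Cfsg.Agent.Lib.CharP
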