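import Cfsg.Agent.Lib.CharP.AsymFacts
import Cfsg.Agent.Lib.CharP.LargeChar
import Cfsg.Agent.Lib.CharP.Irreducible

/-!
# The structure of the members of `ℌ_G(O_p(M))`

Owner: helper55.
-/

set_option autoImplicit false
set_option linter.style.haveILetI false

open Cfsg
open scoped commutatorElement

namespace Cfsg.Agent.Lib.CharP

variable {G : Type*} [Group G] [Finite G] {p : ℕ} [hp : Fact p.Prime]
omit [Finite G] hp in
/-- The image of a normal subgroup of `H` is normalized by `H`. -/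
theorem le_normalizer_map_of_normal (H : Subgroup G) (N : Subgroup H) [N.Normal] :
    H ≤ Subgroup.normalizer ((N.map H.subtype : Subgroup G) : Set G) := by
  refine (Subgroup.normal_subgroupOf_iff_le_normalizer (Subgroup.map_subtype_le _)).1 ?_
  rw [show (N.map H.subtype).subgroupOf H = N from
    Subgroup.comap_map_eq_self_of_injective H.subtype_injective _]
  infer_instance

variable {M : Subgroup G} {S : Sylow p G} {H : Subgroup G}

/-- A normal subgroup of `H ∈ ℌ` containing `Y_M` generates `H` together with `O_p(M)`. -/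
theorem frakH_sup_eq (hH : IsInFrakH p M H) {N : Subgroup G} (hNH : N ≤ H)
    (hn : H ≤ Subgroup.normalizer (N : Set G)) (hYN : largestPReducedOf p M ≤ N) :
    N ⊔ pCoreOf p M = H := by
  by_contra hne
  have h1 := hH.2.2.2 (N ⊔ pCoreOf p M) le_sup_right (lt_of_le_of_ne (sup_le hNH hH.2.1) hne)
  have h2 : pCoreOf p (N ⊔ pCoreOf p M) ⊓ N ≤ pCoreOf p N :=
    le_pCoreOf ((isPGroup_pCoreOf p _).to_le inf_le_left) inf_le_right
      (le_normalizer_inf (le_sup_left.trans (le_normalizer_pCoreOf p _)) Subgroup.le_normalizer)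
  have h3 : pCoreOf p N ≤ pCoreOf p H :=
    le_pCoreOf (isPGroup_pCoreOf p N) ((pCoreOf_le p N).trans hNH)
      (hn.trans (normalizer_le_normalizer_map_char _))
  exact hH.2.2.1 ((le_inf h1 hYN).trans (h2.trans h3))

/-- A Sylow subgroup of `H ⊇ O_p(M)` inside `M†`. -/
theorem asym_exists_sylow (hpar : IsOfParabolicCharacteristic p G) (hSM : (S : Subgroup G) ≤ M)
    (hM : IsInFrakM p M) (hasym : ¬ IsSymmetricIn (largestPReducedOf p M)) {H : Subgroup G}
    (hOH : pCoreOf p M ≤ H) :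
    ∃ P : Sylow p H, (pCoreOf p M).subgroupOf H ≤ P ∧ (P : Subgroup H).map H.subtype ≤ dagger p M := by
  obtain ⟨P, hP⟩ := ((isPGroup_pCoreOf p M).comap_subtype (K := H)).exists_le_sylow
  obtain ⟨h1, h2⟩ := asym_normalizer_le hpar hSM hM hasym (P.isPGroup'.map H.subtype)
    (fun o ho => ⟨⟨o, hOH ho⟩, hP ho, rfl⟩)
  exact ⟨P, hP, (Subgroup.le_normalizer.trans h1).trans h2⟩

/-- `[O^p(H), Y_M] = O^p(H)`, `H = O^p(H) O_p(M)` and `O^p(H) Y_M` is normal in `H` for `H ∈ ℌ`. -/
theorem frakH_structure (hpar : IsOfParabolicCharacteristic p G) (hSM : (S : Subgroup G) ≤ M)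
    (hM : IsInFrakM p M) (hasym : ¬ IsSymmetricIn (largestPReducedOf p M)) (hH : IsInFrakH p M H) :
    ⁅(pResidual p ↥H).map H.subtype, largestPReducedOf p M⁆ = (pResidual p ↥H).map H.subtype ∧
      (pResidual p ↥H).map H.subtype ⊔ pCoreOf p M = H ∧
      H ≤ Subgroup.normalizer
        (((pResidual p ↥H).map H.subtype ⊔ largestPReducedOf p M : Subgroup G) : Set G) := by
  set Y := largestPReducedOf p M with hY
  set R := (pResidual p ↥H).map H.subtype with hR
  set O := pCoreOf p M with hO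
  have hYO : Y ≤ O := largest_le_pCoreOf M
  have hOH : O ≤ H := hH.2.1
  have hRH : R ≤ H := Subgroup.map_subtype_le _
  have hHR : H ≤ Subgroup.normalizer (R : Set G) := le_normalizer_map_pResidual H
  obtain ⟨P, -, hPD⟩ := asym_exists_sylow hpar hSM hM hasym hOH
  have hPY : (P : Subgroup H).map H.subtype ≤ Subgroup.normalizer (Y : Set G) :=
    hPD.trans (dagger_le_normalizer M)
  have hdec : R ⊔ (P : Subgroup H).map H.subtype = H := by
    rw [hR, ← Subgroup.map_sup, sup_comm, sylow_sup_pResidual, ← MonoidHom.range_eq_map, Subgroup.range_subtype]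
  have hN1 : H ≤ Subgroup.normalizer ((R ⊔ Y : Subgroup G) : Set G) := by
    rw [← hdec]
    exact sup_le (le_sup_left.trans Subgroup.le_normalizer)
      (Coprime.le_normalizer_sup ((Subgroup.map_subtype_le _).trans hHR) hPY)
  have hRO : R ⊔ O = H := by
    rw [← frakH_sup_eq hH (sup_le hRH (hYO.trans hOH)) hN1 le_sup_right, sup_assoc, sup_eq_right.2 hYO]
  set R₁ := ⁅R, Y⁆ with hR₁
  have hR₁R : R₁ ≤ R := Coprime.commutator_le_of_le_normalizer ((hYO.trans hOH).trans hHR)
  have hR₁n : H ≤ Subgroup.normalizer (R₁ : Set G) := by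
    rw [← hdec]
    exact sup_le (Coprime.left_le_normalizer_commutator R Y)
      (le_normalizer_commutator_both ((Subgroup.map_subtype_le _).trans hHR) hPY)
  have hN2 : H ≤ Subgroup.normalizer ((R₁ ⊔ Y : Subgroup G) : Set G) := by
    rw [← hdec]
    refine sup_le ?_ (Coprime.le_normalizer_sup ((Subgroup.map_subtype_le _).trans hR₁n) hPY)
    have hle : ∀ r ∈ R, cj (R₁ ⊔ Y) r ≤ R₁ ⊔ Y := fun r hr => by
      rw [cj, Subgroup.map_sup, sup_le_iff]
      refine ⟨(mem_normalizer_iff_cj.1 (Coprime.left_le_normalizer_commutator R Y hr)).le.trans le_sup_left, ?_⟩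
      rintro _ ⟨y, hy, rfl⟩
      show r * y * r⁻¹ ∈ R₁ ⊔ Y
      rw [show r * y * r⁻¹ = ⁅r, y⁆ * y by simp [commutatorElement_def, mul_assoc]]
      exact Subgroup.mul_mem_sup (Subgroup.commutator_mem_commutator hr hy) hy
    intro r hr
    refine mem_normalizer_iff_cj.2 (le_antisymm (hle r hr) ?_)
    have := cj_mono (hle r⁻¹ (inv_mem hr)) r
    rwa [cj_cj, mul_inv_cancel, cj_one] at this
  have hR₁O : R₁ ⊔ O = H := by
    rw [← frakH_sup_eq hH (sup_le (hR₁R.trans hRH) (hYO.trans hOH)) hN2 le_sup_right, sup_assoc,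
      sup_eq_right.2 hYO]
  refine ⟨le_antisymm hR₁R ?_, hRO, hN1⟩
  haveI : (R₁.subgroupOf H).Normal :=
    (Subgroup.normal_subgroupOf_iff_le_normalizer (hR₁R.trans hRH)).2 hR₁n
  have h := pResidual_le_of_le_sup (A := R₁.subgroupOf H) (B := O.subgroupOf H)
    ((isPGroup_pCoreOf p M).comap_subtype) (le_top.trans_eq (by
      rw [← Subgroup.subgroupOf_sup (hR₁R.trans hRH) hOH, hR₁O, Subgroup.subgroupOf_self]))
  rintro _ ⟨x, hx, rfl⟩
  exact h hx

section Abstract

variable {K : Type*} [Group K]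

/-- If `R = [R, Y]` and `A` is centralized by `R` and `Y`, an element `t` with `[R, t] ≤ A` whose displacement by `Y` fixes
every `[r, t]` centralizes `R`. -/
theorem commute_of_displacement {A R Y : Subgroup K} (hAR : A ≤ R)
    (hAcR : R ≤ Subgroup.centralizer (A : Set K)) (hAcY : Y ≤ Subgroup.centralizer (A : Set K))
    (hYR : Y ≤ Subgroup.normalizer (R : Set K)) (hRY : ⁅R, Y⁆ = R) {t : K}
    (ht : ∀ r ∈ R, ⁅r, t⁆ ∈ A) (hty : ∀ y ∈ Y, ∀ r ∈ R, ⁅r, y⁻¹ * t * y⁆ = ⁅r, t⁆) :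
    R ≤ Subgroup.centralizer ({t} : Set K) := by
  rw [← hRY, Subgroup.commutator_le]
  intro r hr y hy
  have hc : ∀ a ∈ A, ∀ z, z ∈ R ∨ z ∈ Y → z * a * z⁻¹ = a := fun a ha z hz => by
    have h : a * z = z * a := Subgroup.mem_centralizer_iff.1 (hz.elim (fun h => hAcR h) (fun h => hAcY h)) a ha
    rw [← h, mul_inv_cancel_right]
  set s := y * r⁻¹ * y⁻¹ with hs_def
  have hs : s ∈ R := (Subgroup.mem_normalizer_iff.1 (hYR hy) _).1 (inv_mem hr)
  have h1 : ⁅s, t⁆ = ⁅r⁻¹, t⁆ := by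
    rw [show ⁅s, t⁆ = y * ⁅r⁻¹, y⁻¹ * t * y⁆ * y⁻¹ by simp [hs_def, commutatorElement_def, mul_assoc],
      hty y hy _ (inv_mem hr), hc _ (ht _ (inv_mem hr)) y (Or.inr hy)]
  have hmul : ∀ a b : K, a ∈ R → b ∈ R → ⁅a * b, t⁆ = ⁅b, t⁆ * ⁅a, t⁆ := fun a b ha hb => by
    rw [show ⁅a * b, t⁆ = a * ⁅b, t⁆ * a⁻¹ * ⁅a, t⁆ by simp [commutatorElement_def, mul_assoc],
      hc _ (ht b hb) a (Or.inl ha)]
  have h2 : ⁅r⁻¹, t⁆ * ⁅r, t⁆ = 1 := by
    rw [← hmul r r⁻¹ hr (inv_mem hr), mul_inv_cancel, commutatorElement_one_left]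
  rw [Subgroup.mem_centralizer_singleton_iff, ← commutatorElement_eq_one_iff_mul_comm,
    show ⁅r, y⁆ = r * s by simp [hs_def, commutatorElement_def, mul_assoc], hmul r s hr hs, h1, h2]

variable [Finite K] {q : ℕ} [hq : Fact q.Prime]

/-- A criterion for `p`-irreducibility. -/
theorem isPIrreducible_of_commutator (Y : Subgroup K) (P : Sylow q K)
    (hY : ∀ a ∈ Y, ∀ b ∈ Y, Commute a b)
    (hPY : (P : Subgroup K) ≤ Subgroup.normalizer (Y : Set K))
    (hRY : ⁅pResidual q K, Y⁆ = pResidual q K)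
    (hmin : ∀ N : Subgroup K, N.Normal → N ≤ pResidual q K → N ≠ pResidual q K → ⁅N, Y⁆ ≤ pCore q K)
    (hnot : ¬ IsPClosed q K) : IsPIrreducible q K := by
  refine ⟨hnot, fun N hN hNc => ?_⟩
  by_contra hRN
  apply hNc
  haveI := hN
  set R := pResidual q K with hR
  set U := pCore q K with hU
  set f := QuotientGroup.mk' U with hf
  have hfs : Function.Surjective f := QuotientGroup.mk'_surjective U
  set A := (N ⊓ R).map f with hA
  have hker : ∀ X : Subgroup K, X ≤ U → X.map f = ⊥ := fun X h => by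
    rw [Subgroup.map_eq_bot_iff, hf, QuotientGroup.ker_mk']
    exact h
  have hAY : Y.map f ≤ Subgroup.centralizer (A : Set (K ⧸ U)) := by
    rw [← Subgroup.commutator_eq_bot_iff_le_centralizer, Subgroup.commutator_comm, hA, ← Subgroup.map_commutator]
    exact hker _ (hmin _ inferInstance inf_le_right fun h => hRN (h ▸ inf_le_left))
  have hRY' : ⁅R.map f, Y.map f⁆ = R.map f := by rw [← Subgroup.map_commutator, hRY]
  haveI hRn : (R.map f).Normal := Subgroup.Normal.map inferInstance f hfs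
  haveI hAn : A.Normal := Subgroup.Normal.map inferInstance f hfs
  have hAR : R.map f ≤ Subgroup.centralizer (A : Set (K ⧸ U)) := by
    have h := Subgroup.commutator_le_left (Subgroup.centralizer (A : Set (K ⧸ U))) (R.map f)
    rw [← hRY', Subgroup.commutator_comm]
    exact (Subgroup.commutator_mono hAY le_rfl).trans h
  have htA : ∀ t ∈ N.map f, ∀ r ∈ R.map f, ⁅r, t⁆ ∈ A := by
    rintro _ ⟨t, ht, rfl⟩ _ ⟨r, hr, rfl⟩
    rw [← map_commutatorElement]
    refine ⟨_, ⟨?_, ?_⟩, rfl⟩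
    · exact Subgroup.commutator_le_right (⊤ : Subgroup K) N
        (Subgroup.commutator_mem_commutator (Subgroup.mem_top r) ht)
    · exact Subgroup.commutator_le_left R (⊤ : Subgroup K)
        (Subgroup.commutator_mem_commutator hr (Subgroup.mem_top t))
  have hYn : Y.map f ≤ Subgroup.normalizer ((R.map f : Subgroup (K ⧸ U)) : Set (K ⧸ U)) := by
    rw [Subgroup.normalizer_eq_top]; exact le_top
  have hAR' : A ≤ R.map f := Subgroup.map_mono inf_le_right
  haveI hNn : (N.map f).Normal := Subgroup.Normal.map hN f hfs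
  -- the elements of `Y` in `N` centralize `R` modulo `O_p(K)`
  have hu : ∀ u ∈ Y.map f, u ∈ N.map f → R.map f ≤ Subgroup.centralizer ({u} : Set (K ⧸ U)) := by
    intro u hu huN
    refine commute_of_displacement hAR' hAR hAY hYn hRY' (htA u huN) fun y hy r _ => ?_
    obtain ⟨u', hu', rfl⟩ := hu
    obtain ⟨y', hy', rfl⟩ := hy
    rw [mul_assoc, ← map_mul, (hY u' hu' y' hy').eq, map_mul, inv_mul_cancel_left]
  have ht : ∀ t ∈ N ⊓ (P : Subgroup K), R.map f ≤ Subgroup.centralizer ({f t} : Set (K ⧸ U)) := by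
    intro t ht
    refine commute_of_displacement hAR' hAR hAY hYn hRY' (htA _ ⟨t, ht.1, rfl⟩) fun y hy r hr => ?_
    obtain ⟨y', hy', rfl⟩ := hy
    set u := t⁻¹ * y'⁻¹ * t * y' with hudef
    have huY : u ∈ Y := by
      have h := (Subgroup.mem_normalizer_iff.1 (hPY (inv_mem ht.2)) y'⁻¹).1 (inv_mem hy')
      rw [inv_inv] at h
      exact mul_mem h hy'
    have huN : u ∈ N := by
      have h := hN.conj_mem t ht.1 y'⁻¹
      rw [inv_inv] at h
      rw [hudef, show t⁻¹ * y'⁻¹ * t * y' = t⁻¹ * (y'⁻¹ * t * y') by group]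
      exact mul_mem (inv_mem ht.1) h
    have h1 : ⁅r, f u⁆ = 1 := commutatorElement_eq_one_iff_mul_comm.2
      (Subgroup.mem_centralizer_singleton_iff.1 (hu _ ⟨u, huY, rfl⟩ ⟨u, huN, rfl⟩ hr))
    rw [show (f y')⁻¹ * f t * f y' = f t * f u by
      rw [hudef]; simp [mul_assoc],
      show ⁅r, f t * f u⁆ = ⁅r, f t⁆ * (f t * ⁅r, f u⁆ * (f t)⁻¹) by simp only [commutatorElement_def]; group,
      h1, mul_one, mul_inv_cancel, mul_one]
  set T := N ⊓ (P : Subgroup K) with hT
  have hTR : R ≤ Subgroup.normalizer ((U ⊔ T : Subgroup K) : Set K) := by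
    intro r hr
    have h : f r ∈ Subgroup.normalizer ((T.map f : Subgroup (K ⧸ U)) : Set (K ⧸ U)) := by
      refine Subgroup.centralizer_le_normalizer _ (Subgroup.mem_centralizer_iff.2 ?_)
      rintro _ ⟨t, htt, rfl⟩
      exact (Subgroup.mem_centralizer_singleton_iff.1 (ht t htt ⟨r, hr, rfl⟩)).symm
    have e : U ⊔ T = (T.map f).comap f := by
      rw [Subgroup.comap_map_eq, hf, QuotientGroup.ker_mk', sup_comm]
    rw [e]
    exact Subgroup.le_normalizer_comap f h
  have hPn : (P : Subgroup K) ≤ Subgroup.normalizer ((U ⊔ T : Subgroup K) : Set K) :=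
    Coprime.le_normalizer_sup (by rw [Subgroup.normalizer_eq_top]; exact le_top)
      (le_normalizer_inf (by rw [Subgroup.normalizer_eq_top]; exact le_top) Subgroup.le_normalizer)
  haveI : (U ⊔ T).Normal := by
    rw [← Subgroup.normalizer_eq_top_iff, eq_top_iff, ← sylow_sup_pResidual P]
    exact sup_le hPn hTR
  have hTU : T ≤ U := le_sup_right.trans (Cores.le_pCore ((Cores.pCore_isPGroup q).to_sup_of_normal_left
    (P.isPGroup'.to_le inf_le_right)))
  refine isPClosed_normal_iff.2 fun x hx k hk => ?_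
  obtain ⟨P', hP'⟩ := (pow_mem_zpowers_isPGroup hk).exists_le_sylow
  obtain ⟨g, hg⟩ := MulAction.exists_smul_eq K P P'
  have hxP := hP' (Subgroup.mem_zpowers x)
  rw [← hg] at hxP
  obtain ⟨z, hz, rfl⟩ := hxP
  have hzN : z ∈ N := by
    have h := hN.conj_mem _ hx g⁻¹
    simpa [mul_assoc] using h
  exact (inferInstance : U.Normal).conj_mem z (hTU ⟨hzN, hz⟩) g

end Abstract

end Cfsg.Agent.Lib.CharP
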