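import Cfsg.Agent.Lib.CharP.FrakLQuot
import Cfsg.Agent.Lib.CharP.SL2FixedPoint
import Cfsg.Agent.Lib.SzTori.Count

/-!
# Fixed-point-free action on the abelian radical of a member of `𝔏`

`f : X → Xb` has abelian kernel `A = (A ∩ Y) × (A ∩ Y)^g`; elements of `Xb` of order prime to `p` act without
fixed points on `A` when `Xb` is `SL₂(q)`, `Sz(q)` or has Sylow `2`-subgroups of order `2`.

Owner: helper19.
-/

set_option autoImplicit false
set_option linter.style.haveILetI false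

open Cfsg
open scoped Pointwise

namespace Cfsg.Agent.Lib.CharP

/-- The abelian radical situation. -/
structure RadicalData (p : ℕ) {X Xb : Type*} [Group X] [Group Xb] (Y : Subgroup X) (f : X →* Xb) :
    Prop where
  surj : Function.Surjective f
  comm : ∀ a b, f a = 1 → f b = 1 → a * b = b * a
  expA : ∀ a, f a = 1 → a ^ p = 1
  Ycomm : ∀ a ∈ Y, ∀ b ∈ Y, a * b = b * a
  Yexp : ∀ a ∈ Y, a ^ p = 1
  norm : ∀ a, f a = 1 → ∀ y ∈ Y, a * y * a⁻¹ ∈ Y
  cap : ∀ g, g ∉ Subgroup.normalizer (Y : Set X) → ∀ z ∈ Y, g⁻¹ * z * g ∈ Y → z = 1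
  split : ∀ g, g ∉ Subgroup.normalizer (Y : Set X) → ∀ a, f a = 1 →
    ∃ b ∈ Y, f b = 1 ∧ ∃ b' ∈ Y, f b' = 1 ∧ a = b * (g * b' * g⁻¹)
  maxl : ∀ K : Subgroup X, Y ≤ K → K ≠ ⊤ → K ≤ Subgroup.normalizer (Y : Set X)
  ex : ∃ g, g ∉ Subgroup.normalizer (Y : Set X)

/-- Every element of order `p` of a Sylow subgroup over `Z` lies in `Z`. -/
def OmegaEq (p : ℕ) {G : Type*} [Group G] (Z : Subgroup G) : Prop :=
  ∀ P : Sylow p G, Z ≤ (P : Subgroup G) → ∀ t ∈ (P : Subgroup G), t ^ p = 1 → t ∈ Z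

namespace RadicalData

variable {p : ℕ} [Fact p.Prime] {X Xb : Type*} [Group X] [Group Xb] [Finite X] [Finite Xb] {Y : Subgroup X}
  {f : X →* Xb}

theorem conjNormal_ker (D : RadicalData p Y f) : f.ker ≤ (MulAut.conjNormal (H := f.ker)).ker := by
  intro a ha
  rw [MonoidHom.mem_ker]
  ext b
  show a * b * a⁻¹ = (b : X)
  rw [D.comm a b ha b.2, mul_inv_cancel_right]

/-- The action of `Xb` on the kernel. -/
noncomputable def act (D : RadicalData p Y f) : Xb →* MulAut f.ker :=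
  f.liftOfSurjective D.surj ⟨MulAut.conjNormal, D.conjNormal_ker⟩

theorem act_apply (D : RadicalData p Y f) (x : X) (a : f.ker) :
    ((D.act (f x) a : f.ker) : X) = x * a * x⁻¹ := by
  rw [show D.act (f x) = MulAut.conjNormal x from f.liftOfRightInverse_comp_apply _ _ _ x]
  rfl

/-- The centraliser in the kernel of an element of `Y` outside the kernel is `A ∩ Y`. -/
theorem fix_mem (D : RadicalData p Y f) (hΩ : OmegaEq p (Y.map f)) {y a : X} (hy : y ∈ Y) (hyA : f y ≠ 1)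
    (ha : f a = 1) (hfix : y * a * y⁻¹ = a) : a ∈ Y := by
  obtain ⟨g, hg⟩ := D.ex
  obtain ⟨b, hb, -, b', hb', hb'A, rfl⟩ := D.split g hg a ha
  set c := g * b' * g⁻¹ with hc
  have hyc : y * c = c * y := by
    have h1 : y * (b * c) = b * c * y := mul_inv_eq_iff_eq_mul.1 hfix
    rw [← mul_assoc, D.Ycomm y hy b hb, mul_assoc, mul_assoc] at h1
    exact mul_left_cancel h1
  set K := Subgroup.zpowers (g⁻¹ * y * g) ⊔ Y with hK
  rcases eq_or_ne K ⊤ with hKt | hKt
  · have hcen : ∀ x : X, x * b' = b' * x := by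
      intro x
      have hle : K ≤ Subgroup.centralizer ({b'} : Set X) := by
        refine sup_le (Subgroup.zpowers_le.2 ?_) fun z hz => ?_
        · rw [Subgroup.mem_centralizer_singleton_iff]
          have h1 := congrArg (fun w => g⁻¹ * w * g) hyc
          simpa [hc, mul_assoc] using h1
        · rw [Subgroup.mem_centralizer_singleton_iff]; exact D.Ycomm z hz b' hb'
      exact Subgroup.mem_centralizer_singleton_iff.1 (hle (hKt ▸ Subgroup.mem_top x))
    have hcb : c = b' := by rw [hc, hcen g, mul_inv_cancel_right]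
    have h1 : b' = 1 := D.cap g hg b' hb' (by rw [mul_assoc, ← hcen g, inv_mul_cancel_left]; exact hb')
    rw [hcb, h1, mul_one]
    exact hb
  · exfalso
    have hgy : g⁻¹ * y * g ∈ Subgroup.normalizer (Y : Set X) :=
      D.maxl K le_sup_right hKt (Subgroup.mem_sup_left (Subgroup.mem_zpowers _))
    set t := f (g⁻¹ * y * g) with ht
    have hYf : IsPGroup p (Y.map f) := by
      refine IsPGroup.map (fun z => ⟨1, Subtype.ext ?_⟩) f
      rw [pow_one, SubmonoidClass.coe_pow, D.Yexp z z.2, Subgroup.coe_one]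
    have htn : Subgroup.zpowers t ≤ Subgroup.normalizer ((Y.map f : Subgroup Xb) : Set Xb) :=
      Subgroup.zpowers_le.2 (Subgroup.le_normalizer_map f ⟨_, hgy, rfl⟩)
    have htp : t ^ p = 1 := by
      rw [ht, ← map_pow, show (g⁻¹ * y * g) ^ p = g⁻¹ * y ^ p * g by
        simpa using conj_pow (a := g⁻¹) (b := y) (i := p), D.Yexp y hy, mul_one, inv_mul_cancel, map_one]
    have htg : IsPGroup p (Subgroup.zpowers t) := pow_mem_zpowers_isPGroup (k := 1) (by rw [pow_one]; exact htp)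
    obtain ⟨P, hP⟩ := (htg.to_sup_of_normal_right' hYf htn).exists_le_sylow
    obtain ⟨z, hz, hzt⟩ := hΩ P (le_sup_right.trans hP) t
      (hP (Subgroup.mem_sup_left (Subgroup.mem_zpowers t))) htp
    have hkz : f (g⁻¹ * y * g * z⁻¹) = 1 := by rw [map_mul, map_inv, hzt, ← ht, mul_inv_cancel]
    obtain ⟨b₁, hb₁, hb₁A, b₂, hb₂, -, hdec⟩ := D.split g hg (g * (g⁻¹ * y * g * z⁻¹) * g⁻¹)
      (by rw [map_mul, map_mul, hkz, mul_one, map_inv, mul_inv_cancel])
    have hyb : g⁻¹ * (b₁⁻¹ * y) * g = b₂ * z := by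
      calc g⁻¹ * (b₁⁻¹ * y) * g = g⁻¹ * b₁⁻¹ * (g * (g⁻¹ * y * g * z⁻¹) * g⁻¹) * g * z := by group
        _ = b₂ * z := by rw [hdec]; group
    have h1 := D.cap g hg (b₁⁻¹ * y) (mul_mem (inv_mem hb₁) hy) (hyb ▸ mul_mem hb₂ hz)
    exact hyA (by rw [← inv_mul_eq_one.1 h1, hb₁A])

/-- Elements of order `p` lie in conjugates of `Y`. -/
theorem exists_conj (D : RadicalData p Y f) (hΩ : OmegaEq p (Y.map f)) {t : Xb} (ht : t ^ p = 1) :
    ∃ (l : X) (y : X), y ∈ Y ∧ t = f (l * y * l⁻¹) := by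
  have hYf : IsPGroup p (Y.map f) := by
    refine IsPGroup.map (fun z => ⟨1, Subtype.ext ?_⟩) f
    rw [pow_one, SubmonoidClass.coe_pow, D.Yexp z z.2, Subgroup.coe_one]
  obtain ⟨P₀, hP₀⟩ := hYf.exists_le_sylow
  have htp : IsPGroup p (Subgroup.zpowers t) := pow_mem_zpowers_isPGroup (k := 1) (by rw [pow_one]; exact ht)
  obtain ⟨P, hP⟩ := htp.exists_le_sylow
  obtain ⟨u, hu⟩ := MulAction.exists_smul_eq Xb P P₀
  obtain ⟨l, rfl⟩ := D.surj u
  have h1 : f l * t * (f l)⁻¹ ∈ (P₀ : Subgroup Xb) := by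
    rw [← hu, Sylow.coe_subgroup_smul]
    exact ⟨t, hP (Subgroup.mem_zpowers t), rfl⟩
  obtain ⟨y, hy, hyt⟩ := hΩ P₀ hP₀ _ h1 (by rw [conj_pow, ht, mul_one, mul_inv_cancel])
  refine ⟨l⁻¹, y, hy, ?_⟩
  simp [hyt, mul_assoc]

theorem fix_mem_conj (D : RadicalData p Y f) (hΩ : OmegaEq p (Y.map f)) {l y : X} (hy : y ∈ Y)
    (hne : f (l * y * l⁻¹) ≠ 1) {a : f.ker} (hfix : D.act (f (l * y * l⁻¹)) a = a) :
    l⁻¹ * a * l ∈ Y := by
  have h1 := congrArg Subtype.val hfix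
  rw [D.act_apply] at h1
  refine D.fix_mem hΩ hy (fun e => hne ?_) ?_ ?_
  · rw [map_mul, map_mul, e, mul_one, map_inv, mul_inv_cancel]
  · rw [map_mul, map_mul, show f (a : X) = 1 from a.2, mul_one, map_inv, inv_mul_cancel]
  · calc y * (l⁻¹ * a * l) * y⁻¹ = l⁻¹ * (l * y * l⁻¹ * a * (l * y * l⁻¹)⁻¹) * l := by group
      _ = l⁻¹ * a * l := by rw [h1]

end RadicalData

/-- An element inverted by an involution has no fixed points. -/
theorem RadicalData.fpf_of_inverted {X Xb : Type*} [Group X] [Group Xb] [Finite X] [Finite Xb] {Y : Subgroup X}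
    {f : X →* Xb} (D : RadicalData 2 Y f) (hΩ : OmegaEq 2 (Y.map f)) {x t : Xb} (hx : x * x ≠ 1)
    (ht : t * t = 1) (htx : t * x * t = x⁻¹) (a : f.ker) (ha : D.act x a = a) : a = 1 := by
  haveI : Fact (Nat.Prime 2) := ⟨Nat.prime_two⟩
  by_contra ha1
  have hcomm : ∀ u v : f.ker, u * v = v * u := fun u v => Subtype.ext (D.comm u v u.2 v.2)
  have hmul : ∀ (u v : Xb) (c : f.ker), D.act (u * v) c = D.act u (D.act v c) := fun u v c => by
    rw [map_mul]; rfl
  have hone : ∀ c : f.ker, D.act 1 c = c := fun c => by rw [map_one]; rfl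
  have ht1 : t ≠ 1 := by
    rintro rfl
    simp only [one_mul, mul_one] at htx
    exact hx (by nth_rewrite 1 [htx]; exact inv_mul_cancel x)
  have htinv : t⁻¹ = t := inv_eq_of_mul_eq_one_right ht
  have hfx' : D.act x⁻¹ a = a := by
    nth_rewrite 1 [← ha]; rw [← hmul, inv_mul_cancel, hone]
  have hxt : x * t = t * x⁻¹ := by rw [← htx, mul_assoc t x t, ← mul_assoc t t, ht, one_mul]
  -- a common fixed point
  obtain ⟨v, hv1, hvt, hvx⟩ : ∃ v : f.ker, v ≠ 1 ∧ D.act t v = v ∧ D.act x v = v := by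
    by_cases h : a * D.act t a = 1
    · refine ⟨a, ha1, ?_, ha⟩
      rw [eq_inv_of_mul_eq_one_right h]
      exact inv_eq_of_mul_eq_one_right (Subtype.ext (by
        rw [Subgroup.coe_mul, ← sq, D.expA a a.2, Subgroup.coe_one]))
    · refine ⟨_, h, ?_, ?_⟩
      · rw [map_mul, ← hmul, ht, hone, hcomm]
      · rw [map_mul, ha, ← hmul, hxt, hmul, hfx']
  have hs : (t * x) * (t * x) = 1 := by rw [← mul_assoc, htx, inv_mul_cancel]
  have hs1 : t * x ≠ 1 := fun h => hx (by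
    rw [← inv_eq_of_mul_eq_one_right h, htinv, ht])
  obtain ⟨l, y, hy, hyt⟩ := D.exists_conj hΩ (t := t) (by rw [sq, ht])
  obtain ⟨k, z, hz, hzs⟩ := D.exists_conj hΩ (t := t * x) (by rw [sq, hs])
  have h1 : l⁻¹ * v * l ∈ Y := D.fix_mem_conj hΩ hy (hyt ▸ ht1) (hyt ▸ hvt)
  have h2 : k⁻¹ * v * k ∈ Y := D.fix_mem_conj hΩ hz (hzs ▸ hs1) (hzs ▸ (by rw [hmul, hvx, hvt]))
  by_cases hlk : l⁻¹ * k ∈ Subgroup.normalizer (Y : Set X)
  · have hw : (l⁻¹ * k) * z * (l⁻¹ * k)⁻¹ ∈ Y := (Subgroup.mem_normalizer_iff.1 hlk z).1 hz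
    set w := (l⁻¹ * k) * z * (l⁻¹ * k)⁻¹ with hwdef
    refine hx ?_
    have hxe : x = f (l * (y * w) * l⁻¹) := by
      rw [show l * (y * w) * l⁻¹ = (l * y * l⁻¹) * (k * z * k⁻¹) by rw [hwdef]; group, map_mul, ← hyt,
        ← hzs, ← mul_assoc, ht, one_mul]
    rw [hxe, ← map_mul, ← sq, conj_pow, D.Yexp _ (mul_mem hy hw), mul_one, mul_inv_cancel, map_one]
  · have h3 := D.cap _ hlk _ h1 (by
      rw [show (l⁻¹ * k)⁻¹ * (l⁻¹ * v * l) * (l⁻¹ * k) = k⁻¹ * v * k by group]; exact h2)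
    exact hv1 (Subtype.ext (by simpa [mul_assoc] using congrArg (fun w => l * w * l⁻¹) h3))

/-- In `SL₂(q)` elements not of order `p` have no fixed points. -/
theorem RadicalData.fpf_SL2 {p : ℕ} [Fact p.Prime] {F : Type*} [Field F] [Fintype F] [CharP F p] {X : Type*}
    [Group X] [Finite X] {Y : Subgroup X} {f : X →* Matrix.SpecialLinearGroup (Fin 2) F}
    (D : RadicalData p Y f) (hY : Y.map f = (Linear.uSL (F := F)).range)
    {x : Matrix.SpecialLinearGroup (Fin 2) F} (hx : x ^ p ≠ 1) (a : f.ker) (ha : D.act x a = a) : a = 1 := by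
  letI : CommGroup f.ker :=
    { (inferInstance : Group f.ker) with mul_comm := fun u v => Subtype.ext (D.comm u v u.2 v.2) }
  have hΩ : OmegaEq p (Y.map f) := by
    intro P hP t ht _
    refine (Subgroup.eq_of_le_of_card_ge hP ?_).ge ht
    obtain ⟨g, hg⟩ := Linear.exists_sylow_eq_conj_SL (F := F) p P
    rw [hY, hg, ← Nat.card_congr (Subgroup.equivSMul (MulAut.conj g) _).toEquiv]
  let σ : Matrix.SpecialLinearGroup (Fin 2) F →* AddMonoid.End (Additive f.ker) :=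
    { toFun := fun g => MonoidHom.toAdditive (D.act g).toMonoidHom
      map_one' := by ext b; rw [map_one]; rfl
      map_mul' := fun g g' => by ext b; rw [map_mul]; rfl }
  let B : AddSubgroup (Additive f.ker) := Subgroup.toAddSubgroup ((Y.subgroupOf f.ker))
  have hup : ∀ s : F, ∃ y ∈ Y, f y = SL2Fix.up s := fun s => by
    have h1 : SL2Fix.up s ∈ Y.map f := by
      rw [hY]
      exact ⟨Multiplicative.ofAdd s, Subtype.ext (Linear.coe_uSL _)⟩
    obtain ⟨y, hy, hys⟩ := h1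
    exact ⟨y, hy, hys⟩
  obtain ⟨g, hg⟩ := D.surj SL2Fix.wy
  have hgN : g ∉ Subgroup.normalizer (Y : Set X) := by
    intro hn
    obtain ⟨y, hy, hys⟩ := hup 1
    have h1 : f (g * y * g⁻¹) ∈ (Linear.uSL (F := F)).range := hY ▸ ⟨_, (Subgroup.mem_normalizer_iff.1 hn y).1 hy, rfl⟩
    obtain ⟨r, hr⟩ := h1
    rw [map_mul, map_mul, map_inv, hg, hys, eq_mul_inv_iff_mul_eq] at hr
    have h2 := congrArg (fun m : Matrix.SpecialLinearGroup (Fin 2) F => m.1 1 1) hr
    simp [SL2Fix.mul00, Linear.coe_uSL] at h2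
  refine SL2Fix.fpf (p := p) σ B ?_ ?_ ?_ ?_ ?_ ?_ hx (v := Additive.ofMul a) (congrArg Additive.ofMul ha)
  · intro s b hb
    obtain ⟨y, hy, hys⟩ := hup s
    refine congrArg Additive.ofMul (Subtype.ext ?_ : D.act (SL2Fix.up s) b.toMul = b.toMul)
    rw [← hys, D.act_apply, D.Ycomm y hy (b.toMul : X) hb, mul_inv_cancel_right]
  · intro s hs b hb
    obtain ⟨y, hy, hys⟩ := hup s
    have h1 : D.act (SL2Fix.up s) b.toMul = b.toMul := congrArg Additive.toMul hb
    rw [← hys] at h1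
    have h2 := congrArg Subtype.val h1
    rw [D.act_apply] at h2
    refine D.fix_mem hΩ hy (fun e => hs ?_) b.toMul.2 h2
    rw [hys] at e
    have := congrArg (fun m : Matrix.SpecialLinearGroup (Fin 2) F => m.1 0 1) e
    simpa using this
  · intro s b
    obtain ⟨y, hy, hys⟩ := hup s
    show ((D.act (SL2Fix.up s) b.toMul / b.toMul : f.ker) : X) ∈ Y
    rw [div_eq_mul_inv, Subgroup.coe_mul, ← hys, D.act_apply, Subgroup.coe_inv,
      show y * b.toMul * y⁻¹ * (b.toMul : X)⁻¹ = y * (b.toMul * y⁻¹ * (b.toMul : X)⁻¹) by group]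
    exact mul_mem hy (D.norm _ b.toMul.2 _ (inv_mem hy))
  · intro v
    obtain ⟨b, hb, hbA, b', hb', hb'A, he⟩ := D.split g hgN v.toMul v.toMul.2
    refine ⟨Additive.ofMul ⟨b, hbA⟩, hb, Additive.ofMul ⟨b', hb'A⟩, hb', ?_⟩
    refine congrArg Additive.ofMul (Subtype.ext ?_ : v.toMul = ⟨b, hbA⟩ * D.act SL2Fix.wy ⟨b', hb'A⟩)
    rw [Subgroup.coe_mul, ← hg, D.act_apply, he]
  · intro b hb hwb
    have h1 : ((D.act SL2Fix.wy b.toMul : f.ker) : X) ∈ Y := hwb
    rw [← hg, D.act_apply] at h1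
    have h3 := D.cap g hgN _ h1 (by
      rw [show g⁻¹ * (g * (b.toMul : X) * g⁻¹) * g = b.toMul by group]; exact hb)
    exact congrArg Additive.ofMul (Subtype.ext (conj_eq_one_iff.1 h3) : b.toMul = 1)
  · intro v
    exact congrArg Additive.ofMul (Subtype.ext (by
      rw [SubmonoidClass.coe_pow, D.expA _ v.toMul.2, Subgroup.coe_one]) : v.toMul ^ p = 1)

section Two

/-- When two conjugates of the order two subgroup `Z` generate, elements of odd order are inverted. -/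
theorem omega_and_invert_of_card_two {G : Type*} [Group G] [Finite G] (hO : pCore 2 G = ⊥) {Z : Subgroup G}
    (hZ : Nat.card Z = 2) {g : G} (hgen : Z ⊔ Z.map (MulAut.conj g).toMonoidHom = ⊤) :
    OmegaEq 2 Z ∧ ∀ x : G, x ≠ 1 → (orderOf x).Coprime 2 → ∃ t, t * t = 1 ∧ t * x * t = x⁻¹ := by
  haveI : Fact (Nat.Prime 2) := ⟨Nat.prime_two⟩
  haveI : Nontrivial Z := Finite.one_lt_card_iff_nontrivial.1 (by omega)
  obtain ⟨⟨a, haZ⟩, ha1⟩ := exists_ne (1 : Z)
  have ha0 : a ≠ 1 := fun e => ha1 (Subtype.ext e)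
  have ho : orderOf a = 2 := by
    refine ((Nat.dvd_prime Nat.prime_two).1 (hZ ▸ Subgroup.orderOf_dvd_natCard Z haZ)).resolve_left ?_
    exact fun e => ha0 (orderOf_eq_one_iff.1 e)
  have hZa : Z = Subgroup.zpowers a :=
    (Subgroup.eq_of_le_of_card_ge (Subgroup.zpowers_le.2 haZ) (by rw [Nat.card_zpowers, ho, hZ])).symm
  have haa : a * a = 1 := by rw [← sq, ← ho, pow_orderOf_eq_one]
  set b := g * a * g⁻¹ with hb
  have hbb : b * b = 1 := by
    rw [hb, show g * a * g⁻¹ * (g * a * g⁻¹) = g * (a * a) * g⁻¹ by group, haa, mul_one, mul_inv_cancel]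
  have htop : Subgroup.closure {a, b} = (⊤ : Subgroup G) := by
    rw [eq_top_iff, ← hgen, hZa, MonoidHom.map_zpowers]
    exact sup_le (Subgroup.zpowers_le.2 (Subgroup.subset_closure (Or.inl rfl)))
      (Subgroup.zpowers_le.2 (Subgroup.subset_closure (Or.inr rfl)))
  refine ⟨fun P hP t ht _ => (Subgroup.eq_of_le_of_card_ge hP ((card_le_two_of_dihedral haa hbb htop hO
    P.isPGroup').trans_eq hZ.symm)).ge ht, fun x hx hox => ?_⟩
  set c := a * b with hc
  have hai : a⁻¹ = a := inv_eq_of_mul_eq_one_right haa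
  have hbi : b⁻¹ = b := inv_eq_of_mul_eq_one_right hbb
  have hac : ∀ i : ℤ, c ^ i * a = a * c ^ (-i) := fun i => by
    have h1 : a * c ^ (-i) * a⁻¹ = c ^ i := by
      rw [← conj_zpow, show a * c * a⁻¹ = c⁻¹ by
        rw [hc, mul_inv_rev, hai, hbi, ← mul_assoc, haa, one_mul], inv_zpow', neg_neg]
    rw [← h1, inv_mul_cancel_right]
  have hall : ∀ u : G, ∃ i : ℤ, u = c ^ i ∨ u = a * c ^ i := by
    intro u
    have hu : u ∈ Subgroup.closure ({a, b} : Set G) := htop ▸ Subgroup.mem_top u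
    induction hu using Subgroup.closure_induction with
    | mem u hu =>
      rcases hu with rfl | rfl
      · exact ⟨0, Or.inr (by simp)⟩
      · exact ⟨1, Or.inr (by rw [zpow_one, hc, ← mul_assoc, haa, one_mul])⟩
    | one => exact ⟨0, Or.inl (zpow_zero c).symm⟩
    | mul u v _ _ hu hv =>
      obtain ⟨i, rfl | rfl⟩ := hu <;> obtain ⟨j, rfl | rfl⟩ := hv
      · exact ⟨i + j, Or.inl (zpow_add c i j).symm⟩
      · exact ⟨-i + j, Or.inr (by rw [← mul_assoc, hac, mul_assoc, ← zpow_add])⟩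
      · exact ⟨i + j, Or.inr (by rw [mul_assoc, ← zpow_add])⟩
      · exact ⟨-i + j, Or.inl (by
          rw [show a * c ^ i * (a * c ^ j) = a * (c ^ i * a) * c ^ j by group, hac, ← mul_assoc a a, haa,
            one_mul, ← zpow_add])⟩
    | inv u _ hu =>
      obtain ⟨i, rfl | rfl⟩ := hu
      · exact ⟨-i, Or.inl (zpow_neg c i).symm⟩
      · exact ⟨i, Or.inr (by rw [mul_inv_rev, hai, ← zpow_neg, hac, neg_neg])⟩
  obtain ⟨i, rfl | rfl⟩ := hall x
  · refine ⟨a, haa, ?_⟩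
    rw [mul_assoc, hac, ← mul_assoc, haa, one_mul, zpow_neg]
  · exfalso
    refine hx (orderOf_eq_one_iff.1 (Nat.eq_one_of_dvd_one ?_))
    rw [← hox]
    refine Nat.dvd_gcd dvd_rfl (orderOf_dvd_of_pow_eq_one ?_)
    rw [sq, show a * c ^ i * (a * c ^ i) = a * (c ^ i * a) * c ^ i by group, hac, ← mul_assoc a a, haa,
      one_mul, ← zpow_add, neg_add_cancel, zpow_zero]

end Two

section Sz

open LieTwisted.Suzuki SzTori

variable {F : Type*} [Field F] [Fintype F] {m : ℕ}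

theorem omega_Sz (h : IsSzField F m) (hm : 1 ≤ m) {Z : Subgroup (Cfsg.Sz F m)}
    (hZ : IsElementaryAbelian 2 Z) (hq : Nat.card Z = Fintype.card F) : OmegaEq 2 Z := by
  intro P hP t ht ht2
  obtain ⟨k, hk⟩ := h.conj_sylow hm P
  set C := (unipCenter h).map (MulAut.conj k).toMonoidHom with hC
  have hcen : ∀ u ∈ (P : Subgroup (Cfsg.Sz F m)), u ^ 2 = 1 → u ∈ C := by
    intro u hu hu2
    obtain ⟨w, ⟨a₁, b₁, rfl⟩, rfl⟩ := hk.le hu
    have h2 : uS h a₁ b₁ ^ 2 = 1 := (MulAut.conj k).injective (by rw [map_pow, map_one]; exact hu2)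
    refine ⟨uS h a₁ b₁, ⟨b₁, ?_⟩, rfl⟩
    rw [SzElements.Basic.eq_zero_of_sq h h2]
  have hcardC : Nat.card C = Fintype.card F := by
    rw [hC, Subgroup.card_map_of_injective (MulAut.conj k).injective, ← h.card_center_unip hm,
      h.center_unip hm]
    refine (Nat.card_congr (Subgroup.subgroupOfEquivOfLe ?_).toEquiv).symm
    rintro _ ⟨b, rfl⟩
    exact h.uS_mem _ _
  have hZC : Z = C := Subgroup.eq_of_le_of_card_ge (fun z hz => hcen z (hP hz) ((elemAb_iff.1 hZ).2 z hz))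
    (by rw [hq, hcardC])
  rw [hZC]
  exact hcen t ht ht2

theorem invert_Sz (h : IsSzField F m) (hm : 1 ≤ m) {x : Cfsg.Sz F m} (hx : x ≠ 1)
    (hodd : (orderOf x).Coprime 2) : ∃ t, t * t = 1 ∧ t * x * t = x⁻¹ := by
  haveI : Fact (Nat.Prime 2) := ⟨Nat.prime_two⟩
  have hx4 : x ^ 4 ≠ 1 := fun h4 => by
    have h1 : orderOf x ∣ Nat.gcd (orderOf x) (2 ^ 2) := Nat.dvd_gcd dvd_rfl (orderOf_dvd_of_pow_eq_one h4)
    rw [(hodd.pow_right 2 : Nat.gcd (orderOf x) (2 ^ 2) = 1)] at h1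
    exact hx (orderOf_eq_one_iff.1 (Nat.eq_one_of_dvd_one h1))
  by_cases hf : HasFix x
  · obtain ⟨k, hk | ⟨e, -, hk⟩⟩ := fix_cases h hm hf
    · exfalso
      refine hx4 ?_
      have h1 := pow_four_of_mem h hm hk
      rw [show k⁻¹ * x * k = k⁻¹ * x * k⁻¹⁻¹ by rw [inv_inv], conj_pow, inv_inv] at h1
      simpa [mul_assoc] using congrArg (fun z => k * z * k⁻¹) h1
    · have hxk : x = k * dS h e * k⁻¹ := by rw [← hk]; group
      refine ⟨k * wS h * k⁻¹, ?_, ?_⟩
      · rw [show k * wS h * k⁻¹ * (k * wS h * k⁻¹) = k * (wS h * wS h) * k⁻¹ by group, h.wS_mul_self, mul_one,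
          mul_inv_cancel]
      · rw [hxk, show k * wS h * k⁻¹ * (k * dS h e * k⁻¹) * (k * wS h * k⁻¹) =
          k * (wS h * dS h e * wS h) * k⁻¹ by group, h.wS_mul_dS, mul_assoc _ (wS h), h.wS_mul_self, mul_one,
          map_inv]
        group
  · have hE := inE_of_not_fix h hm hf
    obtain ⟨g₁, g₂, -, -, -, -, -, hN⟩ := two_classes h hm
    set C := cen x with hC
    have hcard := hN x hE
    obtain ⟨⟨t, htN⟩, ht⟩ := exists_prime_orderOf_dvd_card' 2
      (G := Subgroup.normalizer (C : Set (Cfsg.Sz F m))) (by rw [hcard]; exact ⟨2 * Nat.card C, by ring⟩)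
    rw [← Subgroup.orderOf_coe] at ht
    have ht2 : t * t = 1 := by rw [← sq, ← ht, pow_orderOf_eq_one]
    have hti : t⁻¹ = t := inv_eq_of_mul_eq_one_right ht2
    have hxC : x ∈ C := mem_centralizer_iff'.2 rfl
    have htC : t ∉ C := by
      intro htC
      have h1 : 2 ∣ Fintype.card F ^ 2 + 1 :=
        (ht ▸ Subgroup.orderOf_dvd_natCard C htC).trans (torus_card_dvd h hm hE)
      have := (prime_facts h hm Nat.prime_two h1).1
      omega
    have hfix : ∀ c ∈ C, t * c * t = c → c = 1 := by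
      intro c hc htc
      by_contra hc1
      refine htC ?_
      show t ∈ Subgroup.centralizer ({x} : Set (Cfsg.Sz F m))
      rw [← torus_eq h hm hE hc hc1, mem_centralizer_iff']
      calc c * t = t * c * t * t := by rw [htc]
        _ = t * c := by rw [mul_assoc, ht2, mul_one]
    have htx : t * x * t ∈ C := by
      have := (Subgroup.mem_normalizer_iff.1 htN x).1 hxC
      rwa [hti] at this
    refine ⟨t, ht2, eq_inv_of_mul_eq_one_right (hfix _ (mul_mem hxC htx) ?_)⟩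
    rw [comm_of_cyclic (torus_cyclic h hm hE) hxC htx,
      show t * (t * x * t * x) * t = t * t * x * (t * x * t) by group, ht2, one_mul,
      comm_of_cyclic (torus_cyclic h hm hE) hxC htx]

end Sz

end Cfsg.Agent.Lib.CharP
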