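import Cfsg.Prelude.Def_PLocal
import Mathlib.GroupTheory.Frattini
import Mathlib.GroupTheory.PGroup

/-!
# Small facts on the Frattini subgroup and `omegaOne` used by Lib.CharP

Owner: helper55.
-/

set_option autoImplicit false
set_option linter.style.haveILetI false

open Cfsg
open scoped commutatorElement

namespace Cfsg.Agent.Lib.CharP

variable {G : Type*} [Group G] {p : ℕ}

/-- The Frattini subgroup of a finite elementary abelian group is trivial. -/
theorem frattini_eq_bot_of_elementary [Finite G] [hp : Fact p.Prime]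
    (hcomm : ∀ a b : G, Commute a b) (hpow : ∀ a : G, a ^ p = 1) : frattini G = ⊥ := by
  rw [Subgroup.eq_bot_iff_forall]
  intro x hx
  by_contra hx1
  obtain ⟨K, hxK, hmax⟩ := Set.Finite.exists_maximal (s := {K : Subgroup G | x ∉ K})
    (Set.toFinite _) ⟨⊥, fun h => hx1 (Subgroup.mem_bot.1 h)⟩
  have hco : IsCoatom K := by
    refine ⟨fun h => hxK (h ▸ Subgroup.mem_top x), fun K' hlt => ?_⟩
    have hxK' : x ∈ K' := by
      by_contra h
      exact hlt.not_ge (hmax h hlt.le)
    rw [eq_top_iff]
    intro y _
    by_contra hy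
    have hxS : x ∈ K ⊔ Subgroup.zpowers y := by
      by_contra h
      have := hmax h le_sup_left
      exact hy (hlt.le (this (Subgroup.mem_sup_right (Subgroup.mem_zpowers y))))
    haveI : K.Normal := ⟨fun k hk g => by rwa [(hcomm g k).mul_inv_cancel]⟩
    obtain ⟨k, hk, w, ⟨j, rfl⟩, rfl⟩ := Subgroup.mem_sup_of_normal_left.1 hxS
    have hyj : y ^ j ∈ K' := by
      have := K'.mul_mem (inv_mem (hlt.le hk)) hxK'
      simpa using this
    rcases ((em ((p : ℤ) ∣ j)).symm.imp_left
      (Nat.prime_iff_prime_int.1 hp.out).coprime_iff_not_dvd.2) with hc | ⟨c, rfl⟩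
    · obtain ⟨u, v, huv⟩ := hc
      refine hy ?_
      have hy1 : y ^ (p : ℤ) = 1 := by rw [zpow_natCast]; exact hpow y
      have : y = (y ^ j) ^ v := by
        calc y = y ^ (u * (p : ℤ) + v * j) := by rw [huv, zpow_one]
          _ = (y ^ j) ^ v := by rw [zpow_add, mul_comm u, zpow_mul, hy1, one_zpow, one_mul,
                                    mul_comm v, zpow_mul]
      rw [this]
      exact zpow_mem hyj v
    · refine hxK ?_
      change k * y ^ ((p : ℤ) * c) ∈ K
      rw [zpow_mul, zpow_natCast, hpow, one_zpow, mul_one]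
      exact hk
  exact hxK (frattini_le_coatom hco hx)

/-- A normal subgroup containing all commutators and all `p`-th powers contains the Frattini subgroup. -/
theorem frattini_le_of_elementary_quotient [Finite G] [Fact p.Prime] {N : Subgroup G}
    (hcomm : ∀ a b : G, ⁅a, b⁆ ∈ N) (hpow : ∀ a : G, a ^ p ∈ N) : frattini G ≤ N := by
  haveI : N.Normal := ⟨fun n hn g => by
    have := N.mul_mem (hcomm g n) hn
    simpa [commutatorElement_def] using this⟩
  have hbot : frattini (G ⧸ N) = ⊥ := by
    refine frattini_eq_bot_of_elementary (p := p) (fun a b => ?_) fun a => ?_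
    · obtain ⟨a, rfl⟩ := QuotientGroup.mk'_surjective N a
      obtain ⟨b, rfl⟩ := QuotientGroup.mk'_surjective N b
      refine commutatorElement_eq_one_iff_commute.1 ?_
      rw [← map_commutatorElement]
      exact (QuotientGroup.eq_one_iff _).2 (hcomm a b)
    · obtain ⟨a, rfl⟩ := QuotientGroup.mk'_surjective N a
      rw [← map_pow]
      exact (QuotientGroup.eq_one_iff _).2 (hpow a)
  have := frattini_le_comap_frattini_of_surjective (QuotientGroup.mk'_surjective N)
  rwa [hbot, MonoidHom.comap_bot, QuotientGroup.ker_mk'] at this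

/-- The Frattini subgroup of `P`, in the ambient group, lies in `N` when `N` contains the commutators and
`p`-th powers of elements of `P`. -/
theorem map_frattini_le [Finite G] [Fact p.Prime] {P N : Subgroup G}
    (hcomm : ∀ a ∈ P, ∀ b ∈ P, ⁅a, b⁆ ∈ N) (hpow : ∀ a ∈ P, a ^ p ∈ N) :
    (frattini P).map P.subtype ≤ N := by
  rw [Subgroup.map_le_iff_le_comap]
  refine frattini_le_of_elementary_quotient (p := p) (fun a b => ?_) fun a => ?_
  · rw [Subgroup.mem_comap, map_commutatorElement]; exact hcomm a a.2 b b.2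
  · rw [Subgroup.mem_comap, map_pow]; exact hpow a a.2

theorem omegaOne_le' (H : Subgroup G) : omegaOne p H ≤ H :=
  (Subgroup.closure_le _).2 fun _ hx => hx.1

theorem mem_omegaOne {H : Subgroup G} {x : G} (hx : x ∈ H) (hp : x ^ p = 1) : x ∈ omegaOne p H :=
  Subgroup.subset_closure ⟨hx, hp⟩

/-- In `Ω₁` of a commutative subgroup every element has order dividing `p`. -/
theorem pow_eq_one_of_mem_omegaOne {H : Subgroup G} (hH : ∀ a ∈ H, ∀ b ∈ H, Commute a b) {x : G}
    (hx : x ∈ omegaOne p H) : x ^ p = 1 := by
  induction hx using Subgroup.closure_induction with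
  | mem y hy => exact hy.2
  | one => exact one_pow p
  | mul y z hy hz ihy ihz =>
    rw [(hH y (omegaOne_le' H hy) z (omegaOne_le' H hz)).mul_pow, ihy, ihz, one_mul]
  | inv y _ ih => rw [inv_pow, ih, inv_one]

end Cfsg.Agent.Lib.CharP
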