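import Cfsg.Prelude.Def_LocalStructure
import Cfsg.Agent.Lib.CharP.Basic
import Cfsg.Agent.Lib.CharP.Frattini

/-!
# `p`-reduced normal subgroups and `Y_L`

Owner: helper55.

`IsPRed p L V` is the ambient form of "`V` is a `p`-reduced normal subgroup of `L`":
`V ≤ L` is normalized by `L`, elementary abelian, and every normal subgroup of `L` whose elements of order prime to `p`
centralize `V` centralizes `V`.  `largestPReducedOf p L` is the largest such subgroup.
-/

set_option autoImplicit false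
set_option linter.style.haveILetI false

open Cfsg
open scoped Pointwise commutatorElement

namespace Cfsg.Agent.Lib.CharP

variable {G : Type*} [Group G] {p : ℕ}

theorem elemAb_iff {A : Subgroup G} :
    IsElementaryAbelian p A ↔ (∀ a ∈ A, ∀ b ∈ A, Commute a b) ∧ ∀ a ∈ A, a ^ p = 1 := by
  constructor
  · rintro ⟨h, hp⟩
    exact ⟨fun a ha b hb => congrArg Subtype.val (h.is_comm.comm ⟨a, ha⟩ ⟨b, hb⟩), hp⟩
  · rintro ⟨h, hp⟩
    exact ⟨⟨⟨fun a b => Subtype.ext (h a a.2 b b.2)⟩⟩, hp⟩

theorem elemAb_mono {A B : Subgroup G} (h : IsElementaryAbelian p B) (hAB : A ≤ B) :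
    IsElementaryAbelian p A :=
  elemAb_iff.2 ⟨fun a ha b hb => (elemAb_iff.1 h).1 a (hAB ha) b (hAB hb),
    fun a ha => (elemAb_iff.1 h).2 a (hAB ha)⟩

theorem elemAb_isPGroup {A : Subgroup G} (h : IsElementaryAbelian p A) : IsPGroup p A := by
  rw [isPGroup_iff_pow_pow_eq_one]
  exact fun a => ⟨1, Subtype.ext (by simpa using (elemAb_iff.1 h).2 a a.2)⟩

theorem elemAb_le_centralizer {A : Subgroup G} (h : IsElementaryAbelian p A) :
    A ≤ Subgroup.centralizer (A : Set G) := fun a ha =>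
  Subgroup.mem_centralizer_iff.2 fun b hb => ((elemAb_iff.1 h).1 b hb a ha).eq

theorem elemAb_omegaOne {A : Subgroup G} (h : ∀ a ∈ A, ∀ b ∈ A, Commute a b) :
    IsElementaryAbelian p (omegaOne p A) :=
  elemAb_iff.2 ⟨fun a ha b hb => h a (omegaOne_le' A ha) b (omegaOne_le' A hb),
    fun _ ha => pow_eq_one_of_mem_omegaOne h ha⟩

theorem elemAb_le_omegaOne {A B : Subgroup G} (h : IsElementaryAbelian p A) (hAB : A ≤ B) :
    A ≤ omegaOne p B := fun a ha => mem_omegaOne (hAB ha) ((elemAb_iff.1 h).2 a ha)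

/-- The centre of `P`, in the ambient group, is commutative. -/
theorem commute_of_mem_inf_centralizer {P : Subgroup G} :
    ∀ a ∈ P ⊓ Subgroup.centralizer (P : Set G), ∀ b ∈ P ⊓ Subgroup.centralizer (P : Set G),
      Commute a b := fun a ha _ hb =>
  Subgroup.mem_centralizer_iff.1 hb.2 a ha.1

theorem elemAb_omegaOne_center (P : Subgroup G) :
    IsElementaryAbelian p (omegaOne p (P ⊓ Subgroup.centralizer (P : Set G))) :=
  elemAb_omegaOne commute_of_mem_inf_centralizer

/-- Ambient form of `IsPReducedNormal`. -/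
def IsPRed (p : ℕ) (L V : Subgroup G) : Prop :=
  V ≤ L ∧ L ≤ Subgroup.normalizer (V : Set G) ∧ IsElementaryAbelian p V ∧
    ∀ K : Subgroup G, K ≤ L → L ≤ Subgroup.normalizer (K : Set G) →
      (∀ g ∈ K, (orderOf g).Coprime p → g ∈ Subgroup.centralizer (V : Set G)) →
      K ≤ Subgroup.centralizer (V : Set G)

theorem isPReducedNormal_iff [Finite G] [Fact p.Prime] {V : Subgroup G} :
    IsPReducedNormal p V ↔ V.Normal ∧ IsElementaryAbelian p V ∧
      ∀ K : Subgroup G, K.Normal →
        (∀ g ∈ K, (orderOf g).Coprime p → g ∈ Subgroup.centralizer (V : Set G)) →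
        K ≤ Subgroup.centralizer (V : Set G) := by
  constructor
  · rintro ⟨hVn, hV, hCn, hcore⟩
    refine ⟨hVn, hV, fun K hK h => ?_⟩
    haveI := hCn
    let f := QuotientGroup.mk' (Subgroup.centralizer (V : Set G))
    haveI : (K.map f).Normal := hK.map f (QuotientGroup.mk'_surjective _)
    have hp : IsPGroup p (K.map f) := by
      rw [isPGroup_iff_pow_pow_eq_one]
      rintro ⟨q, g, hg, rfl⟩
      obtain ⟨a, ha⟩ := exists_pow_coprime (p := p) g
      exact ⟨a, Subtype.ext (by
        simpa [f] using (QuotientGroup.eq_one_iff _).2 (h _ (K.pow_mem hg _) ha))⟩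
    intro g hg
    have hfg : f g ∈ (⊥ : Subgroup _) := hcore ▸ Cores.le_pCore hp ⟨g, hg, rfl⟩
    exact (QuotientGroup.eq_one_iff g).1 hfg
  · rintro ⟨hVn, hV, h⟩
    haveI hCn : (Subgroup.centralizer (V : Set G)).Normal := inferInstance
    refine ⟨hVn, hV, hCn, ?_⟩
    let f := QuotientGroup.mk' (Subgroup.centralizer (V : Set G))
    have hK := h ((pCore p _).comap f) inferInstance fun g hg hgo =>
      (QuotientGroup.eq_one_iff g).1 (eq_one_of_coprime_of_mem (Cores.pCore_isPGroup p) hg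
        (Nat.Coprime.coprime_dvd_left (orderOf_map_dvd f g) hgo))
    rw [Subgroup.eq_bot_iff_forall]
    intro q hq
    obtain ⟨g, rfl⟩ := QuotientGroup.mk'_surjective _ q
    exact (QuotientGroup.eq_one_iff g).2 (hK hq)

theorem map_centralizer_subgroupOf (L V : Subgroup G) (hV : V ≤ L) :
    Subgroup.centralizer ((V.subgroupOf L : Subgroup L) : Set L) =
      (Subgroup.centralizer (V : Set G)).subgroupOf L := by
  ext x
  simp only [Subgroup.mem_centralizer_iff, Subgroup.mem_subgroupOf, SetLike.mem_coe]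
  exact ⟨fun h v hv => congrArg Subtype.val (h ⟨v, hV hv⟩ hv), fun h v hv => Subtype.ext (h v hv)⟩

theorem elemAb_subgroupOf_iff {L V : Subgroup G} (hV : V ≤ L) :
    IsElementaryAbelian p (V.subgroupOf L) ↔ IsElementaryAbelian p V := by
  rw [elemAb_iff, elemAb_iff]
  refine and_congr ⟨fun h a ha b hb => congrArg Subtype.val (h ⟨a, hV ha⟩ ha ⟨b, hV hb⟩ hb).eq,
    fun h a ha b hb => Subtype.ext (h a ha b hb).eq⟩
    ⟨fun h a ha => by simpa using congrArg Subtype.val (h ⟨a, hV ha⟩ ha),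
      fun h a ha => Subtype.ext (by simpa using h a ha)⟩

theorem isPReducedNormal_subgroupOf_iff [Finite G] [Fact p.Prime] {L V : Subgroup G} (hV : V ≤ L) :
    IsPReducedNormal p (V.subgroupOf L) ↔ IsPRed p L V := by
  rw [isPReducedNormal_iff, Subgroup.normal_subgroupOf_iff_le_normalizer hV, elemAb_subgroupOf_iff hV,
    IsPRed, map_centralizer_subgroupOf L V hV]
  refine ⟨fun ⟨h1, h2, h3⟩ => ⟨hV, h1, h2, fun K hK hn h g hg => ?_⟩,
    fun ⟨_, h1, h2, h3⟩ => ⟨h1, h2, fun K hK h g hg => ?_⟩⟩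
  · exact h3 (K.subgroupOf L) ((Subgroup.normal_subgroupOf_iff_le_normalizer hK).2 hn)
      (fun x hx hxo => h x hx (by rwa [Subgroup.orderOf_coe]))
      (show (⟨g, hK hg⟩ : L) ∈ K.subgroupOf L from hg)
  · refine h3 (K.map L.subtype) (Subgroup.map_subtype_le _) ?_ ?_ ⟨g, hg, rfl⟩
    · refine (Subgroup.normal_subgroupOf_iff_le_normalizer (Subgroup.map_subtype_le _)).1 ?_
      rwa [show (K.map L.subtype).subgroupOf L = K from
        Subgroup.comap_map_eq_self_of_injective L.subtype_injective _]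
    · rintro _ ⟨x, hx, rfl⟩ hxo
      exact h x hx (by rwa [← Subgroup.orderOf_coe])

variable {L V W : Subgroup G}

theorem IsPRed.le (h : IsPRed p L V) : V ≤ L := h.1

theorem IsPRed.le_normalizer (h : IsPRed p L V) : L ≤ Subgroup.normalizer (V : Set G) := h.2.1

theorem IsPRed.elemAb (h : IsPRed p L V) : IsElementaryAbelian p V := h.2.2.1

theorem IsPRed.le_pCoreOf (h : IsPRed p L V) : V ≤ pCoreOf p L :=
  CharP.le_pCoreOf (elemAb_isPGroup h.elemAb) h.le h.le_normalizer

theorem IsPRed.pCoreOf_le_centralizer [Finite G] (h : IsPRed p L V) :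
    pCoreOf p L ≤ Subgroup.centralizer (V : Set G) :=
  h.2.2.2 _ (CharP.pCoreOf_le p L) (le_normalizer_pCoreOf p L) fun g hg hgo => by
    rw [eq_one_of_coprime_of_mem (isPGroup_pCoreOf p L) hg hgo]; exact one_mem _

theorem IsPRed.le_omegaOne_center [Finite G] (h : IsPRed p L V) :
    V ≤ omegaOne p (pCoreOf p L ⊓ Subgroup.centralizer (pCoreOf p L : Set G)) :=
  elemAb_le_omegaOne h.elemAb (le_inf h.le_pCoreOf
    (Subgroup.le_centralizer_iff.1 h.pCoreOf_le_centralizer))

theorem le_normalizer_inf_centralizer (hV : L ≤ Subgroup.normalizer (V : Set G)) :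
    L ≤ Subgroup.normalizer ((L ⊓ Subgroup.centralizer (V : Set G) : Subgroup G) : Set G) := by
  refine le_trans (le_inf Subgroup.le_normalizer ?_) Subgroup.inf_normalizer_le_normalizer_inf
  intro l hl
  rw [Subgroup.mem_normalizer_iff]
  intro c
  have key : ∀ (l' c' : G), l' ∈ L → c' ∈ Subgroup.centralizer (V : Set G) →
      l' * c' * l'⁻¹ ∈ Subgroup.centralizer (V : Set G) := by
    intro l' c' hl' hc
    rw [Subgroup.mem_centralizer_iff] at hc ⊢
    intro v hv
    have h1 : l'⁻¹ * v * l' ∈ V := by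
      have := (Subgroup.mem_normalizer_iff.1 (hV (inv_mem hl')) v).1 hv
      rwa [inv_inv] at this
    have := congrArg (fun t => l' * t * l'⁻¹) (hc _ h1)
    simpa [mul_assoc] using this
  refine ⟨key l c hl, fun h => ?_⟩
  have := key l⁻¹ _ (inv_mem hl) h
  simpa [mul_assoc] using this

/-- The join of two `p`-reduced normal subgroups is `p`-reduced. -/
theorem IsPRed.sup [Finite G] (hV : IsPRed p L V) (hW : IsPRed p L W) : IsPRed p L (V ⊔ W) := by
  have hVW : V ≤ Subgroup.centralizer (W : Set G) := hV.le_pCoreOf.trans hW.pCoreOf_le_centralizer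
  have hnor : L ≤ Subgroup.normalizer ((V ⊔ W : Subgroup G) : Set G) := fun l hl => by
    rw [Subgroup.mem_normalizer_iff_map_conj_eq, Subgroup.map_sup,
      Subgroup.mem_normalizer_iff_map_conj_eq.1 (hV.le_normalizer hl),
      Subgroup.mem_normalizer_iff_map_conj_eq.1 (hW.le_normalizer hl)]
  refine ⟨sup_le hV.le hW.le, hnor, ?_, fun K hK hn h => ?_⟩
  · have hcomm : ∀ a ∈ V, ∀ b ∈ W, Commute a b := fun a ha b hb =>
      (Subgroup.mem_centralizer_iff.1 (hVW ha) b hb).symm
    have hset : ∀ a ∈ V ⊔ W, ∃ v ∈ V, ∃ w ∈ W, a = v * w := by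
      intro a ha
      have : V ≤ Subgroup.normalizer (W : Set G) := hV.le.trans hW.le_normalizer
      rw [← SetLike.mem_coe, Subgroup.coe_mul_of_left_le_normalizer_right V W this] at ha
      obtain ⟨v, hv, w, hw, rfl⟩ := ha
      exact ⟨v, hv, w, hw, rfl⟩
    obtain ⟨hVc, hVp⟩ := elemAb_iff.1 hV.elemAb
    obtain ⟨hWc, hWp⟩ := elemAb_iff.1 hW.elemAb
    refine elemAb_iff.2 ⟨fun a ha b hb => ?_, fun a ha => ?_⟩
    · obtain ⟨v, hv, w, hw, rfl⟩ := hset a ha
      obtain ⟨v', hv', w', hw', rfl⟩ := hset b hb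
      exact Commute.mul_left ((hVc v hv v' hv').mul_right (hcomm v hv w' hw'))
        ((hcomm v' hv' w hw).symm.mul_right (hWc w hw w' hw'))
    · obtain ⟨v, hv, w, hw, rfl⟩ := hset a ha
      rw [(hcomm v hv w hw).mul_pow, hVp v hv, hWp w hw, one_mul]
  · have hKV := hV.2.2.2 K hK hn fun g hg hgo =>
      Subgroup.centralizer_le (le_sup_left : V ≤ V ⊔ W) (h g hg hgo)
    have hKW := hW.2.2.2 K hK hn fun g hg hgo =>
      Subgroup.centralizer_le (le_sup_right : W ≤ V ⊔ W) (h g hg hgo)
    exact Subgroup.le_centralizer_iff.1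
      (sup_le (Subgroup.le_centralizer_iff.1 hKV) (Subgroup.le_centralizer_iff.1 hKW))

theorem isPRed_bot (L : Subgroup G) : IsPRed p L ⊥ := by
  refine ⟨bot_le, fun l _ => ?_, ?_, fun K _ _ _ => ?_⟩
  · rw [Subgroup.mem_normalizer_iff_map_conj_eq, Subgroup.map_bot]
  · exact elemAb_iff.2 ⟨fun a ha b _ => Subgroup.mem_bot.1 ha ▸ Commute.one_left b,
      fun a ha => by rw [Subgroup.mem_bot.1 ha, one_pow]⟩
  · intro g _
    rw [Subgroup.mem_centralizer_iff]
    intro y hy
    rw [Subgroup.mem_bot.1 hy, one_mul, mul_one]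

/-- `Y_L` is `p`-reduced, and is the largest `p`-reduced normal subgroup. -/
theorem largestPReducedOf_spec [Finite G] [Fact p.Prime] (L : Subgroup G) :
    IsPRed p L (largestPReducedOf p L) ∧ ∀ V, IsPRed p L V → V ≤ largestPReducedOf p L := by
  obtain ⟨M, hM, hmax⟩ := Set.Finite.exists_maximal (s := {V : Subgroup G | IsPRed p L V})
    (Set.toFinite _) ⟨⊥, isPRed_bot L⟩
  have hle : ∀ V, IsPRed p L V → V ≤ M := fun V hV =>
    le_sup_right.trans (hmax (IsPRed.sup hM hV) le_sup_left)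
  have heq : largestPReducedOf p L = M := by
    refine le_antisymm ?_ ?_
    · rw [largestPReducedOf, Subgroup.map_le_iff_le_comap]
      refine sSup_le fun V hV => Subgroup.map_le_iff_le_comap.1 (hle _ ?_)
      have h1 : (V.map L.subtype).subgroupOf L = V :=
        Subgroup.comap_map_eq_self_of_injective L.subtype_injective _
      exact (isPReducedNormal_subgroupOf_iff (Subgroup.map_subtype_le V)).1 (by rw [h1]; exact hV)
    · rw [largestPReducedOf, ← Subgroup.map_subgroupOf_eq_of_le hM.1]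
      exact Subgroup.map_mono (le_sSup ((isPReducedNormal_subgroupOf_iff hM.1).2 hM))
  rw [heq]
  exact ⟨hM, hle⟩

theorem largestPReducedOf_isPRed [Finite G] [Fact p.Prime] (L : Subgroup G) :
    IsPRed p L (largestPReducedOf p L) :=
  (largestPReducedOf_spec L).1

theorem IsPRed.le_largest [Finite G] [Fact p.Prime] (h : IsPRed p L V) :
    V ≤ largestPReducedOf p L :=
  (largestPReducedOf_spec L).2 V h

theorem largestPReducedOf_le (p : ℕ) (L : Subgroup G) : largestPReducedOf p L ≤ L :=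
  Subgroup.map_subtype_le _

theorem map_subtype_top_eq (V : Subgroup (⊤ : Subgroup G)) :
    V.map (⊤ : Subgroup G).subtype = V.map Subgroup.topEquiv.toMonoidHom := rfl

theorem largestPReducedOf_top [Finite G] [Fact p.Prime] :
    largestPReducedOf p (⊤ : Subgroup G) = largestPReduced p G := by
  refine le_antisymm ?_ (sSup_le fun V hV => ?_)
  · refine le_sSup ?_
    obtain ⟨h0, h1, h2, h3⟩ := largestPReducedOf_isPRed (p := p) (⊤ : Subgroup G)
    refine isPReducedNormal_iff.2 ⟨Subgroup.normalizer_eq_top_iff.1 (top_le_iff.1 h1), h2, fun K hK h => ?_⟩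
    exact h3 K le_top (le_top.trans_eq (Subgroup.normalizer_eq_top_iff.2 hK).symm) h
  · obtain ⟨h1, h2, h3⟩ := isPReducedNormal_iff.1 hV
    refine IsPRed.le_largest ⟨le_top, ?_, h2, fun K _ hn h => ?_⟩
    · exact le_top.trans_eq (Subgroup.normalizer_eq_top_iff.2 h1).symm
    · exact h3 K (Subgroup.normalizer_eq_top_iff.1 (top_le_iff.1 hn)) h

/-- Characterisation of `Ω₁(Z(T))` membership. -/
theorem mem_omegaOne_center_iff {T : Subgroup G} {z : G} :
    z ∈ omegaOne p (T ⊓ Subgroup.centralizer (T : Set G)) ↔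
      z ∈ T ∧ (∀ t ∈ T, Commute t z) ∧ z ^ p = 1 := by
  constructor
  · intro hz
    have h := omegaOne_le' _ hz
    exact ⟨h.1, fun t ht => Subgroup.mem_centralizer_iff.1 h.2 t ht,
      pow_eq_one_of_mem_omegaOne commute_of_mem_inf_centralizer hz⟩
  · rintro ⟨h1, h2, h3⟩
    exact mem_omegaOne ⟨h1, Subgroup.mem_centralizer_iff.2 fun t ht => (h2 t ht).eq⟩ h3

theorem map_omegaOne_center (p : ℕ) (f : G ≃* G) (T : Subgroup G) :
    (omegaOne p (T ⊓ Subgroup.centralizer (T : Set G))).map f.toMonoidHom =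
      omegaOne p (T.map f.toMonoidHom ⊓ Subgroup.centralizer ((T.map f.toMonoidHom : Subgroup G) : Set G)) := by
  ext z
  constructor
  · rintro ⟨y, hy, rfl⟩
    obtain ⟨h1, h2, h3⟩ := mem_omegaOne_center_iff.1 hy
    refine mem_omegaOne_center_iff.2 ⟨⟨y, h1, rfl⟩, ?_, by rw [← map_pow, h3, map_one]⟩
    rintro _ ⟨t, ht, rfl⟩
    exact (h2 t ht).map _
  · intro hz
    obtain ⟨⟨y, hy, rfl⟩, h2, h3⟩ := mem_omegaOne_center_iff.1 hz
    refine ⟨y, mem_omegaOne_center_iff.2 ⟨hy, fun t ht => ?_, ?_⟩, rfl⟩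
    · exact f.injective (by simpa [Commute, SemiconjBy] using (h2 (f t) (Subgroup.mem_map_of_mem f.toMonoidHom ht)).eq)
    · exact f.injective (by simpa using h3)

/-- `Z_L` is normalized by `L`. -/
theorem le_normalizer_sylowCenterClosure (p : ℕ) (L : Subgroup G) :
    L ≤ Subgroup.normalizer (sylowCenterClosure p L : Set G) := by
  have key : ∀ l ∈ L, (sylowCenterClosure p L).map (MulAut.conj l).toMonoidHom ≤ sylowCenterClosure p L := by
    intro l hl
    rw [sylowCenterClosure, Subgroup.map_iSup, iSup_le_iff]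
    intro S
    rw [map_omegaOne_center]
    refine le_iSup_of_le ((⟨l, hl⟩ : L) • S) (le_of_eq ?_)
    have : ((S : Subgroup L).map L.subtype).map (MulAut.conj l).toMonoidHom =
        (((⟨l, hl⟩ : L) • S : Sylow p L) : Subgroup L).map L.subtype := by
      rw [Sylow.smul_def, Sylow.pointwise_smul_def, Subgroup.pointwise_smul_def]
      ext z
      simp only [Subgroup.mem_map]
      constructor
      · rintro ⟨_, ⟨s, hs, rfl⟩, rfl⟩
        exact ⟨_, ⟨s, hs, rfl⟩, rfl⟩
      · rintro ⟨_, ⟨s, hs, rfl⟩, rfl⟩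
        exact ⟨_, ⟨s, hs, rfl⟩, rfl⟩
    rw [this]
  intro l hl
  rw [Subgroup.mem_normalizer_iff_map_conj_eq]
  refine le_antisymm (key l hl) fun z hz => ⟨l⁻¹ * z * l, ?_, ?_⟩
  · have := key l⁻¹ (inv_mem hl) ⟨z, hz, rfl⟩
    simpa using this
  · simp [mul_assoc]

theorem sylowCenterClosure_le_omegaOne [Finite G] [Fact p.Prime]
    (hL : Subgroup.centralizer (pCore p L : Set L) ≤ pCore p L) :
    sylowCenterClosure p L ≤
      omegaOne p (pCoreOf p L ⊓ Subgroup.centralizer (pCoreOf p L : Set G)) := by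
  refine iSup_le fun S z hz => ?_
  obtain ⟨h1, h2, h3⟩ := mem_omegaOne_center_iff.1 hz
  have hO : pCoreOf p L ≤ (S : Subgroup L).map L.subtype :=
    Subgroup.map_mono (Cores.pCore_le_sylow S)
  refine mem_omegaOne_center_iff.2 ⟨charP_iff.1 hL ⟨Subgroup.map_subtype_le _ h1,
    Subgroup.mem_centralizer_iff.2 fun u hu => (h2 u (hO hu)).eq⟩, fun u hu => h2 u (hO hu), h3⟩

/-- In characteristic `p`, `Z_L` is `p`-reduced. -/
theorem sylowCenterClosure_isPRed [Finite G] [Fact p.Prime]
    (hL : Subgroup.centralizer (pCore p L : Set L) ≤ pCore p L) :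
    IsPRed p L (sylowCenterClosure p L) := by
  refine ⟨?_, le_normalizer_sylowCenterClosure p L,
    elemAb_mono (elemAb_omegaOne_center _) (sylowCenterClosure_le_omegaOne hL), fun K hK hn h => ?_⟩
  · exact iSup_le fun S => (omegaOne_le' _).trans (inf_le_left.trans (Subgroup.map_subtype_le _))
  · refine Subgroup.le_centralizer_iff.1 (iSup_le fun S => Subgroup.le_centralizer_iff.1 ?_)
    haveI := (Subgroup.normal_subgroupOf_iff_le_normalizer hK).2 hn
    -- the elements of order prime to `p` of `K`, and a Sylow subgroup of `K`, centralize `Ω₁(Z(S))`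
    let W : Subgroup L := (Subgroup.centralizer
      ((omegaOne p ((S : Subgroup L).map L.subtype ⊓
        Subgroup.centralizer (((S : Subgroup L).map L.subtype : Subgroup G) : Set G)) : Subgroup G) : Set G)).subgroupOf L
    have hS : (S : Subgroup L) ≤ W := fun s hs => by
      rw [Subgroup.mem_subgroupOf, Subgroup.mem_centralizer_iff]
      exact fun z hz => ((mem_omegaOne_center_iff.1 hz).2.1 _ ⟨s, hs, rfl⟩).eq.symm
    suffices K.subgroupOf L ≤ W by
      intro k hk
      exact this (show (⟨k, hK hk⟩ : L) ∈ K.subgroupOf L from hk)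
    have hres : ∀ g : L, g ∈ K.subgroupOf L → (orderOf g).Coprime p → g ∈ W := fun g hg hgo => by
      have h1 := h g hg (by rwa [Subgroup.orderOf_coe])
      exact Subgroup.centralizer_le (le_iSup_of_le S le_rfl : _ ≤ sylowCenterClosure p L) h1
    intro k hk
    obtain ⟨P⟩ : Nonempty (Sylow p (K.subgroupOf L)) := inferInstance
    obtain ⟨Q, hQ⟩ : ∃ Q : Sylow p L, (P : Subgroup _).map (K.subgroupOf L).subtype ≤ (Q : Subgroup L) :=
      (P.isPGroup'.map _).exists_le_sylow
    obtain ⟨g, hg⟩ := MulAction.exists_smul_eq L Q S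
    -- a Sylow subgroup of `K` inside `S`
    let P' : Sylow p (K.subgroupOf L) := (MulAut.conjNormal (H := K.subgroupOf L) g) • P
    have hP' : (P' : Subgroup _).map (K.subgroupOf L).subtype ≤ W := by
      refine le_trans ?_ hS
      rintro _ ⟨x, hx, rfl⟩
      rw [Sylow.pointwise_smul_def, Subgroup.pointwise_smul_def] at hx
      obtain ⟨y, hy, rfl⟩ := hx
      rw [← hg, Sylow.smul_def, Sylow.pointwise_smul_def, Subgroup.pointwise_smul_def]
      exact ⟨y, hQ ⟨y, hy, rfl⟩, by simp⟩
    have htop := sylow_sup_pResidual P'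
    have hle : (⊤ : Subgroup (K.subgroupOf L)) ≤ W.subgroupOf (K.subgroupOf L) := by
      rw [← htop]
      refine sup_le (fun x hx => hP' ⟨x, hx, rfl⟩) ((Subgroup.closure_le _).2 fun x hx => ?_)
      exact hres x x.2 (by rwa [Subgroup.orderOf_coe])
    exact hle (Subgroup.mem_top (⟨k, hk⟩ : K.subgroupOf L))

theorem sylowCenterClosure_le_largestPReducedOf [Finite G] [Fact p.Prime]
    (hL : Subgroup.centralizer (pCore p L : Set L) ≤ pCore p L) :
    sylowCenterClosure p L ≤ largestPReducedOf p L :=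
  (sylowCenterClosure_isPRed hL).le_largest

/-- For a Sylow subgroup `T` of the whole group contained in `L`: `Ω₁(Z(T)) ≤ Z_L`. -/
theorem omegaOne_center_le_sylowCenterClosure {T : Sylow p G} (hT : (T : Subgroup G) ≤ L) :
    omegaOne p ((T : Subgroup G) ⊓ Subgroup.centralizer ((T : Subgroup G) : Set G)) ≤
      sylowCenterClosure p L := by
  refine le_iSup_of_le (T.subtype hT) (le_of_eq ?_)
  rw [Sylow.coe_subtype, Subgroup.map_subgroupOf_eq_of_le hT]

end Cfsg.Agent.Lib.CharP
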