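import Cfsg.Agent.Lib.CharP.Irreducible
import Cfsg.Agent.Lib.CharP.PReduced
import Cfsg.Agent.Lib.CharP.MinimalOver
import Cfsg.Agent.Lib.Linear.Unipotent
import Cfsg.Agent.Lib.LieTwisted.SuzukiStructure
import Cfsg.Agent.Lib.SzElements.Basic

/-!
# Normal elementary abelian subgroups of Borel subgroups in `SL₂(q)`, `Sz(q)` and dihedral groups

Owner: helper55.
-/

set_option autoImplicit false
set_option linter.style.haveILetI false

open Cfsg
open scoped Pointwise

namespace Cfsg.Agent.Lib.CharP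

/-- The property we need: an elementary abelian `Y` of order `q` equals any nontrivial elementary abelian `V` invariant
under `N(Y)` generating a `p`-group with it. -/
def BorelUnique (p q : ℕ) (X : Type*) [Group X] : Prop :=
  ∀ Y V : Subgroup X, IsElementaryAbelian p Y → Nat.card Y = q → IsElementaryAbelian p V → V ≠ ⊥ →
    IsPGroup p ↥(Y ⊔ V) → Subgroup.normalizer (Y : Set X) ≤ Subgroup.normalizer (V : Set X) → V = Y

variable {p : ℕ} [hp : Fact p.Prime]

omit hp in
theorem elemAb_map {A B : Type*} [Group A] [Group B] (f : A →* B) {Y : Subgroup A}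
    (h : IsElementaryAbelian p Y) : IsElementaryAbelian p (Y.map f) := by
  rw [elemAb_iff] at h ⊢
  refine ⟨?_, ?_⟩
  · rintro _ ⟨a, ha, rfl⟩ _ ⟨b, hb, rfl⟩
    exact (h.1 a ha b hb).map f
  · rintro _ ⟨a, ha, rfl⟩
    rw [← map_pow, h.2 a ha, map_one]

omit hp in
theorem borelUnique_of_equiv {q : ℕ} {X X' : Type*} [Group X] [Group X'] (f : X ≃* X')
    (h : BorelUnique p q X') : BorelUnique p q X := by
  intro Y V hY hq hV hV1 hp' hn
  refine Subgroup.map_injective (f := f.toMonoidHom) f.injective (h _ _ (elemAb_map _ hY) ?_ (elemAb_map _ hV) ?_ ?_ ?_)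
  · rw [Subgroup.card_map_of_injective f.injective, hq]
  · exact fun e => hV1 (Subgroup.map_injective (f := f.toMonoidHom) f.injective (e.trans (Subgroup.map_bot _).symm))
  · rw [← Subgroup.map_sup]; exact hp'.map _
  · rw [← Subgroup.map_equiv_normalizer_eq, ← Subgroup.map_equiv_normalizer_eq]
    exact Subgroup.map_mono hn

/-- When all `2`-subgroups have order at most `2`. -/
theorem borelUnique_of_card {q : ℕ} {X : Type*} [Group X] [Finite X] (hq : q ≠ 1)
    (h : ∀ P : Subgroup X, IsPGroup p P → Nat.card P ≤ 2) : BorelUnique p q X := by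
  intro Y V _ hYq _ hV1 hp' _
  have h2 : ∀ Z : Subgroup X, Z ≠ ⊥ → Z ≤ Y ⊔ V → Z = Y ⊔ V := fun Z hZ hle =>
    Subgroup.eq_of_le_of_card_ge hle ((h _ hp').trans ((Subgroup.one_lt_card_iff_ne_bot _).2 hZ))
  rw [h2 V hV1 le_sup_right, ← h2 Y (fun e => hq (by rw [← hYq, e, Subgroup.card_bot])) le_sup_left]

/-- A group generated by two involutions with trivial `O_2` has `2`-subgroups of order at most `2`. -/
theorem card_le_two_of_dihedral {X : Type*} [Group X] [Finite X] {a b : X} (ha : a * a = 1) (hb : b * b = 1)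
    (hgen : Subgroup.closure {a, b} = (⊤ : Subgroup X)) (hO : pCore 2 X = ⊥) {P : Subgroup X}
    (hP : IsPGroup 2 P) : Nat.card P ≤ 2 := by
  haveI : Fact (Nat.Prime 2) := ⟨Nat.prime_two⟩
  set c := a * b with hc
  set C := Subgroup.zpowers c with hC
  have ha' : a⁻¹ = a := inv_eq_of_mul_eq_one_right ha
  have hb' : b⁻¹ = b := inv_eq_of_mul_eq_one_right hb
  have hac : a * c * a⁻¹ = c⁻¹ := by
    rw [hc, mul_inv_rev, hb', ← mul_assoc, ha, one_mul]
  have hbc : b * c * b⁻¹ = c⁻¹ := by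
    rw [hc, mul_inv_rev, hb', ha', mul_assoc, mul_assoc, hb, mul_one]
  have hinvn : ∀ g : X, g * c * g⁻¹ = c⁻¹ → g ∈ Subgroup.normalizer (C : Set X) := fun g hg => by
    rw [Subgroup.mem_normalizer_iff_map_conj_eq, hC]
    show Subgroup.map (MulAut.conj g).toMonoidHom _ = _
    rw [MonoidHom.map_zpowers]
    show Subgroup.zpowers (g * c * g⁻¹) = _
    rw [hg, Subgroup.zpowers_inv]
  haveI hCn : C.Normal := by
    rw [← Subgroup.normalizer_eq_top_iff, eq_top_iff, ← hgen, Subgroup.closure_le]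
    rintro g (rfl | rfl)
    exacts [hinvn _ hac, hinvn _ hbc]
  have hbot : P ⊓ C = ⊥ := by
    rw [Subgroup.eq_bot_iff_forall]
    rintro z ⟨hzP, hzC⟩
    by_contra hz
    obtain ⟨k, hk⟩ := exists_pow_eq_one_of_mem hP hzP
    obtain ⟨j, hj1, hj2⟩ : ∃ j, z ^ 2 ^ j ≠ 1 ∧ z ^ 2 ^ (j + 1) = 1 := by
      classical
      have hex : ∃ k, z ^ 2 ^ k = 1 := ⟨k, hk⟩
      have h0 : Nat.find hex ≠ 0 := fun h => hz (by simpa [h] using Nat.find_spec hex)
      obtain ⟨j, hj⟩ : ∃ j, Nat.find hex = j + 1 := ⟨Nat.find hex - 1, by omega⟩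
      exact ⟨j, Nat.find_min hex (by omega), hj ▸ Nat.find_spec hex⟩
    set d := z ^ 2 ^ j with hd
    have hd2 : d * d = 1 := by rw [hd, ← pow_add, ← two_mul, ← pow_succ']; exact hj2
    obtain ⟨i, hi⟩ := Subgroup.mem_zpowers_iff.1 (C.pow_mem hzC (2 ^ j))
    have hcomm : ∀ g : X, g * c * g⁻¹ = c⁻¹ → g * d * g⁻¹ = d := fun g hg => by
      rw [← hd] at hi
      rw [← hi, ← conj_zpow, hg, inv_zpow, hi]
      exact inv_eq_of_mul_eq_one_right hd2
    haveI : (Subgroup.zpowers d).Normal := by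
      rw [← Subgroup.normalizer_eq_top_iff, eq_top_iff, ← hgen, Subgroup.closure_le]
      rintro g (rfl | rfl) <;>
      · rw [SetLike.mem_coe, Subgroup.mem_normalizer_iff_map_conj_eq]
        show Subgroup.map (MulAut.conj g).toMonoidHom _ = _
        rw [MonoidHom.map_zpowers]
        show Subgroup.zpowers (g * d * g⁻¹) = _
        first | rw [hcomm _ hac] | rw [hcomm _ hbc]
    have hle : Subgroup.zpowers d ≤ pCore 2 X :=
      Cores.le_pCore (pow_mem_zpowers_isPGroup (k := 1) (by rw [pow_one, pow_two]; exact hd2))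
    rw [hO] at hle
    exact hj1 (Subgroup.mem_bot.1 (hle (Subgroup.mem_zpowers d)))
  set f := QuotientGroup.mk' C with hf
  have htop : Subgroup.zpowers (f a) = ⊤ := by
    rw [eq_top_iff, ← Subgroup.map_top_of_surjective f (QuotientGroup.mk'_surjective C), ← hgen,
      MonoidHom.map_closure, Subgroup.closure_le]
    rintro _ ⟨g, rfl | rfl, rfl⟩
    · exact Subgroup.mem_zpowers _
    · have : f g = f a := (QuotientGroup.eq.2 (by rw [ha']; exact Subgroup.mem_zpowers c)).symm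
      rw [this]; exact Subgroup.mem_zpowers _
  have h1 : Nat.card P = Nat.card (P.map f) := by
    refine Nat.card_congr (Equiv.ofBijective (fun x : P => (⟨f x, x, x.2, rfl⟩ : P.map f)) ⟨fun x y h => ?_, ?_⟩)
    · have h' : (x : X)⁻¹ * y ∈ C := QuotientGroup.eq.1 (congrArg Subtype.val h)
      exact Subtype.ext (inv_mul_eq_one.1 ((Subgroup.eq_bot_iff_forall _).1 hbot _
        ⟨P.mul_mem (P.inv_mem x.2) y.2, h'⟩))
    · rintro ⟨_, x, hx, rfl⟩; exact ⟨⟨x, hx⟩, rfl⟩
  rw [h1]
  calc Nat.card (P.map f) ≤ Nat.card (⊤ : Subgroup (X ⧸ C)) := Subgroup.card_le_of_le le_top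
    _ = orderOf (f a) := by rw [← htop, Nat.card_zpowers]
    _ ≤ 2 := orderOf_le_of_pow_eq_one (by norm_num) (by rw [← map_pow, pow_two, ha, map_one])

/-- The dihedral group of order `2 r`, `r` odd. -/
theorem card_le_two_dihedral {r : ℕ} [NeZero r] (hr : ¬ 2 ∣ r) {P : Subgroup (DihedralGroup r)}
    (hP : IsPGroup 2 P) : Nat.card P ≤ 2 := by
  haveI : Fact (Nat.Prime 2) := ⟨Nat.prime_two⟩
  obtain ⟨n, hn⟩ := IsPGroup.iff_card.1 hP
  have h := Subgroup.card_subgroup_dvd_card P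
  rw [hn, DihedralGroup.nat_card] at h
  rw [hn]
  by_contra hlt
  have h2 : 2 ≤ n := by
    by_contra h'
    exact hlt ((Nat.pow_le_pow_right (by norm_num) (by omega : n ≤ 1)).trans (by norm_num))
  have : 2 ^ 2 ∣ 2 * r := (pow_dvd_pow 2 h2).trans h
  exact hr (by obtain ⟨k, hk⟩ := this; exact ⟨k, by omega⟩)

section SL2

variable {F : Type*} [Field F] [Fintype F] [CharP F p]

/-- Every element of a finite field is a combination of squares, so an additive subgroup closed under squares is a subspace. -/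
theorem mem_of_square_closed {S : AddSubgroup F} (hS : ∀ a : F, a ≠ 0 → ∀ s ∈ S, a ^ 2 * s ∈ S)
    {s₀ : F} (h₀ : s₀ ∈ S) (hne : s₀ ≠ 0) (x : F) : x ∈ S := by
  have hsq : ∀ a : F, ∀ s ∈ S, a ^ 2 * s ∈ S := fun a s hs => by
    rcases eq_or_ne a 0 with rfl | h
    · simp
    · exact hS a h s hs
  have hall : ∀ c : F, ∀ s ∈ S, c * s ∈ S := by
    intro c s hs
    rcases eq_or_ne (ringChar F) 2 with h2 | h2
    · obtain ⟨a, ha⟩ := FiniteField.isSquare_of_char_two h2 c
      rw [ha, ← pow_two]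
      exact hsq a s hs
    · have h2' : (2 : F) ≠ 0 := Ring.two_ne_zero h2
      have h : ((c / 2 + 1) ^ 2 * s - (c / 2) ^ 2 * s) - 1 ^ 2 * s = c * s := by
        field_simp
        ring
      rw [← h]
      exact S.sub_mem (S.sub_mem (hsq _ s hs) (hsq _ s hs)) (hsq _ s hs)
  have := hall (x / s₀) s₀ h₀
  rwa [div_mul_cancel₀ x hne] at this

theorem borelUnique_SL2 : BorelUnique p (Fintype.card F) (Matrix.SpecialLinearGroup (Fin 2) F) := by
  intro Y V hY hq _ hV1 hp' hn
  obtain ⟨P, hP⟩ := hp'.exists_le_sylow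
  obtain ⟨g, hg⟩ := Linear.exists_sylow_eq_conj_SL (F := F) p P
  set U := (Linear.uSL (F := F)).range
  have hcard : Nat.card P = Fintype.card F := by
    rw [show Nat.card P = Nat.card (P : Subgroup (Matrix.SpecialLinearGroup (Fin 2) F)) from rfl, hg,
      ← Nat.card_congr (Subgroup.equivSMul (MulAut.conj g) U).toEquiv, Linear.card_range_uSL,
      Nat.card_eq_fintype_card]
  have hYP : Y = (P : Subgroup _) :=
    Subgroup.eq_of_le_of_card_ge (le_sup_left.trans hP) (by rw [hq]; exact hcard.le)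
  refine le_antisymm ((le_sup_right.trans hP).trans hYP.ge) ?_
  rw [hYP, hg] at hn ⊢
  -- pull back to the upper unitriangular group
  set V' : Subgroup (Matrix.SpecialLinearGroup (Fin 2) F) := (MulAut.conj g)⁻¹ • V with hV'
  have hV'U : V' ≤ U := by
    rw [hV', Subgroup.pointwise_smul_subset_iff, inv_inv]
    exact (le_sup_right.trans hP).trans_eq hg
  let S : AddSubgroup F :=
    { carrier := {s | Linear.uSL (Multiplicative.ofAdd s) ∈ V'}
      zero_mem' := by simp [one_mem]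
      add_mem' := fun {a b} ha hb => by
        show Linear.uSL (Multiplicative.ofAdd (a + b)) ∈ V'
        rw [ofAdd_add, map_mul]; exact mul_mem ha hb
      neg_mem' := fun {a} ha => by
        show Linear.uSL (Multiplicative.ofAdd (-a)) ∈ V'
        rw [ofAdd_neg, map_inv]; exact inv_mem ha }
  have hS : ∀ a : F, a ≠ 0 → ∀ s ∈ S, a ^ 2 * s ∈ S := by
    intro a ha s hs
    let t : Matrix.SpecialLinearGroup (Fin 2) F :=
      ⟨!![a, 0; 0, a⁻¹], by simp [Matrix.det_fin_two_of, ha]⟩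
    have ht : ∀ x : F, t * Linear.uSL (Multiplicative.ofAdd x) =
        Linear.uSL (Multiplicative.ofAdd (a ^ 2 * x)) * t := fun x => by
      apply Subtype.ext
      rw [Matrix.SpecialLinearGroup.coe_mul, Matrix.SpecialLinearGroup.coe_mul, Linear.coe_uSL, Linear.coe_uSL]
      ext i j
      fin_cases i <;> fin_cases j <;> simp [t, Matrix.mul_apply, Fin.sum_univ_two, pow_two] <;> field_simp
    have htn : t ∈ Subgroup.normalizer (U : Set (Matrix.SpecialLinearGroup (Fin 2) F)) := by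
      refine Subgroup.mem_normalizer_iff.2 fun u => ⟨?_, fun h => ?_⟩
      · rintro ⟨x, rfl⟩
        rw [← ofAdd_toAdd x, ht, mul_inv_cancel_right]
        exact ⟨_, rfl⟩
      · obtain ⟨y, hy⟩ := h
        refine ⟨Multiplicative.ofAdd (y.toAdd / a ^ 2), ?_⟩
        apply mul_left_cancel (a := t)
        rw [ht, mul_div_cancel₀ _ (pow_ne_zero 2 ha), ofAdd_toAdd, hy, inv_mul_cancel_right]
    have htU : MulAut.conj g t ∈ Subgroup.normalizer (V : Set (Matrix.SpecialLinearGroup (Fin 2) F)) := by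
      refine hn ?_
      rw [show (MulAut.conj g • U : Subgroup _) = U.map (MulAut.conj g).toMonoidHom from rfl,
        ← Subgroup.map_equiv_normalizer_eq]
      exact ⟨t, htn, rfl⟩
    show Linear.uSL (Multiplicative.ofAdd (a ^ 2 * s)) ∈ V'
    rw [show Linear.uSL (Multiplicative.ofAdd (a ^ 2 * s)) =
      t * Linear.uSL (Multiplicative.ofAdd s) * t⁻¹ by rw [ht, mul_inv_cancel_right]]
    have hs' : Linear.uSL (Multiplicative.ofAdd s) ∈ V' := hs
    rw [hV', Subgroup.mem_pointwise_smul_iff_inv_smul_mem, inv_inv, MulAut.smul_def] at hs' ⊢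
    rw [map_mul, map_mul, map_inv]
    exact (Subgroup.mem_normalizer_iff.1 htU _).1 hs'
  obtain ⟨v, hv, hv1⟩ : ∃ v ∈ V', v ≠ 1 := by
    by_contra h
    push Not at h
    refine hV1 ?_
    have hb : V' = ⊥ := (Subgroup.eq_bot_iff_forall _).2 h
    rw [hV', inv_smul_eq_iff] at hb
    rw [hb, Subgroup.smul_bot]
  obtain ⟨x, rfl⟩ := hV'U hv
  rw [← Subgroup.pointwise_smul_le_pointwise_smul_iff (a := (MulAut.conj g)⁻¹), inv_smul_smul, ← hV']
  rintro _ ⟨y, rfl⟩
  have hx0 : x.toAdd ≠ 0 := fun h => hv1 (by rw [← ofAdd_toAdd x, h, ofAdd_zero, map_one])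
  have hy := mem_of_square_closed (S := S) hS (s₀ := x.toAdd) (by
    show Linear.uSL (Multiplicative.ofAdd x.toAdd) ∈ V'
    rwa [ofAdd_toAdd]) hx0 y.toAdd
  change Linear.uSL (Multiplicative.ofAdd y.toAdd) ∈ V' at hy
  rwa [ofAdd_toAdd] at hy

end SL2

section Sz

open LieTwisted.Suzuki

variable {F : Type*} [Field F] [Fintype F] {m : ℕ}

theorem borelUnique_Sz (h : IsSzField F m) (hm : 1 ≤ m) :
    BorelUnique 2 (Fintype.card F) (Cfsg.Sz F m) := by
  haveI : Fact (Nat.Prime 2) := ⟨Nat.prime_two⟩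
  intro Y V hY hq hV hV1 hp' hn
  obtain ⟨S, hS⟩ := h.exists_sylow hm
  obtain ⟨P, hP⟩ := hp'.exists_le_sylow
  obtain ⟨g, hg⟩ := MulAction.exists_smul_eq (Cfsg.Sz F m) S P
  set c := (MulAut.conj g).toMonoidHom with hc
  have hPc : (P : Subgroup (Cfsg.Sz F m)) = (unip h).map c := by
    rw [← hg, ← hS]; rfl
  -- elementary abelian subgroups of `P` lie in the centre
  have hcen : ∀ A : Subgroup (Cfsg.Sz F m), IsElementaryAbelian 2 A → A ≤ Y ⊔ V → A ≤ (unipCenter h).map c := by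
    intro A hA hAle a ha
    obtain ⟨u, ⟨a₁, b₁, rfl⟩, rfl⟩ := hPc.le (hP (hAle ha))
    have h2 : uS h a₁ b₁ ^ 2 = 1 := (MulAut.conj g).injective (by
      rw [map_pow, map_one]; exact (elemAb_iff.1 hA).2 _ ha)
    refine ⟨uS h a₁ b₁, ⟨b₁, ?_⟩, rfl⟩
    rw [SzElements.Basic.eq_zero_of_sq h h2]
  have hcardC : Nat.card ((unipCenter h).map c) = Fintype.card F := by
    rw [Subgroup.card_map_of_injective (MulAut.conj g).injective, ← h.card_center_unip hm,
      h.center_unip hm]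
    refine (Nat.card_congr (Subgroup.subgroupOfEquivOfLe ?_).toEquiv).symm
    rintro _ ⟨b, rfl⟩
    exact h.uS_mem _ _
  have hYC : Y = (unipCenter h).map c :=
    Subgroup.eq_of_le_of_card_ge (hcen Y hY le_sup_left) (by rw [hq, hcardC])
  refine le_antisymm ((hcen V hV le_sup_right).trans hYC.ge) ?_
  obtain ⟨v, hv, hv1⟩ : ∃ v ∈ V, v ≠ 1 := by
    by_contra h'
    push Not at h'
    exact hV1 ((Subgroup.eq_bot_iff_forall _).2 h')
  obtain ⟨_, ⟨b, rfl⟩, rfl⟩ := hcen V hV le_sup_right hv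
  have hb : b ≠ 0 := fun e => hv1 (by rw [e, h.uS_zero, map_one])
  rw [hYC]
  rintro _ ⟨_, ⟨b', rfl⟩, rfl⟩
  rcases eq_or_ne b' 0 with rfl | hb'
  · rw [h.uS_zero, map_one]; exact one_mem _
  obtain ⟨e, he⟩ := SzElements.Basic.scalar_surjective h (div_ne_zero hb' hb)
  have hd : dS h e ∈ Subgroup.normalizer (unipCenter h : Set (Cfsg.Sz F m)) := by
    have key : ∀ (f : Fˣ), ∀ x ∈ unipCenter h, dS h f * x * (dS h f)⁻¹ ∈ unipCenter h := by
      rintro f _ ⟨b₂, rfl⟩
      have := SzElements.Basic.conj_center h 0 0 f b₂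
      rw [h.uS_zero, one_mul] at this
      exact ⟨_, this⟩
    refine Subgroup.mem_normalizer_iff.2 fun x => ⟨key e x, fun hx => ?_⟩
    have := key e⁻¹ _ hx
    rwa [map_inv, inv_inv, show (dS h e)⁻¹ * (dS h e * x * (dS h e)⁻¹) * dS h e = x by group] at this
  have hdV : c (dS h e) ∈ Subgroup.normalizer (V : Set (Cfsg.Sz F m)) := by
    refine hn ?_
    rw [hYC, hc, ← Subgroup.map_equiv_normalizer_eq]
    exact ⟨_, hd, rfl⟩
  have h1 := (Subgroup.mem_normalizer_iff.1 hdV _).1 hv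
  have h2 := SzElements.Basic.conj_center h 0 0 e b
  rw [h.uS_zero, one_mul, he, div_mul_cancel₀ _ hb] at h2
  rwa [← map_inv, ← map_mul, ← map_mul, h2] at h1

end Sz

end Cfsg.Agent.Lib.CharP
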