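import Cfsg.Agent.Lib.CharP.LargeWC
import Cfsg.Agent.S2821
import Cfsg.Agent.S2824

/-!
# Existence of subgroups with the basic property in groups of parabolic characteristic `p`

Owner: helper55.
-/

set_option autoImplicit false
set_option linter.style.haveILetI false

open Cfsg
open scoped commutatorElement

namespace Cfsg.Agent.Lib.CharP

variable {G : Type*} [Group G] [Finite G] {p : ℕ} [hp : Fact p.Prime]

omit [Finite G] hp in
theorem pCoreOf_ne_bot_iff {L : Subgroup G} : pCoreOf p L ≠ ⊥ ↔ pCore p ↥L ≠ ⊥ := by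
  rw [pCoreOf, Ne, Ne, Subgroup.map_eq_bot_iff_of_injective _ L.subtype_injective]

omit hp in
theorem mem_charPSubgroups_iff {L : Subgroup G} :
    L ∈ charPSubgroups p G ↔ pCoreOf p L ≠ ⊥ ∧ Subgroup.centralizer (pCoreOf p L : Set G) ≤ pCoreOf p L := by
  rw [pCoreOf_ne_bot_iff]
  rfl

omit hp in
theorem charP_of_mem_charPSubgroups {L : Subgroup G} (hL : L ∈ charPSubgroups p G) :
    Subgroup.centralizer (pCore p ↥L : Set ↥L) ≤ pCore p ↥L :=
  charP_iff.2 (inf_le_right.trans (mem_charPSubgroups_iff.1 hL).2)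

/-- In parabolic characteristic `p`, the members of `𝓛` above `T` are the subgroups above `T` with `O_p ≠ 1`. -/
theorem mem_charPSubgroups_of_parabolic (hH : IsOfParabolicCharacteristic p G) (T : Sylow p G)
    {X : Subgroup G} (hTX : (T : Subgroup G) ≤ X) (hX : pCoreOf p X ≠ ⊥) : X ∈ charPSubgroups p G := by
  set P := pCoreOf p X
  have hPp : IsPGroup p P := isPGroup_pCoreOf p X
  set N := Subgroup.normalizer (P : Set G) with hN
  have hXN : X ≤ N := le_normalizer_pCoreOf p X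
  have hc := charP_iff.1 (hH P hPp hX ⟨T, hTX.trans hXN⟩)
  have hPN : pCoreOf p N ≤ P :=
    le_pCoreOf (isPGroup_pCoreOf p N) ((pCoreOf_le_sylow (hTX.trans hXN)).trans hTX)
      (hXN.trans (le_normalizer_pCoreOf p N))
  refine mem_charPSubgroups_iff.2 ⟨hX, ?_⟩
  exact le_trans (le_trans (le_inf (Subgroup.centralizer_le_normalizer _)
    (Subgroup.centralizer_le (SetLike.coe_subset_coe.2 hPN))) hc) hPN

/-- `Y_L ≠ 1` for `L` of characteristic `p` above a nontrivial Sylow subgroup. -/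
theorem largestPReducedOf_ne_bot (T : Sylow p G) {L : Subgroup G} (hTL : (T : Subgroup G) ≤ L)
    (hL : L ∈ charPSubgroups p G) : largestPReducedOf p L ≠ ⊥ := by
  have hT : (T : Subgroup G) ≠ ⊥ := fun h =>
    (mem_charPSubgroups_iff.1 hL).1 (le_bot_iff.1 (h ▸ pCoreOf_le_sylow hTL))
  obtain ⟨-, -, -, h1, h2, -⟩ := S2821.result T L hTL (charP_of_mem_charPSubgroups hL) _ rfl
  intro hY
  obtain ⟨z, hz, hz1⟩ := exists_ne_one_of_ne_bot'
    (fixed_ne_bot T.isPGroup' T.isPGroup' Subgroup.le_normalizer hT)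
  obtain ⟨k, hk⟩ := exists_pow_eq_one_of_mem T.isPGroup' hz.1
  have hpos : orderOf z ≠ 1 := fun h => hz1 (orderOf_eq_one_iff.1 h)
  obtain ⟨a, -, ha⟩ := (Nat.dvd_prime_pow hp.out).1 (orderOf_dvd_of_pow_eq_one hk)
  rcases a with _ | a
  · exact hpos (by rw [ha, pow_zero])
  have hw : z ^ p ^ a ∈ (⊥ : Subgroup G) := hY ▸ h2 (h1 (mem_omegaOne (pow_mem hz _) (by
    rw [← pow_mul, ← pow_succ, ← ha, pow_orderOf_eq_one])))
  have h3 := orderOf_dvd_of_pow_eq_one (Subgroup.mem_bot.1 hw)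
  rw [ha] at h3
  have := (Nat.pow_dvd_pow_iff_le_right hp.out.one_lt).1 h3
  omega

/-- `Y_L ≤ Y_M` for `T ≤ L ≤ M` in `𝓛`. -/
theorem largestPReducedOf_mono (T : Sylow p G) {L M : Subgroup G} (hTL : (T : Subgroup G) ≤ L)
    (hLM : L ≤ M) (hM : M ∈ charPSubgroups p G) : largestPReducedOf p L ≤ largestPReducedOf p M := by
  set Y := largestPReducedOf p L with hY
  set O := pCoreOf p M with hO
  set Z := omegaOne p (O ⊓ Subgroup.centralizer (O : Set G)) with hZ
  have hspec : IsPRed p L Y := largestPReducedOf_isPRed L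
  have hOL : O ≤ pCoreOf p L := le_pCoreOf (isPGroup_pCoreOf p M)
    ((pCoreOf_le_sylow (hTL.trans hLM)).trans hTL) (hLM.trans (le_normalizer_pCoreOf p M))
  have hYc : Y ≤ Subgroup.centralizer (O : Set G) :=
    Subgroup.le_centralizer_iff.1 (hOL.trans hspec.pCoreOf_le_centralizer)
  have hYZ : Y ≤ Z := elemAb_le_omegaOne hspec.elemAb
    (le_inf (hYc.trans (mem_charPSubgroups_iff.1 hM).2) hYc)
  have hZM : M ≤ Subgroup.normalizer (Z : Set G) := fun m hm => by
    refine mem_normalizer_iff_cj.2 ?_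
    rw [hZ]
    refine (map_omegaOne_center p (MulAut.conj m) _).trans ?_
    rw [show O.map (MulAut.conj m).toMonoidHom = O from mem_normalizer_iff_cj.1 (le_normalizer_pCoreOf p M hm)]
  set V : Subgroup G := ⨆ m : M, cj Y (m : G) with hV
  have hYV : Y ≤ V := le_iSup_of_le 1 (cj_one Y).ge
  have hVZ : V ≤ Z := iSup_le fun m => (cj_mono hYZ _).trans (mem_normalizer_iff_cj.1 (hZM m.2)).le
  have hVn : M ≤ Subgroup.normalizer (V : Set G) := by
    have key : ∀ m ∈ M, cj V m ≤ V := by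
      intro m hm
      rw [hV, cj, Subgroup.map_iSup, iSup_le_iff]
      intro m'
      exact le_iSup_of_le (⟨m * m', M.mul_mem hm m'.2⟩ : M) (cj_cj Y _ m).le
    intro m hm
    refine mem_normalizer_iff_cj.2 (le_antisymm (key m hm) ?_)
    calc V = cj (cj V m⁻¹) m := by rw [cj_cj, mul_inv_cancel, cj_one]
      _ ≤ cj V m := cj_mono (key _ (inv_mem hm)) m
  refine hYV.trans (IsPRed.le_largest ⟨(hVZ.trans ((omegaOne_le' _).trans inf_le_left)).trans (pCoreOf_le p M),
    hVn, elemAb_mono (elemAb_omegaOne_center O) hVZ, fun K hKM hn hcop => ?_⟩)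
  have hKL : K ⊓ L ≤ Subgroup.centralizer (Y : Set G) := hspec.2.2.2 _ inf_le_right
    (le_normalizer_inf (hLM.trans hn) Subgroup.le_normalizer)
    (fun g hg hgo => Subgroup.centralizer_le (SetLike.coe_subset_coe.2 hYV) (hcop g hg.1 hgo))
  have hKY : K ≤ Subgroup.centralizer (Y : Set G) :=
    le_of_inf_sylow_of_coprime T ((hTL.trans hLM).trans hn) ((le_inf inf_le_right (inf_le_left.trans hTL)).trans hKL)
      (fun g hg hgo => Subgroup.centralizer_le (SetLike.coe_subset_coe.2 hYV) (hcop g hg hgo))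
  refine Subgroup.le_centralizer_iff.1 (iSup_le fun m => ?_)
  refine Subgroup.le_centralizer_iff.1 ?_
  rw [centralizer_cj, ← mem_normalizer_iff_cj.1 (hn m.2)]
  exact cj_mono hKY _

/-- `L C(Y_L)` is in `𝓛`. -/
theorem sup_centralizer_mem (hH : IsOfParabolicCharacteristic p G) (T : Sylow p G) {L : Subgroup G}
    (hTL : (T : Subgroup G) ≤ L) (hL : L ∈ charPSubgroups p G) :
    L ⊔ Subgroup.centralizer (largestPReducedOf p L : Set G) ∈ charPSubgroups p G := by
  set Y := largestPReducedOf p L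
  have hspec : IsPRed p L Y := largestPReducedOf_isPRed L
  refine mem_charPSubgroups_of_parabolic hH T (hTL.trans le_sup_left) fun h => largestPReducedOf_ne_bot T hTL hL ?_
  refine le_bot_iff.1 (h ▸ le_pCoreOf (elemAb_isPGroup hspec.elemAb) (hspec.le.trans le_sup_left) ?_)
  exact sup_le hspec.le_normalizer (Subgroup.centralizer_le_normalizer _)

/-- `L ≪ X`: `Y_L ≤ Y_X` and `L` is covered by `X` modulo `C(Y_L)`. -/
def Covers (p : ℕ) (L X : Subgroup G) : Prop :=
  largestPReducedOf p L ≤ largestPReducedOf p X ∧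
    L ≤ (X ⊓ (L ⊔ Subgroup.centralizer (largestPReducedOf p L : Set G))) ⊔
      Subgroup.centralizer (largestPReducedOf p L : Set G)

/-- Existence of `M` with the basic property and the subgroup `L*`. -/
theorem exists_frakM (hH : IsOfParabolicCharacteristic p G) (T : Sylow p G) {L : Subgroup G}
    (hTL : (T : Subgroup G) ≤ L) (hL : L ∈ charPSubgroups p G) :
    ∃ M Ls : Subgroup G, (T : Subgroup G) ≤ M ∧ IsInFrakM p M ∧ (T : Subgroup G) ≤ Ls ∧ Ls ≤ M ∧
      Ls ∈ charPSubgroups p G ∧ largestPReducedOf p L = largestPReducedOf p Ls ∧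
      largestPReducedOf p L ≤ largestPReducedOf p M ∧
      L ⊔ Subgroup.centralizer (largestPReducedOf p L : Set G) =
        Ls ⊔ Subgroup.centralizer (largestPReducedOf p L : Set G) := by
  classical
  set Y := largestPReducedOf p L with hY
  set C := Subgroup.centralizer (Y : Set G) with hC
  set L' := L ⊔ C with hL'
  -- maximal members covering `L` with largest `Y`
  have hmem : ∀ X, (T : Subgroup G) ≤ X → X ∈ charPSubgroups p G → ∃ X₁ ∈ maxCharPSubgroups p G, X ≤ X₁ := by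
    intro X _ hX
    obtain ⟨X₁, hX₁, hmax⟩ := Set.Finite.exists_le_maximal (s := charPSubgroups p G) (Set.toFinite _) hX
    exact ⟨X₁, ⟨hmax.1, fun Z hZ hle => (hmax.eq_of_le hZ hle).symm⟩, hX₁⟩
  set s : Set (Subgroup G) := {X | X ∈ maxCharPSubgroups p G ∧ (T : Subgroup G) ≤ X ∧ Covers p L X} with hs
  have hsne : s.Nonempty := by
    obtain ⟨X, hX, hle⟩ := hmem L' (hTL.trans le_sup_left) (sup_centralizer_mem hH T hTL hL)
    refine ⟨X, hX, (hTL.trans le_sup_left).trans hle, ?_, le_trans (le_inf (le_sup_left.trans hle) le_sup_left) le_sup_left⟩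
    exact largestPReducedOf_mono T hTL (le_sup_left.trans hle) hX.1
  obtain ⟨M₁, ⟨hM₁max, hTM₁, hcov⟩, hYmax⟩ :=
    Set.Finite.exists_maximalFor (fun X => largestPReducedOf p X) s (Set.toFinite _) hsne
  set Y₁ := largestPReducedOf p M₁ with hY₁
  set C₁ := Subgroup.centralizer (Y₁ : Set G) with hC₁
  have hspec₁ : IsPRed p M₁ Y₁ := largestPReducedOf_isPRed M₁
  have hC₁M₁ : C₁ ≤ M₁ := by
    have := hM₁max.2 _ (sup_centralizer_mem hH T hTM₁ hM₁max.1) le_sup_left
    exact le_sup_right.trans this.le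
  have hC₁C : C₁ ≤ C := Subgroup.centralizer_le (SetLike.coe_subset_coe.2 hcov.1)
  -- a minimal supplement
  obtain ⟨M, ⟨hTM, hMM₁, hMC⟩, hMmin⟩ := Set.Finite.exists_minimal
    (s := {X : Subgroup G | (T : Subgroup G) ≤ X ∧ X ≤ M₁ ∧ X ⊔ C₁ = M₁}) (Set.toFinite _)
    ⟨M₁, hTM₁, le_rfl, sup_eq_left.2 hC₁M₁⟩
  have hY₁M : Y₁ ≤ M := (hspec₁.le_pCoreOf.trans (pCoreOf_le_sylow hTM₁)).trans hTM
  have hY₁1 : Y₁ ≠ ⊥ := largestPReducedOf_ne_bot T hTM₁ hM₁max.1
  have hMmem : M ∈ charPSubgroups p G := by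
    refine mem_charPSubgroups_of_parabolic hH T hTM fun h => hY₁1 ?_
    exact le_bot_iff.1 (h ▸ le_pCoreOf (elemAb_isPGroup hspec₁.elemAb) hY₁M (hMM₁.trans hspec₁.le_normalizer))
  have hMC' : M ⊔ C₁ = M₁ ⊔ C₁ := by rw [hMC, sup_eq_left.2 hC₁M₁]
  have hYM : largestPReducedOf p M = Y₁ :=
    le_antisymm (largestPReducedOf_mono T hTM hMM₁ hM₁max.1) (hspec₁.transfer hMC' hY₁M).le_largest
  -- `C_M(Y₁)` is `p`-closed
  set K := M ⊓ C₁ with hK
  have hKM : M ≤ Subgroup.normalizer (K : Set G) :=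
    le_normalizer_inf_centralizer (hMM₁.trans hspec₁.le_normalizer)
  set D := (T : Subgroup G) ⊓ K with hD
  have hDn : M ≤ Subgroup.normalizer (D : Set G) := by
    have hle : M ⊓ Subgroup.normalizer (D : Set G) = M := by
      refine le_antisymm inf_le_left (hMmin ⟨?_, inf_le_left.trans hMM₁, ?_⟩ inf_le_left)
      · exact le_inf hTM (le_normalizer_inf Subgroup.le_normalizer (hTM.trans hKM))
      · refine le_antisymm (sup_le (inf_le_left.trans hMM₁) hC₁M₁) (hMC.ge.trans (sup_le ?_ le_sup_right))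
        intro m hm
        obtain ⟨c, hc, hcm⟩ := exists_mul_mem_normalizer T (hTM.trans hKM) (hKM hm)
        have := mul_mem (Subgroup.mem_sup_right (inv_mem hc.2) :
            c⁻¹ ∈ (M ⊓ Subgroup.normalizer (D : Set G)) ⊔ C₁)
          (Subgroup.mem_sup_left (⟨M.mul_mem hc.1 hm, hcm⟩ : c * m ∈ M ⊓ Subgroup.normalizer (D : Set G)))
        simpa using this
    exact hle.ge.trans inf_le_right
  have hDO : D ≤ pCoreOf p M := le_pCoreOf (T.isPGroup'.to_le inf_le_left) (inf_le_left.trans hTM) hDn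
  have hKcl : IsPClosed p ↥K := by
    obtain ⟨P, hP⟩ := exists_sylow_inf T (hTM.trans hKM)
    intro P'
    haveI hn : (P : Subgroup ↥K).Normal := by
      rw [hP]
      exact (Subgroup.normal_subgroupOf_iff_le_normalizer inf_le_right).2 (inf_le_left.trans hDn)
    obtain ⟨k, hk⟩ := MulAction.exists_smul_eq ↥K P P'
    rw [← hk, Sylow.smul_eq_of_normal]
    exact hn
  -- the Frattini condition
  have hfr : (K.subgroupOf M).map (QuotientGroup.mk' (pCore p ↥M)) ≤ frattini (↥M ⧸ pCore p ↥M) := by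
    rw [frattini, Order.radical]
    refine le_iInf₂ fun W' hW' => ?_
    by_contra hle
    set K₀ := K.subgroupOf M with hK₀
    haveI hK₀n : K₀.Normal := (Subgroup.normal_subgroupOf_iff_le_normalizer inf_le_left).2 hKM
    set W := W'.comap (QuotientGroup.mk' (pCore p ↥M)) with hW
    have hWco : IsCoatom W := Subgroup.isCoatom_comap_of_surjective (QuotientGroup.mk'_surjective _) hW'
    have hOW : pCore p ↥M ≤ W := fun x hx => by
      rw [hW, Subgroup.mem_comap, show QuotientGroup.mk' (pCore p ↥M) x = 1 from (QuotientGroup.eq_one_iff x).2 hx]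
      exact one_mem _
    have hK₀W : ¬ K₀ ≤ W := fun h => hle (Subgroup.map_le_iff_le_comap.2 h)
    have htop : W ⊔ K₀ = ⊤ := hWco.2 _ (left_lt_sup.2 hK₀W)
    have hidx : ¬ p ∣ W.index := by
      intro hd
      have h1 : W.index * Nat.card ↥(W ⊓ K₀ : Subgroup ↥M) = Nat.card K₀ := by
        have e1 : K₀.index = (W ⊓ K₀).relIndex W := by
          rw [inf_comm, Subgroup.inf_relIndex_right]
          conv_lhs => rw [← Subgroup.relIndex_top_right K₀, ← htop]
          exact Subgroup.relIndex_sup_right W K₀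
        have e2 := Subgroup.card_mul_index W
        have e3 := Subgroup.card_mul_index K₀
        have e4 := Subgroup.relIndex_mul_relIndex ⊥ (W ⊓ K₀) W bot_le inf_le_left
        rw [Subgroup.relIndex_bot_left, Subgroup.relIndex_bot_left, ← e1] at e4
        have e5 : Nat.card ↥(W ⊓ K₀ : Subgroup ↥M) * K₀.index * W.index = Nat.card K₀ * K₀.index := by
          rw [e4, e2, e3]
        have hpos : 0 < K₀.index := Nat.pos_of_ne_zero Subgroup.index_ne_zero_of_finite
        exact Nat.eq_of_mul_eq_mul_right hpos ((by ring : _ = _).trans e5)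
      obtain ⟨P, hP⟩ := exists_sylow_inf T (hTM.trans hKM)
      have h2 : Nat.card D ∣ Nat.card ↥(W ⊓ K₀ : Subgroup ↥M) := by
        rw [← Nat.card_congr (Subgroup.subgroupOfEquivOfLe (inf_le_left.trans hTM : D ≤ M)).toEquiv]
        refine Subgroup.card_dvd_of_le (le_inf (fun x hx => hOW ?_) fun x hx => hx.2)
        obtain ⟨y, hy, hyx⟩ := hDO hx
        exact (Subtype.ext hyx : y = x) ▸ hy
      obtain ⟨c, hc⟩ := h2
      have hPi := P.not_dvd_index
      have h3 := (P : Subgroup ↥K).card_mul_index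
      rw [hP, Nat.card_congr (Subgroup.subgroupOfEquivOfLe (inf_le_right : D ≤ K)).toEquiv,
        ← Nat.card_congr (Subgroup.subgroupOfEquivOfLe (inf_le_left : K ≤ M)).toEquiv, ← h1, hc] at h3
      rw [hP] at hPi
      have h4 : (D.subgroupOf K).index = W.index * c :=
        Nat.eq_of_mul_eq_mul_left (Nat.card_pos (α := ↥D)) (h3.trans (by ring))
      exact hPi (h4 ▸ hd.mul_right c)
    obtain ⟨S⟩ : Nonempty (Sylow p ↥W) := inferInstance
    obtain ⟨P, hP⟩ := (S.isPGroup'.map W.subtype).exists_le_sylow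
    have hcard : Nat.card (P : Subgroup ↥M) ≤ Nat.card ((S : Subgroup ↥W).map W.subtype) := by
      rw [Subgroup.card_map_of_injective W.subtype_injective, Sylow.card_eq_multiplicity,
        Sylow.card_eq_multiplicity, ← Subgroup.card_mul_index W,
        Nat.factorization_mul Nat.card_pos.ne' Subgroup.index_ne_zero_of_finite, Finsupp.add_apply,
        Nat.factorization_eq_zero_of_not_dvd hidx, add_zero]
    have hPW : (P : Subgroup ↥M) ≤ W :=
      (Subgroup.eq_of_le_of_card_ge hP hcard).ge.trans (Subgroup.map_subtype_le _)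
    obtain ⟨m, hm⟩ := MulAction.exists_smul_eq ↥M P (T.subtype hTM)
    have hTW : (T : Subgroup G).subgroupOf M ≤ cj W m := by
      rw [← Sylow.coe_subtype T hTM, ← hm, coe_smul_sylow]
      exact cj_mono hPW m
    set W₂ := (cj W m).map M.subtype with hW₂
    have hW₂M : W₂ = M := by
      refine le_antisymm (Subgroup.map_subtype_le _)
        (hMmin ⟨?_, (Subgroup.map_subtype_le _).trans hMM₁, ?_⟩ (Subgroup.map_subtype_le _))
      · intro t ht
        exact ⟨⟨t, hTM ht⟩, hTW ht, rfl⟩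
      · refine le_antisymm (sup_le ((Subgroup.map_subtype_le _).trans hMM₁) hC₁M₁)
          (hMC.ge.trans (sup_le (fun x hx => ?_) le_sup_right))
        have hx' : (m⁻¹ * ⟨x, hx⟩ * m : ↥M) ∈ W ⊔ K₀ := htop ▸ Subgroup.mem_top _
        obtain ⟨w, hw, k, hk, hwk⟩ := Subgroup.mem_sup_of_normal_right.1 hx'
        have he : (⟨x, hx⟩ : ↥M) = m * w * m⁻¹ * (m * k * m⁻¹) := by
          rw [conj_mul, hwk]; group
        have hkK : ((m * k * m⁻¹ : ↥M) : G) ∈ K := hK₀n.conj_mem k hk m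
        have := mul_mem (Subgroup.mem_sup_left (⟨_, ⟨w, hw, rfl⟩, rfl⟩ :
            ((m * w * m⁻¹ : ↥M) : G) ∈ W₂) : ((m * w * m⁻¹ : ↥M) : G) ∈ W₂ ⊔ C₁)
          (Subgroup.mem_sup_right hkK.2)
        rw [← Subgroup.coe_mul, ← he] at this
        exact this
    refine hWco.1 (eq_top_iff.2 fun x _ => ?_)
    have hxM : ((m * x * m⁻¹ : ↥M) : G) ∈ W₂ := hW₂M.symm ▸ (m * x * m⁻¹ : ↥M).2
    obtain ⟨_, ⟨w, hw, rfl⟩, he⟩ := hxM
    have he' : m * w * m⁻¹ = m * x * m⁻¹ := Subtype.ext he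
    rwa [← mul_left_cancel (mul_right_cancel he')]
  -- the subgroup `L*`
  set T₀ := (T : Subgroup G) ⊓ C with hT₀
  set M₀ := M ⊓ L' with hM₀
  have hTM₀ : (T : Subgroup G) ≤ M₀ := le_inf hTM (hTL.trans le_sup_left)
  have hspec : IsPRed p L Y := largestPReducedOf_isPRed L
  have hM₀C : M₀ ⊔ C = L ⊔ C := by
    refine le_antisymm (sup_le (inf_le_right.trans le_rfl) le_sup_right) (sup_le ?_ le_sup_right)
    refine hcov.2.trans (sup_le (fun u hu => ?_) le_sup_right)
    have hu' : u ∈ ((M ⊔ C₁ : Subgroup G) : Set G) := hMC.ge hu.1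
    rw [Subgroup.coe_mul_of_left_le_normalizer_right M C₁
      (le_normalizer_centralizer (hMM₁.trans hspec₁.le_normalizer))] at hu'
    obtain ⟨m, hm, c, hc, rfl⟩ := hu'
    have hmL : m ∈ L' := by
      have := L'.mul_mem hu.2 (L'.inv_mem (Subgroup.mem_sup_right (hC₁C hc) : c ∈ L'))
      simpa using this
    exact mul_mem (Subgroup.mem_sup_left ⟨hm, hmL⟩) (Subgroup.mem_sup_right (hC₁C hc))
  have hYM₀ : Y ≤ M₀ := (hspec.le_pCoreOf.trans (pCoreOf_le_sylow hTL)).trans hTM₀
  have hL'Y : L' ≤ Subgroup.normalizer (Y : Set G) :=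
    sup_le hspec.le_normalizer (Subgroup.centralizer_le_normalizer _)
  have hYne : Y ≠ ⊥ := largestPReducedOf_ne_bot T hTL hL
  have hsub : ∀ X : Subgroup G, (T : Subgroup G) ≤ X → X ≤ L' → X ∈ charPSubgroups p G := fun X hTX hX =>
    mem_charPSubgroups_of_parabolic hH T hTX fun h => hYne (le_bot_iff.1 (h ▸ le_pCoreOf
      (elemAb_isPGroup hspec.elemAb) ((hspec.le_pCoreOf.trans (pCoreOf_le_sylow hTL)).trans hTX) (hX.trans hL'Y)))
  obtain ⟨hYs, hLs⟩ := S2824.result T L M₀ hTL hTM₀ (charP_of_mem_charPSubgroups hL)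
    (charP_of_mem_charPSubgroups (hsub M₀ hTM₀ inf_le_right)) T₀ rfl hM₀C _ rfl
  have hTLs : (T : Subgroup G) ≤ M₀ ⊓ Subgroup.normalizer (T₀ : Set G) :=
    le_inf hTM₀ (le_normalizer_inf Subgroup.le_normalizer
      (le_normalizer_centralizer ((hTL.trans le_sup_left).trans hL'Y)))
  refine ⟨M, M₀ ⊓ Subgroup.normalizer (T₀ : Set G), hTM, ⟨hMmem, ?_, fun X hX hMX => ?_, ?_, ?_, ?_⟩,
    hTLs, inf_le_left.trans inf_le_left, hsub _ hTLs (inf_le_left.trans inf_le_right), hYs.symm,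
    hYM.symm ▸ hcov.1, hLs⟩
  · rw [hYM, hMC]; exact hM₁max
  · rw [hYM, hMC]
    have hYX : Y₁ ≤ largestPReducedOf p X := hYM ▸ largestPReducedOf_mono T hTM hMX hX.1
    have hXs : X ∈ s := by
      refine ⟨hX, hTM.trans hMX, hcov.1.trans hYX, ?_⟩
      exact (le_sup_left.trans hM₀C.ge).trans (sup_le_sup_right (inf_le_inf_right _ hMX) _)
    have hXY : largestPReducedOf p X = Y₁ := le_antisymm (hYmax hXs hYX) hYX
    have hC₁X : C₁ ≤ X := by
      have := hX.2 _ (sup_centralizer_mem hH T (hTM.trans hMX) hX.1) le_sup_left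
      rw [hXY] at this
      exact le_sup_right.trans this.le
    exact hM₁max.2 X hX.1 (hMC.ge.trans (sup_le hMX hC₁X))
  · rw [hYM, hMC]
  · rw [hYM]; exact hKcl
  · rw [hYM]; exact hfr

end Cfsg.Agent.Lib.CharP
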