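import Cfsg.Agent.Lib.CharP.FrakM

/-!
# Consequences of the basic property `M ∈ 𝔐`, in particular for asymmetric `Y_M`

Owner: helper55.
-/

set_option autoImplicit false
set_option linter.style.haveILetI false

open Cfsg
open scoped commutatorElement

namespace Cfsg.Agent.Lib.CharP

variable {G : Type*} [Group G] [Finite G] {p : ℕ} [hp : Fact p.Prime]

/-- `M† = M C(Y_M)`. -/
abbrev dagger (p : ℕ) (M : Subgroup G) : Subgroup G :=
  M ⊔ Subgroup.centralizer (largestPReducedOf p M : Set G)

variable {M : Subgroup G} {S : Sylow p G}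

theorem dagger_le_normalizer (M : Subgroup G) :
    dagger p M ≤ Subgroup.normalizer (largestPReducedOf p M : Set G) :=
  sup_le (largestPReducedOf_isPRed M).le_normalizer (Subgroup.centralizer_le_normalizer _)

theorem largest_le_pCoreOf (M : Subgroup G) : largestPReducedOf p M ≤ pCoreOf p M :=
  (largestPReducedOf_isPRed M).le_pCoreOf

/-- `C_S(Y_M) = O_p(M)`. -/
theorem frakM_inf_centralizer (hSM : (S : Subgroup G) ≤ M) (hM : IsInFrakM p M) :
    (S : Subgroup G) ⊓ Subgroup.centralizer (largestPReducedOf p M : Set G) = pCoreOf p M := by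
  set Y := largestPReducedOf p M with hY
  have hspec : IsPRed p M Y := largestPReducedOf_isPRed M
  refine le_antisymm ?_ (le_inf (pCoreOf_le_sylow hSM) hspec.pCoreOf_le_centralizer)
  set K := M ⊓ Subgroup.centralizer (Y : Set G) with hK
  have hKM : M ≤ Subgroup.normalizer (K : Set G) := le_normalizer_inf_centralizer hspec.le_normalizer
  have hle : (S : Subgroup G) ⊓ Subgroup.centralizer (Y : Set G) ≤ pCoreOf p K := by
    intro x hx
    have hxK : x ∈ K := ⟨hSM hx.1, hx.2⟩
    obtain ⟨k, hk⟩ := exists_pow_eq_one_of_mem S.isPGroup' hx.1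
    exact ⟨⟨x, hxK⟩, isPClosed_iff.1 hM.2.2.2.2.1 ⟨x, hxK⟩ k (Subtype.ext (by simpa using hk)), rfl⟩
  exact hle.trans (le_pCoreOf (isPGroup_pCoreOf p K) ((pCoreOf_le p K).trans inf_le_left)
    (hKM.trans (normalizer_le_normalizer_map_char _)))

/-- A `p`-group between `O_p(M)` and `C(Y_M)` is `O_p(M)`. -/
theorem frakM_le_pCoreOf (hSM : (S : Subgroup G) ≤ M) (hM : IsInFrakM p M) {R : Subgroup G}
    (hR : IsPGroup p R) (hOR : pCoreOf p M ≤ R)
    (hRC : R ≤ Subgroup.centralizer (largestPReducedOf p M : Set G)) : R ≤ pCoreOf p M := by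
  obtain ⟨P, hP⟩ := exists_sylow_inf S
    (le_normalizer_centralizer (hSM.trans (largestPReducedOf_isPRed (p := p) M).le_normalizer))
  rw [frakM_inf_centralizer hSM hM] at hP
  have h := P.is_maximal' (hR.comap_subtype (K := Subgroup.centralizer (largestPReducedOf p M : Set G)))
    (hP.le.trans (fun x hx => hOR hx))
  intro x hx
  exact hP.le (h.le (show (⟨x, hRC hx⟩ : Subgroup.centralizer (largestPReducedOf p M : Set G)) ∈ R.comap _ from hx))

/-- The normalizer of a nontrivial `p`-group normalized by `M` lies in `M†`. -/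
theorem frakM_normalizer_le (hH : IsOfParabolicCharacteristic p G) (hSM : (S : Subgroup G) ≤ M)
    (hM : IsInFrakM p M) {U : Subgroup G} (hU : IsPGroup p U) (hU1 : U ≠ ⊥) {X : Subgroup G}
    (hMX : M ≤ X) (hXU : X ≤ Subgroup.normalizer (U : Set G)) : X ≤ dagger p M := by
  have hUS : U ≤ (S : Subgroup G) :=
    le_sup_right.trans (S.is_maximal' (S.isPGroup'.to_sup_of_normal_right' hU
      (hSM.trans (hMX.trans hXU))) le_sup_left).le
  set N := Subgroup.normalizer (U : Set G)
  have hSN : (S : Subgroup G) ≤ N := hSM.trans (hMX.trans hXU)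
  have hN : N ∈ charPSubgroups p G := mem_charPSubgroups_of_parabolic hH S hSN
    fun h => hU1 (le_bot_iff.1 (h ▸ le_pCoreOf hU (hUS.trans hSN) le_rfl))
  obtain ⟨X₁, hX₁, hmax⟩ := Set.Finite.exists_le_maximal (s := charPSubgroups p G) (Set.toFinite _) hN
  have := hM.2.2.1 X₁ ⟨hmax.1, fun Z hZ hle => (hmax.eq_of_le hZ hle).symm⟩ (hMX.trans (hXU.trans hX₁))
  exact (hXU.trans hX₁).trans this.le

omit [Finite G] hp in
/-- In the asymmetric case mutually normalizing conjugates of `Y` commute. -/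
theorem asym_commute {Y : Subgroup G} (hY : ¬ IsSymmetricIn Y) {g : G}
    (h1 : cj Y g ≤ Subgroup.normalizer (Y : Set G))
    (h2 : Y ≤ Subgroup.normalizer ((cj Y g : Subgroup G) : Set G)) : ⁅Y, cj Y g⁆ = ⊥ := by
  by_contra hne
  exact hY ⟨g, hne, le_inf (Subgroup.le_normalizer_iff_commutator_le_left.1 h1)
    (Subgroup.le_normalizer_iff_commutator_le_right.1 h2)⟩

/-- In the asymmetric case, `N(L) ≤ N(O_p(M))` for a `p`-subgroup `L` of `M†` containing `O_p(M)`. -/
theorem asym_normalizer_le_aux (hH : IsOfParabolicCharacteristic p G) (hSM : (S : Subgroup G) ≤ M)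
    (hM : IsInFrakM p M) (hasym : ¬ IsSymmetricIn (largestPReducedOf p M)) {L : Subgroup G}
    (hL : IsPGroup p L) (hOL : pCoreOf p M ≤ L) (hLd : L ≤ dagger p M) :
    Subgroup.normalizer (L : Set G) ≤ Subgroup.normalizer (pCoreOf p M : Set G) := by
  intro n hn
  set Y := largestPReducedOf p M with hY
  set O := pCoreOf p M with hO
  set C := Subgroup.centralizer (Y : Set G) with hC
  have hLC : L ⊓ C ≤ O := frakM_le_pCoreOf hSM hM (hL.to_le inf_le_left)
    (le_inf hOL (largestPReducedOf_isPRed M).pCoreOf_le_centralizer) inf_le_right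
  have hYO : Y ≤ O := largest_le_pCoreOf M
  let A : Set G := (M : Set G) ∪ {n, n⁻¹}
  have hAinv : ∀ a ∈ A, a⁻¹ ∈ A := by
    rintro a (ha | rfl | rfl)
    · exact Or.inl (inv_mem ha)
    · exact Or.inr (Or.inr rfl)
    · exact Or.inr (Or.inl (inv_inv n))
  have hAO : ∀ a ∈ A, cj O a ≤ L := by
    rintro a (ha | rfl | rfl)
    · exact (mem_normalizer_iff_cj.1 (le_normalizer_pCoreOf p M ha)).le.trans hOL
    · exact (cj_mono hOL _).trans (mem_normalizer_iff_cj.1 hn).le
    · exact (cj_mono hOL _).trans (mem_normalizer_iff_cj.1 (inv_mem hn)).le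
  -- all conjugates of `Y` by products of elements of `A` lie in `O`
  have key : ∀ k : ℕ, ∀ w : List G, w.length ≤ k → (∀ a ∈ w, a ∈ A) → cj Y w.prod ≤ O := by
    intro k
    induction k with
    | zero =>
      intro w hw _
      rw [List.length_eq_zero_iff.1 (Nat.le_zero.1 hw), List.prod_nil, cj_one]
      exact hYO
    | succ k ih =>
      have hstep : ∀ w : List G, w.length ≤ k + 1 → (∀ a ∈ w, a ∈ A) → cj Y w.prod ≤ L := by
        intro w hw hwA
        cases w with
        | nil =>
          rw [List.prod_nil, cj_one]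
          exact hYO.trans hOL
        | cons a w =>
          rw [List.prod_cons, ← cj_cj]
          exact (cj_mono (ih w (by simpa using hw) fun b hb => hwA b (List.mem_cons_of_mem a hb)) a).trans
            (hAO a (hwA a List.mem_cons_self))
      intro w hw hwA
      have h1 := hstep w hw hwA
      have h2 : cj Y w.prod⁻¹ ≤ L := by
        rw [List.prod_inv_reverse]
        refine hstep _ (by simpa using hw) fun a ha => ?_
        obtain ⟨b, hb, rfl⟩ := List.mem_map.1 (List.mem_reverse.1 ha)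
        exact hAinv b (hwA b hb)
      have hLY : L ≤ Subgroup.normalizer (Y : Set G) := hLd.trans (dagger_le_normalizer M)
      have h3 : Y ≤ Subgroup.normalizer ((cj Y w.prod : Subgroup G) : Set G) := by
        rw [normalizer_cj]
        have := cj_mono (h2.trans hLY) w.prod
        rwa [cj_cj, mul_inv_cancel, cj_one] at this
      have h4 := asym_commute hasym (h1.trans hLY) h3
      rw [Subgroup.commutator_comm, Subgroup.commutator_eq_bot_iff_le_centralizer] at h4
      exact (le_inf h1 h4).trans hLC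
  set V : Subgroup G := ⨆ w : {w : List G // ∀ a ∈ w, a ∈ A}, cj Y (w : List G).prod with hV
  have hVO : V ≤ O := iSup_le fun w => key _ w.1 le_rfl w.2
  have hYV : Y ≤ V := le_iSup_of_le (⟨[], by simp⟩ : {w : List G // ∀ a ∈ w, a ∈ A}) (by
    rw [List.prod_nil, cj_one])
  have hVA : ∀ a ∈ A, a ∈ Subgroup.normalizer (V : Set G) := by
    have hle : ∀ a ∈ A, cj V a ≤ V := fun a ha => by
      rw [hV, cj, Subgroup.map_iSup, iSup_le_iff]
      rintro ⟨w, hw⟩
      refine le_iSup_of_le (⟨a :: w, List.forall_mem_cons.2 ⟨ha, hw⟩⟩ : {w : List G // ∀ a ∈ w, a ∈ A}) ?_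
      rw [List.prod_cons, ← cj_cj]
    intro a ha
    refine mem_normalizer_iff_cj.2 (le_antisymm (hle a ha) ?_)
    have := cj_mono (hle a⁻¹ (hAinv a ha)) a
    rwa [cj_cj, mul_inv_cancel, cj_one] at this
  have hV1 : V ≠ ⊥ := fun h => largestPReducedOf_ne_bot S hSM hM.1 (le_bot_iff.1 (h ▸ hYV))
  have hnd : n ∈ dagger p M :=
    frakM_normalizer_le hH hSM hM ((isPGroup_pCoreOf p M).to_le hVO) hV1
      (X := Subgroup.normalizer (V : Set G)) (fun m hm => hVA m (Or.inl hm)) le_rfl
      (hVA n (Or.inr (Or.inl rfl)))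
  refine mem_normalizer_iff_cj.2 (Subgroup.eq_of_le_of_card_ge (le_trans (le_inf ?_ ?_) hLC)
    (Subgroup.card_map_of_injective (MulAut.conj n).injective).ge)
  · exact hAO n (Or.inr (Or.inl rfl))
  · refine (cj_mono (largestPReducedOf_isPRed M).pCoreOf_le_centralizer n).trans (le_of_eq ?_)
    exact mem_normalizer_iff_cj.1
      (le_normalizer_centralizer (L := Subgroup.normalizer (Y : Set G)) le_rfl (dagger_le_normalizer M hnd))

/-- `N(L) ≤ N(O_p(M)) ≤ M†` for every `p`-subgroup `L` containing `O_p(M)`, in the asymmetric case. -/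
theorem asym_normalizer_le (hH : IsOfParabolicCharacteristic p G) (hSM : (S : Subgroup G) ≤ M)
    (hM : IsInFrakM p M) (hasym : ¬ IsSymmetricIn (largestPReducedOf p M)) {L : Subgroup G}
    (hL : IsPGroup p L) (hOL : pCoreOf p M ≤ L) :
    Subgroup.normalizer (L : Set G) ≤ Subgroup.normalizer (pCoreOf p M : Set G) ∧
      Subgroup.normalizer (pCoreOf p M : Set G) ≤ dagger p M := by
  have hNd : Subgroup.normalizer (pCoreOf p M : Set G) ≤ dagger p M :=
    frakM_normalizer_le hH hSM hM (isPGroup_pCoreOf p M) (mem_charPSubgroups_iff.1 hM.1).1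
      (le_normalizer_pCoreOf p M) le_rfl
  refine ⟨?_, hNd⟩
  set L₀ := L ⊓ Subgroup.normalizer (pCoreOf p M : Set G) with hL₀
  have haux := asym_normalizer_le_aux hH hSM hM hasym (hL.to_le (inf_le_left : L₀ ≤ L))
    (le_inf hOL Subgroup.le_normalizer) (inf_le_right.trans hNd)
  have hLL : L ≤ L₀ := by
    by_contra hne
    obtain ⟨x, hxL, hxN, hx⟩ := exists_mem_normalizer_not_mem hL (inf_le_left : L₀ ≤ L) hne
    exact hx ⟨hxL, haux hxN⟩
  rw [le_antisymm hLL inf_le_left]
  exact haux

/-- `O_p(M)` is weakly closed, in the asymmetric case. -/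
theorem asym_wc (hH : IsOfParabolicCharacteristic p G) (hSM : (S : Subgroup G) ≤ M)
    (hM : IsInFrakM p M) (hasym : ¬ IsSymmetricIn (largestPReducedOf p M)) :
    IsWeaklyClosedSubgroup p (pCoreOf p M) :=
  wc_of_normalizer (isPGroup_pCoreOf p M) fun _ hR hOR => (asym_normalizer_le hH hSM hM hasym hR hOR).1

/-- A large subgroup gives parabolic characteristic `p`. -/
theorem large_parabolicChar {Q : Subgroup G} (hQp : IsPGroup p Q) (hQ1 : Q ≠ ⊥) (hQ : IsLarge Q) :
    IsOfParabolicCharacteristic p G := fun U hU hU1 hpU => by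
  obtain ⟨T, hT⟩ := hpU
  exact charP_iff.2 (inf_le_right.trans (large_parabolic hQp hQ1 hQ T hT
    fun h => hU1 (le_bot_iff.1 (h ▸ le_pCoreOf hU Subgroup.le_normalizer le_rfl))))

end Cfsg.Agent.Lib.CharP
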