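import Cfsg.Agent.Lib.CharP.MinimalOver
import Cfsg.Agent.Lib.CharP.WeaklyClosed

/-!
# The L-lemma for `T`-minimal groups

Owner: helper55.
-/

set_option autoImplicit false
set_option linter.style.haveILetI false

open Cfsg

namespace Cfsg.Agent.Lib.CharP

variable {H : Type*} [Group H] [Finite H] {p : ℕ} [hp : Fact p.Prime]

/-- `O_p(H)` together with all conjugates of `A` inside `W`. -/
abbrev conjClosureIn (p : ℕ) (A W : Subgroup H) : Subgroup H :=
  pCore p H ⊔ ⨆ x : {x : H // cj A x ≤ W}, cj A (x : H)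

variable {A : Subgroup H}

omit [Finite H] hp in
theorem cj_le_conjClosureIn {W : Subgroup H} {x : H} (hx : cj A x ≤ W) : cj A x ≤ conjClosureIn p A W :=
  (le_iSup (fun x : {x : H // cj A x ≤ W} => cj A (x : H)) ⟨x, hx⟩).trans le_sup_right

omit [Finite H] hp in
theorem conjClosureIn_le {W : Subgroup H} (hW : pCore p H ≤ W) : conjClosureIn p A W ≤ W :=
  sup_le hW (iSup_le fun x => x.2)

omit [Finite H] hp in
theorem conjClosureIn_mono {V W : Subgroup H} (h : V ≤ W) : conjClosureIn p A V ≤ conjClosureIn p A W :=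
  sup_le le_sup_left (iSup_le fun x => cj_le_conjClosureIn (x.2.trans h))

omit [Finite H] hp in
theorem conjClosureIn_idem (W : Subgroup H) :
    conjClosureIn p A W ≤ conjClosureIn p A (conjClosureIn p A W) :=
  sup_le le_sup_left (iSup_le fun x => cj_le_conjClosureIn (cj_le_conjClosureIn x.2))

omit [Finite H] hp in
theorem normalizer_le_normalizer_conjClosureIn (W : Subgroup H) :
    Subgroup.normalizer (W : Set H) ≤ Subgroup.normalizer (conjClosureIn p A W : Set H) := by
  have hle : ∀ n ∈ Subgroup.normalizer (W : Set H),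
      cj (conjClosureIn p A W) n ≤ conjClosureIn p A W := by
    intro n hn
    rw [cj, Subgroup.map_sup, sup_le_iff, Subgroup.map_iSup, iSup_le_iff]
    refine ⟨?_, fun x => ?_⟩
    · exact le_trans ((mem_normalizer_iff_cj (Q := pCore p H)).1
        (Subgroup.le_normalizer_of_normal (K := ⊤) (Subgroup.mem_top n))).le le_sup_left
    · show cj (cj A (x : H)) n ≤ conjClosureIn p A W
      rw [cj_cj]
      refine cj_le_conjClosureIn ?_
      rw [← cj_cj]
      exact (cj_mono x.2 n).trans (mem_normalizer_iff_cj.1 hn).le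
  intro n hn
  refine mem_normalizer_iff_cj.2 (le_antisymm (hle n hn) ?_)
  have := cj_mono (hle n⁻¹ (inv_mem hn)) n
  rwa [cj_cj, mul_inv_cancel, cj_one] at this

omit hp in
theorem cj_eq_of_le {M : Subgroup H} {g : H} (h : M ≤ cj M g) : cj M g = M :=
  (Subgroup.eq_of_le_of_card_ge h (Subgroup.card_map_of_injective (MulAut.conj g).injective).le).symm

variable {T : Sylow p H} {M : Subgroup H}

/-- The heart of the L-lemma: a `p`-group `B ⊇ O_p(H)` and a conjugate `M^g` that is the only one containing `A B`,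
with `N(B)` not contained in it. -/
theorem exists_lLemma_data (hmin : IsMinimalOver (T : Subgroup H)) (hM : IsCoatom M ∧ (T : Subgroup H) ≤ M)
    (hA : IsPGroup p A) (hA1 : ¬ A ≤ pCore p H) :
    ∃ (B : Subgroup H) (g : H), IsPGroup p B ∧ pCore p H ≤ B ∧ A ≤ Subgroup.normalizer (B : Set H) ∧
      A ⊔ B ≤ cj M g ∧ (∀ a : H, A ⊔ B ≤ cj M a → cj M a = cj M g) ∧
      ¬ Subgroup.normalizer (B : Set H) ≤ cj M g := by
  -- each Sylow subgroup lies in exactly one conjugate of `M`
  have hNM : Subgroup.normalizer (M : Set H) = M := normalizer_eq_of_minimalOver hM.1 hM.2 hmin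
  have huniq : ∀ (S : Sylow p H) (a b : H), (S : Subgroup H) ≤ cj M a → (S : Subgroup H) ≤ cj M b →
      cj M a = cj M b := by
    intro S a b ha hb
    obtain ⟨s, rfl⟩ := MulAction.exists_smul_eq H T S
    rw [coe_smul_sylow] at ha hb
    have key : ∀ c : H, cj (T : Subgroup H) s ≤ cj M c → cj M c = cj M s := by
      intro c hc
      have h1 : (T : Subgroup H) ≤ cj M (s⁻¹ * c) := by
        have := cj_mono hc s⁻¹
        rwa [cj_inv_cj, cj_cj] at this
      have hne : cj M (s⁻¹ * c) ≠ ⊤ := fun h => hM.1.1 (by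
        have h2 := congrArg (fun X => cj X (s⁻¹ * c)⁻¹) h
        simp only [cj_inv_cj] at h2
        rw [h2]
        exact top_le_iff.1 fun x _ => ⟨(MulAut.conj (s⁻¹ * c)⁻¹).symm x, Subgroup.mem_top _, by simp⟩)
      have h3 : cj M (s⁻¹ * c) = M :=
        Subgroup.eq_of_le_of_card_ge (IsMinimalOver.le_of_lt hmin hM h1 hne)
          (Subgroup.card_map_of_injective (MulAut.conj (s⁻¹ * c)).injective).ge
      calc cj M c = cj (cj M (s⁻¹ * c)) s := by rw [cj_cj, mul_inv_cancel_left]
        _ = cj M s := by rw [h3]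
    rw [key a ha, key b hb]
  have hex : ∀ W : Subgroup H, IsPGroup p W → ∃ (S : Sylow p H) (a : H), W ≤ S ∧ (S : Subgroup H) ≤ cj M a := by
    intro W hW
    obtain ⟨S, hS⟩ := hW.exists_le_sylow
    obtain ⟨s, rfl⟩ := MulAction.exists_smul_eq H T S
    exact ⟨s • T, s, hS, by rw [coe_smul_sylow]; exact cj_mono hM.2 s⟩
  have hsyl : ∀ (W : Subgroup H) (a : H), IsPGroup p W → W ≤ cj M a →
      ∃ S : Sylow p H, W ≤ S ∧ (S : Subgroup H) ≤ cj M a := by
    intro W a hW hWa
    obtain ⟨P, hP⟩ := (hW.comap_subtype (K := cj M a)).exists_le_sylow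
    have hTa : ((a • T : Sylow p H) : Subgroup H) ≤ cj M a := by rw [coe_smul_sylow]; exact cj_mono hM.2 a
    obtain ⟨m, hm⟩ := MulAction.exists_smul_eq (cj M a) ((a • T).subtype hTa) P
    refine ⟨(m : H) • (a • T), fun w hw => ?_, ?_⟩
    · have h1 := hP (show (⟨w, hWa hw⟩ : cj M a) ∈ W.subgroupOf (cj M a) from hw)
      rw [← hm] at h1
      obtain ⟨t, ht, htw⟩ := h1
      exact ⟨t, ht, congrArg Subtype.val htw⟩
    · rw [coe_smul_sylow]
      exact (cj_mono hTa _).trans (mem_normalizer_iff_cj.1 (Subgroup.le_normalizer m.2)).le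
  set O := pCore p H with hO
  let s : Set (Subgroup H) := {W | IsPGroup p W ∧ O ≤ W ∧
    ∃ a b : H, W ≤ cj M a ∧ W ≤ cj M b ∧ cj M a ≠ cj M b}
  have hOs : O ∈ s := by
    refine ⟨Cores.pCore_isPGroup p, le_rfl, ?_⟩
    obtain ⟨g, hg⟩ : ∃ g : H, g ∉ M := by
      by_contra h
      push Not at h
      exact hM.1.1 (eq_top_iff.2 fun x _ => h x)
    refine ⟨1, g, ?_, ?_, fun h => hg ?_⟩
    · rw [cj_one]; exact (Cores.pCore_le_sylow T).trans hM.2
    · exact (Cores.pCore_le_sylow (g • T)).trans (by rw [coe_smul_sylow]; exact cj_mono hM.2 g)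
    · rw [cj_one] at h
      rw [← hNM]
      exact mem_normalizer_iff_cj.2 h.symm
  obtain ⟨W₀, ⟨hW₀p, hOW₀, hW₀two⟩, hW₀max⟩ :=
    (Set.toFinite s).exists_maximalFor (fun W => Nat.card (conjClosureIn p A W)) s ⟨O, hOs⟩
  set E := conjClosureIn p A W₀ with hE
  have hOE : O ≤ E := le_sup_left
  have hEW : E ≤ W₀ := conjClosureIn_le hOW₀
  have hEs : E ∈ s := by
    obtain ⟨a, b, ha, hb, hab⟩ := hW₀two
    exact ⟨hW₀p.to_le hEW, hOE, a, b, hEW.trans ha, hEW.trans hb, hab⟩
  have hmaxE : ∀ W ∈ s, E ≤ W → conjClosureIn p A W = E := fun W hW hEW' => by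
    have h1 : E ≤ conjClosureIn p A W := (conjClosureIn_idem W₀).trans (conjClosureIn_mono hEW')
    exact (Subgroup.eq_of_le_of_card_ge h1 (hW₀max hW (Subgroup.card_le_of_le h1))).symm
  -- `N(E)` lies in no conjugate of `M`
  have hNE : ∀ g : H, ¬ Subgroup.normalizer (E : Set H) ≤ cj M g := by
    intro g hg
    obtain ⟨P, hEP, ⟨hPp, hOP, a, b, hPa, hPb, hab⟩, hPmax⟩ :=
      (Set.toFinite s).exists_le_maximal hEs
    have hPE : Subgroup.normalizer (P : Set H) ≤ Subgroup.normalizer (E : Set H) := by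
      have := normalizer_le_normalizer_conjClosureIn (p := p) (A := A) P
      rwa [hmaxE P ⟨hPp, hOP, a, b, hPa, hPb, hab⟩ hEP] at this
    have key : ∀ c c' : H, P ≤ cj M c → P ≤ cj M c' → cj M c ≠ cj M c' → cj M c = cj M g := by
      intro c c' hc hc' hne
      obtain ⟨S, hPS, hSc⟩ := hsyl P c hPp hc
      have hnle : ¬ (S : Subgroup H) ≤ P := fun h => hne (huniq S c c' hSc (h.trans hc'))
      obtain ⟨x, hxS, hxN, hxP⟩ := exists_mem_normalizer_not_mem S.isPGroup' hPS hnle
      set R := (S : Subgroup H) ⊓ Subgroup.normalizer (P : Set H)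
      have hPR : P ≤ R := le_inf hPS Subgroup.le_normalizer
      by_contra hne'
      have hRs : R ∈ s := ⟨S.isPGroup'.to_le inf_le_left, hOP.trans hPR, c, g, inf_le_left.trans hSc,
        inf_le_right.trans (hPE.trans hg), hne'⟩
      exact hxP (hPmax hRs hPR ⟨hxS, hxN⟩)
    exact hab ((key a b hPa hPb hab).trans (key b a hPb hPa (Ne.symm hab)).symm)
  -- a conjugate of `A` normalizing `E` and not inside
  obtain ⟨S, -, hES, -⟩ := hex E hEs.1
  have hstep : ∃ x : H, cj A x ≤ (S : Subgroup H) ⊓ Subgroup.normalizer (E : Set H) ∧ ¬ cj A x ≤ E := by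
    by_contra hc
    push Not at hc
    have hOS : O ≤ (S : Subgroup H) := Cores.pCore_le_sylow S
    set R := (S : Subgroup H) ⊓ Subgroup.normalizer (E : Set H) with hR
    have hER : E ≤ R := le_inf hES Subgroup.le_normalizer
    have hcR : conjClosureIn p A R = E :=
      le_antisymm (sup_le hOE (iSup_le fun x => hc x x.2))
        ((conjClosureIn_idem W₀).trans (conjClosureIn_mono hER))
    have hSE : (S : Subgroup H) ≤ Subgroup.normalizer (E : Set H) := by
      by_contra hne
      obtain ⟨y, hyS, hyN, hyR⟩ := exists_mem_normalizer_not_mem S.isPGroup' (inf_le_left : R ≤ _)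
        fun h => hne (h.trans inf_le_right)
      have h := normalizer_le_normalizer_conjClosureIn (p := p) (A := A) R hyN
      rw [hcR] at h
      exact hyR ⟨hyS, h⟩
    obtain ⟨t, ht⟩ := MulAction.exists_smul_eq H T S
    have hEtop : Subgroup.normalizer (E : Set H) = ⊤ := by
      by_contra hne
      refine hNE t ?_
      have h1 : cj (Subgroup.normalizer (E : Set H)) t⁻¹ ≤ M := by
        refine IsMinimalOver.le_of_lt hmin hM ?_ ?_
        · have := cj_mono hSE t⁻¹
          rwa [← ht, coe_smul_sylow, cj_inv_cj] at this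
        · intro h
          have h2 := congrArg (fun X => cj X t) h
          simp only [cj_cj, mul_inv_cancel, cj_one] at h2
          refine hne (h2.trans ?_)
          exact top_le_iff.1 fun x _ => ⟨(MulAut.conj t).symm x, Subgroup.mem_top _, by simp [mul_assoc]⟩
      have := cj_mono h1 t
      rwa [cj_cj, mul_inv_cancel, cj_one] at this
    haveI : E.Normal := Subgroup.normalizer_eq_top_iff.1 hEtop
    have hEO : E ≤ O := Cores.le_pCore hEs.1
    refine hA1 ?_
    obtain ⟨S', hS'⟩ := hA.exists_le_sylow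
    obtain ⟨u, hu⟩ := MulAction.exists_smul_eq H S' S
    have hAu : cj A u ≤ (S : Subgroup H) := by
      rw [← hu, coe_smul_sylow]; exact cj_mono hS' u
    have h1 := (hc u (le_inf hAu (by rw [hEtop]; exact le_top))).trans hEO
    intro x hx
    have h2 := Subgroup.Normal.conj_mem inferInstance _ (h1 ⟨x, hx, rfl⟩) u⁻¹
    simpa [mul_assoc] using h2
  obtain ⟨x, hxR, hxE⟩ := hstep
  set V := E ⊔ cj A x with hV
  have hVS : V ≤ (S : Subgroup H) := sup_le hES (hxR.trans inf_le_left)
  obtain ⟨S', g, hS', hS'g⟩ := hex V (S.isPGroup'.to_le hVS)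
  have hVuniq : ∀ a : H, V ≤ cj M a → cj M a = cj M g := by
    intro a ha
    by_contra hne
    have hVs : V ∈ s := ⟨S.isPGroup'.to_le hVS, hOE.trans le_sup_left, a, g, ha, hS'.trans hS'g, hne⟩
    exact hxE (hmaxE V hVs le_sup_left ▸ cj_le_conjClosureIn le_sup_right)
  refine ⟨cj E x⁻¹, x⁻¹ * g, hEs.1.map _, ?_, ?_, ?_, ?_, ?_⟩
  · exact le_trans ((mem_normalizer_iff_cj (Q := O)).1
      (Subgroup.le_normalizer_of_normal (K := ⊤) (Subgroup.mem_top x⁻¹))).ge (cj_mono hOE _)
  · rw [normalizer_cj]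
    have := cj_mono (hxR.trans inf_le_right) x⁻¹
    rwa [cj_inv_cj] at this
  · have := cj_mono (hS'.trans hS'g : V ≤ cj M g) x⁻¹
    rw [hV, cj, Subgroup.map_sup] at this
    change cj E x⁻¹ ⊔ cj (cj A x) x⁻¹ ≤ cj (cj M g) x⁻¹ at this
    rwa [cj_inv_cj, cj_cj, sup_comm] at this
  · intro a ha
    have h1 : V ≤ cj M (x * a) := by
      rw [← cj_cj]
      refine sup_le ?_ (cj_mono (le_sup_left.trans ha) x)
      have := cj_mono (le_sup_right.trans ha : cj E x⁻¹ ≤ cj M a) x
      rwa [cj_cj, mul_inv_cancel, cj_one] at this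
    have h2 := congrArg (fun X => cj X x⁻¹) (hVuniq _ h1)
    simpa [cj_cj] using h2
  · intro h
    refine hNE g ?_
    have := cj_mono h x
    rwa [normalizer_cj, cj_cj, cj_cj, mul_inv_cancel, cj_one, mul_inv_cancel_left] at this

end Cfsg.Agent.Lib.CharP
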