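import Cfsg.Agent.Lib.CharP.LargeChar
import Cfsg.Agent.Lib.PGroups.Omega

/-!
# Large subgroups: centralizers of `p`-subgroups normalized by `Q`

Owner: helper55.
-/

set_option autoImplicit false
set_option linter.style.haveILetI false

open Cfsg
open scoped commutatorElement

namespace Cfsg.Agent.Lib.CharP

variable {G : Type*} [Group G] [Finite G] {p : ℕ} [hp : Fact p.Prime]

omit [Finite G] in
theorem exists_ne_one_of_ne_bot' {H : Subgroup G} (h : H ≠ ⊥) : ∃ x ∈ H, x ≠ 1 := by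
  rw [Ne, Subgroup.eq_bot_iff_forall] at h
  push Not at h
  exact h

/-- A `p`-group acting on a nontrivial `p`-group has nontrivial fixed points. -/
theorem fixed_ne_bot {Y Q : Subgroup G} (hY : IsPGroup p Y) (hQ : IsPGroup p Q)
    (hQY : Q ≤ Subgroup.normalizer (Y : Set G)) (hY1 : Y ≠ ⊥) :
    Y ⊓ Subgroup.centralizer (Q : Set G) ≠ ⊥ := by
  intro h
  haveI : (Y.subgroupOf (Y ⊔ Q)).Normal :=
    (Subgroup.normal_subgroupOf_iff_le_normalizer le_sup_left).2 (sup_le Subgroup.le_normalizer hQY)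
  have hne : Y.subgroupOf (Y ⊔ Q) ≠ ⊥ := fun h' => hY1 (by
    rw [← Subgroup.map_subgroupOf_eq_of_le (le_sup_left : Y ≤ Y ⊔ Q), h', Subgroup.map_bot])
  refine PGroups.normal_inf_center_ne_bot (hY.to_sup_of_normal_left' hQ hQY) _ hne ?_
  rw [Subgroup.eq_bot_iff_forall]
  rintro z ⟨hzY, hzc⟩
  refine Subtype.ext (Subgroup.mem_bot.1 (h ▸ ?_))
  exact ⟨hzY, Subgroup.mem_centralizer_iff.2 fun q hq =>
    congrArg Subtype.val (Subgroup.mem_center_iff.1 hzc ⟨q, Subgroup.mem_sup_right hq⟩)⟩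

/-- For a large `Q` normalizing a nontrivial `p`-group `Y`, `C(Y)` normalizes `Q`. -/
theorem large_centralizer_le_normalizer {Q Y : Subgroup G} (hQp : IsPGroup p Q) (hL : IsLarge Q)
    (hY : IsPGroup p Y) (hY1 : Y ≠ ⊥) (hQY : Q ≤ Subgroup.normalizer (Y : Set G)) :
    Subgroup.centralizer (Y : Set G) ≤ Subgroup.normalizer (Q : Set G) :=
  ((Subgroup.centralizer_le (SetLike.coe_subset_coe.2 inf_le_left)).trans
    (Subgroup.centralizer_le_normalizer _)).trans (hL.2 _ inf_le_right (fixed_ne_bot hY hQp hQY hY1))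

/-- The weak closure of a large `Q` in `L` is unchanged by `C(Y)`, for a `p`-group `Y ≠ 1` normalized by `L`. -/
theorem large_weakClosure {Q L Y : Subgroup G} (hQp : IsPGroup p Q) (hQ1 : Q ≠ ⊥) (hL : IsLarge Q)
    (hQL : Q ≤ L) (hY : IsPGroup p Y) (hY1 : Y ≠ ⊥) (hLY : L ≤ Subgroup.normalizer (Y : Set G)) :
    weakClosure Q L = weakClosure Q (L ⊔ Subgroup.centralizer (Y : Set G)) ∧
      ⁅weakClosure Q L, Subgroup.centralizer (Y : Set G)⁆ ≤ pCoreOf p (weakClosure Q L) ∧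
      Subgroup.centralizer (Y : Set G) ≤ Subgroup.normalizer (weakClosure Q L : Set G) := by
  set D := Subgroup.centralizer (Y : Set G) with hD
  set W := weakClosure Q L with hW
  have hwc := large_wc hQp hQ1 hL
  have hLD : L ≤ Subgroup.normalizer (D : Set G) := le_normalizer_centralizer hLY
  have hDQ : D ≤ Subgroup.normalizer (Q : Set G) :=
    large_centralizer_le_normalizer hQp hL hY hY1 (hQL.trans hLY)
  have hDcj : ∀ l ∈ L, D ≤ Subgroup.normalizer ((cj Q l : Subgroup G) : Set G) := by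
    intro l hl
    rw [normalizer_cj]
    exact (mem_normalizer_iff_cj.1 (hLD hl)).ge.trans (cj_mono hDQ l)
  have hWeq : W = ⨆ k : L, cj Q (k : G) := weakClosure_eq hQp hwc hQL
  have hcjW : ∀ l ∈ L, cj Q l ≤ W := fun l hl => hWeq ▸ le_iSup (fun k : L => cj Q (k : G)) ⟨l, hl⟩
  have hDW : D ≤ Subgroup.normalizer (W : Set G) := by
    intro d hd
    refine mem_normalizer_iff_cj.2 ?_
    rw [hWeq, cj, Subgroup.map_iSup]
    exact iSup_congr fun k => mem_normalizer_iff_cj.1 (hDcj k k.2 hd)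
  refine ⟨le_antisymm (weakClosure_mono le_sup_left) ?_, ?_, hDW⟩
  · rw [weakClosure_eq hQp hwc (hQL.trans le_sup_left)]
    refine iSup_le fun k => ?_
    have hk : (k : G) ∈ ((L ⊔ D : Subgroup G) : Set G) := k.2
    rw [Subgroup.coe_mul_of_left_le_normalizer_right L D hLD] at hk
    obtain ⟨l, hl, d, hd, hld⟩ := hk
    rw [← hld, ← cj_cj, mem_normalizer_iff_cj.1 (hDQ hd)]
    exact hcjW l hl
  · set O := pCoreOf p W with hO
    have hOW : W ≤ Subgroup.normalizer (O : Set G) := le_normalizer_pCoreOf p W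
    have key : ∀ l ∈ L, ∀ q ∈ cj Q l, ∀ d ∈ D, ⁅q, d⁆ ∈ O := by
      intro l hl q hq d hd
      have hWL : W ≤ L := weakClosure_le Q L
      have hqD : ⁅cj Q l, D⁆ ≤ cj Q l ⊓ (W ⊓ D) := by
        refine le_inf (Subgroup.le_normalizer_iff_commutator_le_left.1 (hDcj l hl)) (le_inf ?_ ?_)
        · exact (Subgroup.le_normalizer_iff_commutator_le_left.1 (hDcj l hl)).trans (hcjW l hl)
        · exact Subgroup.le_normalizer_iff_commutator_le_right.1 (((hcjW l hl).trans hWL).trans hLD)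
      refine (hqD.trans ?_) (Subgroup.commutator_mem_commutator hq hd)
      refine (le_pCoreOf ((hQp.map _).to_le inf_le_left) inf_le_right ?_).trans ?_
      · exact le_normalizer_inf (inf_le_right.trans (hDcj l hl)) Subgroup.le_normalizer
      · refine le_pCoreOf (isPGroup_pCoreOf p _) ((pCoreOf_le p _).trans inf_le_left) ?_
        exact (le_normalizer_inf Subgroup.le_normalizer (hWL.trans hLD)).trans
          (normalizer_le_normalizer_map_char _)
    refine Subgroup.commutator_le.2 fun w hw d hd => ?_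
    rw [hWeq] at hw
    have aux : w ∈ W ∧ ∀ d ∈ D, ⁅w, d⁆ ∈ O := by
      refine Subgroup.iSup_induction (fun k : L => cj Q (k : G))
        (C := fun w => w ∈ W ∧ ∀ d ∈ D, ⁅w, d⁆ ∈ O) hw
        (fun k x hx => ⟨hcjW k k.2 hx, key k k.2 x hx⟩) ⟨one_mem _, fun d _ => by simp⟩ ?_
      rintro a b ⟨haW, ha⟩ ⟨hbW, hb⟩
      refine ⟨mul_mem haW hbW, fun d hd => ?_⟩
      have e : ⁅a * b, d⁆ = a * ⁅b, d⁆ * a⁻¹ * ⁅a, d⁆ := by simp only [commutatorElement_def]; group
      rw [e]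
      exact mul_mem ((Subgroup.mem_normalizer_iff.1 (hOW haW) _).1 (hb d hd)) (ha d hd)
    exact aux.2 d hd

omit [Finite G] in
theorem centralizer_cj (A : Subgroup G) (g : G) :
    Subgroup.centralizer ((cj A g : Subgroup G) : Set G) = cj (Subgroup.centralizer (A : Set G)) g := by
  ext x
  rw [Subgroup.mem_centralizer_iff]
  constructor
  · intro h
    refine ⟨g⁻¹ * x * g, Subgroup.mem_centralizer_iff.2 fun a ha => ?_, by simp [mul_assoc]⟩
    have h1 : g * a * g⁻¹ * x = x * (g * a * g⁻¹) := h _ ⟨a, ha, rfl⟩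
    calc a * (g⁻¹ * x * g) = g⁻¹ * (g * a * g⁻¹ * x) * g := by group
      _ = g⁻¹ * x * g * a := by rw [h1]; group
  · rintro ⟨y, hy, rfl⟩ _ ⟨a, ha, rfl⟩
    show g * a * g⁻¹ * (g * y * g⁻¹) = g * y * g⁻¹ * (g * a * g⁻¹)
    rw [conj_mul, conj_mul, Subgroup.mem_centralizer_iff.1 hy a ha]

omit [Finite G] in
theorem isLarge_cj {Q : Subgroup G} (hL : IsLarge Q) (g : G) : IsLarge (cj Q g) := by
  refine ⟨(centralizer_cj Q g).le.trans (cj_mono hL.1 g), fun U hU hU1 => ?_⟩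
  have h1 : cj U g⁻¹ ≤ Subgroup.centralizer (Q : Set G) := by
    have := cj_mono (hU.trans (centralizer_cj Q g).le) g⁻¹
    rwa [cj_inv_cj] at this
  have h2 : cj U g⁻¹ ≠ ⊥ := fun h => hU1 (by
    rwa [cj, Subgroup.map_eq_bot_iff_of_injective _ (MulAut.conj g⁻¹).injective] at h)
  have h3 := cj_mono (hL.2 _ h1 h2) g
  rwa [← normalizer_cj, cj_cj, mul_inv_cancel, cj_one, ← normalizer_cj] at h3

/-- With a large `Q ≤ L` and `O_p(L) ≠ 1`: `L` has characteristic `p` and `C(O_p(L))` is a `p`-group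
normalizing `Q`. -/
theorem large_charP {Q L : Subgroup G} (hQp : IsPGroup p Q) (hQ1 : Q ≠ ⊥) (hL : IsLarge Q) (hQL : Q ≤ L)
    (hP : pCoreOf p L ≠ ⊥) :
    IsPGroup p ↥(Subgroup.centralizer (pCoreOf p L : Set G)) ∧
      Subgroup.centralizer (pCore p ↥L : Set ↥L) ≤ pCore p ↥L := by
  have hne := fixed_ne_bot (isPGroup_pCoreOf p L) hQp (hQL.trans (le_normalizer_pCoreOf p L)) hP
  obtain ⟨y, hy, hy1⟩ := exists_ne_one_of_ne_bot' hne
  have hU : Subgroup.zpowers y ≠ ⊥ := fun h => hy1 (Subgroup.zpowers_eq_bot.1 h)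
  have hyN : Subgroup.centralizer ({y} : Set G) ≤ Subgroup.normalizer (Q : Set G) := by
    refine le_trans ?_ (hL.2 _ (Subgroup.zpowers_le.2 hy.2) hU)
    rw [Subgroup.zpowers_eq_closure]
    exact (Subgroup.centralizer_closure ({y} : Set G)).ge.trans (Subgroup.centralizer_le_normalizer _)
  set W := Subgroup.centralizer ({y} : Set G) with hWdef
  have hQW : Q ≤ pCoreOf p W := le_pCoreOf hQp
    (fun q hq => Subgroup.mem_centralizer_singleton_iff.2 (Subgroup.mem_centralizer_iff.1 hy.2 q hq)) hyN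
  have hW : Subgroup.centralizer (pCore p ↥W : Set ↥W) ≤ pCore p ↥W := charP_iff.2
    (inf_le_right.trans ((Subgroup.centralizer_le (SetLike.coe_subset_coe.2 hQW)).trans (hL.1.trans hQW)))
  have hwc := large_wc hQp hQ1 hL
  exact ⟨(centralizer_pCoreOf_of_wc hQp hwc hL.1 hQL hy.1 hy.2 hW).2.1,
    charP_of_wc hQp hwc hL.1 hQL hy.1 hy.2 hW⟩

/-- For `R` containing a Sylow subgroup and `O_p(R) ≠ 1`: `C(O_p(R)) ≤ O_p(R)`. -/
theorem large_parabolic {Q R : Subgroup G} (hQp : IsPGroup p Q) (hQ1 : Q ≠ ⊥) (hL : IsLarge Q)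
    (T : Sylow p G) (hTR : (T : Subgroup G) ≤ R) (hP : pCoreOf p R ≠ ⊥) :
    Subgroup.centralizer (pCoreOf p R : Set G) ≤ pCoreOf p R := by
  obtain ⟨S, hS⟩ := hQp.exists_le_sylow
  obtain ⟨h, hh⟩ := MulAction.exists_smul_eq G S T
  have hQT : cj Q h ≤ (T : Subgroup G) := by
    rw [← hh, coe_smul_sylow]
    exact cj_mono hS h
  have hQh1 : cj Q h ≠ ⊥ := fun h' => hQ1 (by
    rwa [cj, Subgroup.map_eq_bot_iff_of_injective _ (MulAut.conj h).injective] at h')
  have hC := (large_charP (hQp.map _) hQh1 (isLarge_cj hL h) (hQT.trans hTR) hP).1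
  have hRC : R ≤ Subgroup.normalizer (Subgroup.centralizer (pCoreOf p R : Set G) : Set G) :=
    le_normalizer_centralizer (le_normalizer_pCoreOf p R)
  refine le_pCoreOf hC (le_trans ?_ hTR) hRC
  exact le_sup_right.trans
    (T.is_maximal' (T.isPGroup'.to_sup_of_normal_right' hC (hTR.trans hRC)) le_sup_left).le

end Cfsg.Agent.Lib.CharP
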