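import Cfsg.Agent.Lib.CharP.PReduced

/-!
# `Y_L` for subnormal subgroups

Owner: helper55.
-/

set_option autoImplicit false
set_option linter.style.haveILetI false

open Cfsg
open scoped Pointwise commutatorElement

namespace Cfsg.Agent.Lib.CharP

variable {G : Type*} [Group G] {p : ℕ}

/-- A×B lemma for an abelian `p`-group `V`: only the actions on `V` of `x` and of `B` need to commute. -/
theorem commute_of_axb_abelian [Finite G] [Fact p.Prime] {B : Subgroup G} (hB : IsPGroup p B) {x : G}
    (hx : (orderOf x).Coprime p) {V : Subgroup G} (hV : IsPGroup p V)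
    (hVc : ∀ a ∈ V, ∀ b ∈ V, Commute a b)
    (hBV : B ≤ Subgroup.normalizer (V : Set G)) (hxV : x ∈ Subgroup.normalizer (V : Set G))
    (hxB : ∀ b ∈ B, ∀ v ∈ V, x * (b * v * b⁻¹) * x⁻¹ = b * (x * v * x⁻¹) * b⁻¹)
    (hcent : ∀ u ∈ V, (∀ b ∈ B, Commute u b) → Commute x u) : ∀ u ∈ V, Commute x u := by
  induction hn : Nat.card V using Nat.strong_induction_on generalizing V with
  | _ n ih =>
    rcases eq_or_ne V ⊥ with rfl | hne
    · intro u hu
      rw [Subgroup.mem_bot.1 hu]
      exact Commute.one_right x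
    have hS : IsPGroup p (B ⊔ V : Subgroup G) := hB.to_sup_of_normal_right' hV hBV
    have hle : ⁅V, B⁆ ≤ V := Subgroup.le_normalizer_iff_commutator_le_left.1 hBV
    have hlt : ⁅V, B⁆ < V := by
      refine lt_of_le_of_ne hle fun heq => hne ?_
      obtain ⟨m, hm⟩ := (Subgroup.isNilpotent_iff_lowerCentralSeries _).1 hS.isNilpotent
      refine le_bot_iff.1 (hm ▸ ?_)
      clear hm
      induction m with
      | zero => exact le_sup_right
      | succ m ihm =>
        rw [Subgroup.lowerCentralSeries_succ]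
        calc V = ⁅V, B⁆ := heq.symm
          _ ≤ _ := Subgroup.commutator_mono ihm le_sup_left
    -- `x` normalizes `[V, B]`
    have hxcomm : ∀ v ∈ V, ∀ b ∈ B, x * ⁅v, b⁆ * x⁻¹ = ⁅x * v * x⁻¹, b⁆ := by
      intro v hv b hb
      have e : ⁅v, b⁆ = v * (b * v⁻¹ * b⁻¹) := by rw [commutatorElement_def]; group
      have e' : ⁅x * v * x⁻¹, b⁆ = (x * v * x⁻¹) * (b * (x * v⁻¹ * x⁻¹) * b⁻¹) := by
        rw [commutatorElement_def]; group
      rw [e, e', ← hxB b hb v⁻¹ (inv_mem hv)]
      group
    have hmap : (⁅V, B⁆ : Subgroup G).map (MulAut.conj x).toMonoidHom ≤ ⁅V, B⁆ := by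
      rw [Subgroup.map_le_iff_le_comap, Subgroup.commutator_le]
      intro v hv b hb
      change x * ⁅v, b⁆ * x⁻¹ ∈ (⁅V, B⁆ : Subgroup G)
      rw [hxcomm v hv b hb]
      exact Subgroup.commutator_mem_commutator ((Subgroup.mem_normalizer_iff.1 hxV v).1 hv) hb
    have hxN : x ∈ Subgroup.normalizer ((⁅V, B⁆ : Subgroup G) : Set G) :=
      Subgroup.mem_normalizer_iff_map_conj_eq.2
        (Subgroup.eq_of_le_of_card_ge hmap (Subgroup.card_map_of_injective (MulAut.conj x).injective).ge)
    have h1 : ∀ u ∈ ⁅V, B⁆, Commute x u := by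
      refine ih _ ?_ (hV.to_le hle) (fun a ha b hb => hVc a (hle ha) b (hle hb))
        (Subgroup.normalizer_commutator_ge_right V B) hxN (fun b hb v hv => hxB b hb v (hle hv))
        (fun u hu => hcent u (hle hu)) rfl
      rw [← hn]
      exact lt_of_le_of_ne (Nat.le_of_dvd Nat.card_pos (Subgroup.card_dvd_of_le hle))
        fun hc => hlt.ne (Subgroup.eq_of_le_of_card_ge hle hc.ge)
    intro u hu
    set U : Subgroup G := V ⊓ Subgroup.centralizer (B : Set G) with hUdef
    have hxu : x * u * x⁻¹ ∈ V := (Subgroup.mem_normalizer_iff.1 hxV u).1 hu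
    refine commute_of_comm_mem (U := U) (hV.to_le inf_le_left) hx
      (fun v hv => hcent v hv.1 fun b hb => (Subgroup.mem_centralizer_iff.1 hv.2 b hb).symm) ⟨?_, ?_⟩
    · rw [commutatorElement_def]
      simpa [mul_assoc] using V.mul_mem (inv_mem hu) hxu
    · refine Subgroup.mem_centralizer_iff.2 fun b hb => mul_inv_eq_iff_eq_mul.1 ?_
      set w := u⁻¹ * (b * u * b⁻¹) with hw
      have hwV : w ∈ ⁅V, B⁆ := by
        have : w = ⁅u⁻¹, b⁆ := by rw [hw, commutatorElement_def]; group
        rw [this]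
        exact Subgroup.commutator_mem_commutator (inv_mem hu) hb
      have h2 : x * (b * u * b⁻¹) * x⁻¹ = x * u * x⁻¹ * w := by
        have := (h1 w hwV).mul_inv_cancel
        calc x * (b * u * b⁻¹) * x⁻¹ = x * (u * w) * x⁻¹ := by rw [hw]; group
          _ = (x * u * x⁻¹) * (x * w * x⁻¹) := by group
          _ = _ := by rw [this]
      have h3 := hVc w (hle hwV) (u⁻¹ * (x * u * x⁻¹)) (V.mul_mem (inv_mem hu) hxu)
      calc b * ⁅u⁻¹, x⁆ * b⁻¹ = (b * u * b⁻¹)⁻¹ * (b * (x * u * x⁻¹) * b⁻¹) := by
            rw [commutatorElement_def]; group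
        _ = (u * w)⁻¹ * (x * u * x⁻¹ * w) := by
            rw [← hxB b hb u hu, h2, hw]; group
        _ = w⁻¹ * ((u⁻¹ * (x * u * x⁻¹)) * w) := by group
        _ = u⁻¹ * (x * u * x⁻¹) := by rw [← h3.eq, inv_mul_cancel_left]
        _ = ⁅u⁻¹, x⁆ := by rw [commutatorElement_def]; group

/-- A subnormal subgroup whose elements of order prime to `p` centralize a `p`-reduced normal subgroup `V`
centralizes `V`. -/
theorem le_centralizer_of_isSubnormal [Finite G] [Fact p.Prime] {V N : Subgroup G}
    (hV : IsPReducedNormal p V) (hN : N.IsSubnormal)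
    (h : ∀ g ∈ N, (orderOf g).Coprime p → g ∈ Subgroup.centralizer (V : Set G)) :
    N ≤ Subgroup.centralizer (V : Set G) := by
  obtain ⟨-, -, hCn, hcore⟩ := hV
  haveI := hCn
  let f := QuotientGroup.mk' (Subgroup.centralizer (V : Set G))
  have hp : IsPGroup p (N.map f) := by
    rw [isPGroup_iff_pow_pow_eq_one]
    rintro ⟨q, g, hg, rfl⟩
    obtain ⟨a, ha⟩ := exists_pow_coprime (p := p) g
    exact ⟨a, Subtype.ext (by
      simpa [f] using (QuotientGroup.eq_one_iff _).2 (h _ (N.pow_mem hg _) ha))⟩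
  intro g hg
  have hfg : f g ∈ (⊥ : Subgroup _) :=
    hcore ▸ Cores.IsSubnormal.le_pCore (hN.map (QuotientGroup.mk'_surjective _)) hp ⟨g, hg, rfl⟩
  exact (QuotientGroup.eq_one_iff g).1 hfg

/-- For subnormal `L`, an element of `L` of order prime to `p` centralizing `Y ∩ L` centralizes the normal
`p`-subgroup `Y`. -/
theorem mem_centralizer_of_isSubnormal {L Y : Subgroup G} [Y.Normal] (hL : L.IsSubnormal)
    (hY : IsPGroup p Y) {x : G} (hxL : x ∈ L) (hx : (orderOf x).Coprime p)
    (hc : x ∈ Subgroup.centralizer ((Y ⊓ L : Subgroup G) : Set G)) :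
    x ∈ Subgroup.centralizer (Y : Set G) := by
  induction hL with
  | top => rwa [inf_top_eq] at hc
  | step H K hle _ hN ih =>
    refine ih (hle hxL) (mem_centralizer_of_two_step (hY.to_le inf_le_left) hx (fun v hv => ⟨?_, ?_⟩) hc)
    · have h := (inferInstance : Y.Normal).conj_mem _ (inv_mem hv.1) x
      rw [commutatorElement_def]
      simpa [mul_assoc] using mul_mem hv.1 h
    · have h := (Subgroup.mem_normalizer_iff.1
        ((Subgroup.normal_subgroupOf_iff_le_normalizer hle).1 hN hv.2) x).1 hxL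
      change ⁅v, x⁆ ∈ H
      rw [commutatorElement_def]
      exact mul_mem h (inv_mem hxL)

/-- For subnormal `L`, `Y_G ∩ L` is `p`-reduced for `L`, and has the same centralizer in `L` as `Y_G`. -/
theorem isPRed_inf_of_isSubnormal [Finite G] [Fact p.Prime] {L Y : Subgroup G} (hL : L.IsSubnormal)
    (hY : IsPReducedNormal p Y) :
    IsPRed p L (Y ⊓ L) ∧
      L ⊓ Subgroup.centralizer ((Y ⊓ L : Subgroup G) : Set G) ≤ Subgroup.centralizer (Y : Set G) := by
  haveI := hY.1
  have hYp := elemAb_isPGroup hY.2.1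
  have hnor : L ≤ Subgroup.normalizer ((Y ⊓ L : Subgroup G) : Set G) :=
    (le_inf Subgroup.le_normalizer_of_normal Subgroup.le_normalizer).trans
      Subgroup.inf_normalizer_le_normalizer_inf
  have key : ∀ K : Subgroup G, K ≤ L → L ≤ Subgroup.normalizer (K : Set G) →
      (∀ g ∈ K, (orderOf g).Coprime p → g ∈ Subgroup.centralizer ((Y ⊓ L : Subgroup G) : Set G)) →
      K ≤ Subgroup.centralizer (Y : Set G) := fun K hK hn h =>
    le_centralizer_of_isSubnormal hY
      (Subgroup.IsSubnormal.step K L hK hL ((Subgroup.normal_subgroupOf_iff_le_normalizer hK).2 hn))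
      fun g hg hgo => mem_centralizer_of_isSubnormal hL hYp (hK hg) hgo (h g hg hgo)
  exact ⟨⟨inf_le_right, hnor, elemAb_mono hY.2.1 inf_le_left, fun K hK hn h =>
      (key K hK hn h).trans (Subgroup.centralizer_le inf_le_left)⟩,
    key _ inf_le_left (le_normalizer_inf_centralizer hnor) fun g hg _ => hg.2⟩

theorem IsPRed.map_conj [Finite G] [Fact p.Prime] {L V : Subgroup G} (h : IsPRed p L V) {l : G}
    (hl : l ∈ Subgroup.normalizer (L : Set G)) : IsPRed p L (V.map (MulAut.conj l).toMonoidHom) := by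
  set c := (MulAut.conj l).toMonoidHom with hc
  have hLc : L.map c = L := Subgroup.mem_normalizer_iff_map_conj_eq.1 hl
  have hinv : l⁻¹ ∈ Subgroup.normalizer (L : Set G) := inv_mem hl
  have hcent : ∀ g : G, g ∈ Subgroup.centralizer ((V.map c : Subgroup G) : Set G) ↔
      l⁻¹ * g * l ∈ Subgroup.centralizer (V : Set G) := by
    intro g
    simp only [Subgroup.mem_centralizer_iff, Subgroup.coe_map, Set.forall_mem_image, SetLike.mem_coe]
    refine forall_congr' fun v => imp_congr Iff.rfl ?_
    change l * v * l⁻¹ * g = g * (l * v * l⁻¹) ↔ _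
    constructor
    · intro h
      have := congrArg (fun t => l⁻¹ * t * l) h
      simpa [mul_assoc] using this
    · intro h
      have := congrArg (fun t => l * t * l⁻¹) h
      simpa [mul_assoc] using this
  refine ⟨(Subgroup.map_mono h.le).trans hLc.le, ?_, ?_, fun K hK hn hcop => ?_⟩
  · calc L = L.map c := hLc.symm
      _ ≤ (Subgroup.normalizer (V : Set G)).map c := Subgroup.map_mono h.le_normalizer
      _ ≤ _ := Subgroup.le_normalizer_map _
  · obtain ⟨hcm, hpw⟩ := elemAb_iff.1 h.elemAb
    refine elemAb_iff.2 ⟨?_, ?_⟩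
    · rintro _ ⟨a, ha, rfl⟩ _ ⟨b, hb, rfl⟩; exact (hcm a ha b hb).map c
    · rintro _ ⟨a, ha, rfl⟩; rw [← map_pow, hpw a ha, map_one]
  · set c' := (MulAut.conj l⁻¹).toMonoidHom with hc'
    have hLc' : L.map c' = L := Subgroup.mem_normalizer_iff_map_conj_eq.1 hinv
    have hsub := h.2.2.2 (K.map c') ((Subgroup.map_mono hK).trans hLc'.le)
      (by
        calc L = L.map c' := hLc'.symm
          _ ≤ (Subgroup.normalizer (K : Set G)).map c' := Subgroup.map_mono hn
          _ ≤ _ := Subgroup.le_normalizer_map _)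
      (by
        rintro _ ⟨g, hg, rfl⟩ hgo
        have h1 := (hcent g).1 (hcop g hg
          (by rwa [orderOf_injective c' (MulAut.conj l⁻¹).injective] at hgo))
        change l⁻¹ * g * l⁻¹⁻¹ ∈ _
        rwa [inv_inv])
    intro g hg
    refine (hcent g).2 ?_
    have := hsub ⟨g, hg, rfl⟩
    change l⁻¹ * g * l⁻¹⁻¹ ∈ _ at this
    rwa [inv_inv] at this

/-- The normal step: if `L ≤ L₁ ≤ N(L)` then `C_L(Y_{L₁}) ≤ C_L(Y_L)`. -/
theorem inf_centralizer_le_of_normal [Finite G] [Fact p.Prime] {L L₁ : Subgroup G} (hLL : L ≤ L₁)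
    (hn : L₁ ≤ Subgroup.normalizer (L : Set G)) :
    L ⊓ Subgroup.centralizer (largestPReducedOf p L₁ : Set G) ≤
      Subgroup.centralizer (largestPReducedOf p L : Set G) := by
  have hYn : L₁ ≤ Subgroup.normalizer (largestPReducedOf p L : Set G) := fun l hl =>
    Subgroup.mem_normalizer_iff_map_conj_eq.2 (Subgroup.eq_of_le_of_card_ge
      (((largestPReducedOf_isPRed L).map_conj (hn hl)).le_largest)
      (Subgroup.card_map_of_injective (MulAut.conj l).injective).ge)
  suffices key : ∀ V : Subgroup G, IsPRed p L V → L₁ ≤ Subgroup.normalizer (V : Set G) →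
      L ⊓ Subgroup.centralizer (largestPReducedOf p L₁ : Set G) ≤ Subgroup.centralizer (V : Set G) from
    key _ (largestPReducedOf_isPRed L) hYn
  intro V
  induction hcard : Nat.card V using Nat.strong_induction_on generalizing V with
  | _ n ih =>
    intro hV hVn
    by_cases hred : ∀ K : Subgroup G, K ≤ L₁ → L₁ ≤ Subgroup.normalizer (K : Set G) →
        (∀ g ∈ K, (orderOf g).Coprime p → g ∈ Subgroup.centralizer (V : Set G)) →
        K ≤ Subgroup.centralizer (V : Set G)
    · have h : IsPRed p L₁ V := ⟨hV.le.trans hLL, hVn, hV.elemAb, hred⟩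
      exact inf_le_right.trans (Subgroup.centralizer_le h.le_largest)
    push Not at hred
    obtain ⟨K, hK, hKn, hKc, hKne⟩ := hred
    set W := V ⊓ Subgroup.centralizer (K : Set G) with hW
    have hWV : W < V := lt_of_le_of_ne inf_le_left fun he =>
      hKne (Subgroup.le_centralizer_iff.1 (he ▸ inf_le_right))
    have hWn : L₁ ≤ Subgroup.normalizer (W : Set G) := by
      refine (le_inf hVn ?_).trans Subgroup.inf_normalizer_le_normalizer_inf
      intro l hl
      refine Subgroup.mem_normalizer_iff.2 fun c => ?_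
      have hcl : ∀ (l' c' : G), l' ∈ L₁ → c' ∈ Subgroup.centralizer (K : Set G) →
          l' * c' * l'⁻¹ ∈ Subgroup.centralizer (K : Set G) := by
        intro l' c' hl' hc
        rw [Subgroup.mem_centralizer_iff] at hc ⊢
        intro v hv
        have h1 : l'⁻¹ * v * l' ∈ K := by
          have := (Subgroup.mem_normalizer_iff.1 (hKn (inv_mem hl')) v).1 hv
          rwa [inv_inv] at this
        have := congrArg (fun t => l' * t * l'⁻¹) (hc _ h1)
        simpa [mul_assoc] using this
      refine ⟨hcl l c hl, fun h => ?_⟩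
      simpa [mul_assoc] using hcl l⁻¹ _ (inv_mem hl) h
    -- the normal subgroup `K ∩ L` of `L` centralizes `V`
    have hKL : K ⊓ L ≤ Subgroup.centralizer (V : Set G) :=
      hV.2.2.2 _ inf_le_right ((le_inf (hLL.trans hKn) Subgroup.le_normalizer).trans
        Subgroup.inf_normalizer_le_normalizer_inf) fun g hg hgo => hKc g hg.1 hgo
    have hVp := elemAb_isPGroup hV.elemAb
    have hcop : ∀ x ∈ L, (orderOf x).Coprime p → x ∈ Subgroup.centralizer (W : Set G) →
        x ∈ Subgroup.centralizer (V : Set G) := by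
      intro x hxL hxo hxW
      obtain ⟨S⟩ : Nonempty (Sylow p K) := inferInstance
      have hgen : ∀ u : G, u ∈ V → (∀ b ∈ (S : Subgroup K).map K.subtype, Commute u b) →
          u ∈ Subgroup.centralizer (K : Set G) := by
        intro u hu hub
        have hle : (⊤ : Subgroup K) ≤ (Subgroup.centralizer ({u} : Set G)).subgroupOf K := by
          rw [← sylow_sup_pResidual S]
          refine sup_le (fun b hb => ?_) ((Subgroup.closure_le _).2 fun g hg => ?_)
          · exact Subgroup.mem_centralizer_singleton_iff.2 (hub _ ⟨b, hb, rfl⟩).eq.symm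
          · exact Subgroup.mem_centralizer_singleton_iff.2
              (Subgroup.mem_centralizer_iff.1 (hKc g g.2 (by rwa [Subgroup.orderOf_coe])) u hu).symm
        rw [Subgroup.mem_centralizer_iff]
        intro k hk
        exact Subgroup.mem_centralizer_singleton_iff.1 (hle (Subgroup.mem_top (⟨k, hk⟩ : K)))
      refine Subgroup.mem_centralizer_iff.2 fun v hv => ?_
      refine ((commute_of_axb_abelian (B := (S : Subgroup K).map K.subtype) (S.isPGroup'.map _) hxo hVp
        (elemAb_iff.1 hV.elemAb).1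
        ((Subgroup.map_subtype_le _).trans (hK.trans hVn)) (hVn (hLL hxL)) ?_ ?_) v hv).eq.symm
      · intro b hb w hw
        have hbK : b ∈ K := Subgroup.map_subtype_le _ hb
        -- the actions of `x` and `b` commute modulo `K ⊓ L`
        have hd : ⁅b⁻¹, x⁻¹⁆ ∈ K ⊓ L := by
          refine ⟨?_, ?_⟩
          · rw [commutatorElement_def]
            have := (Subgroup.mem_normalizer_iff.1 (hKn (hLL (inv_mem hxL))) b).1 hbK
            simpa [mul_assoc] using K.mul_mem (inv_mem hbK) this
          · rw [commutatorElement_def]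
            have := (Subgroup.mem_normalizer_iff.1 (hn (hK (inv_mem hbK))) x⁻¹).1 (inv_mem hxL)
            simpa [mul_assoc] using L.mul_mem this hxL
        have h1 := Subgroup.mem_centralizer_iff.1 (hKL hd) w hw
        have e : x * b = b * x * ⁅x⁻¹, b⁻¹⁆ := by rw [commutatorElement_def]; group
        have h2 : Commute ⁅x⁻¹, b⁻¹⁆ w := by
          rw [← commutatorElement_inv]
          exact (show Commute ⁅b⁻¹, x⁻¹⁆ w from h1.symm).inv_left
        calc x * (b * w * b⁻¹) * x⁻¹ = (x * b) * w * (x * b)⁻¹ := by group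
          _ = (b * x) * (⁅x⁻¹, b⁻¹⁆ * w * ⁅x⁻¹, b⁻¹⁆⁻¹) * (b * x)⁻¹ := by rw [e]; group
          _ = b * (x * w * x⁻¹) * b⁻¹ := by rw [h2.mul_inv_cancel]; group
      · intro u hu hub
        exact (Subgroup.mem_centralizer_iff.1 hxW u ⟨hu, hgen u hu hub⟩).symm
    have hCW : L ⊓ Subgroup.centralizer (W : Set G) ≤ Subgroup.centralizer (V : Set G) :=
      hV.2.2.2 _ inf_le_left (le_normalizer_inf_centralizer (hLL.trans hWn))
        fun g hg hgo => hcop g hg.1 hgo hg.2
    have hWred : IsPRed p L W := ⟨inf_le_left.trans hV.le, hLL.trans hWn,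
      elemAb_mono hV.elemAb inf_le_left, fun K' hK' hn' hc' =>
        (hV.2.2.2 K' hK' hn' fun g hg hgo => hcop g (hK' hg) hgo (hc' g hg hgo)).trans
          (Subgroup.centralizer_le inf_le_left)⟩
    have hlt : Nat.card W < n := by
      rw [← hcard]
      exact lt_of_le_of_ne (Nat.le_of_dvd Nat.card_pos (Subgroup.card_dvd_of_le hWV.le))
        fun hc => hWV.ne (Subgroup.eq_of_le_of_card_ge hWV.le hc.ge)
    exact le_trans (le_inf inf_le_left (ih _ hlt W rfl hWred hWn)) hCW

theorem largestPReduced_isPReducedNormal [Finite G] [Fact p.Prime] :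
    IsPReducedNormal p (largestPReduced p G) := by
  obtain ⟨_, h1, h2, h3⟩ := largestPReducedOf_isPRed (p := p) (⊤ : Subgroup G)
  rw [largestPReducedOf_top] at h1 h2 h3
  exact isPReducedNormal_iff.2 ⟨Subgroup.normalizer_eq_top_iff.1 (top_le_iff.1 h1), h2,
    fun K hK h => h3 K le_top (le_top.trans_eq (Subgroup.normalizer_eq_top_iff.2 hK).symm) h⟩

/-- `C_L(Y_L) = C_L(Y_G)` for subnormal `L`. -/
theorem inf_centralizer_largest_eq [Finite G] [Fact p.Prime] {L : Subgroup G} (hL : L.IsSubnormal) :
    L ⊓ Subgroup.centralizer (largestPReducedOf p L : Set G) =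
      L ⊓ Subgroup.centralizer (largestPReduced p G : Set G) := by
  refine le_antisymm ?_ (le_inf inf_le_left ?_)
  · obtain ⟨h1, h2⟩ := isPRed_inf_of_isSubnormal hL (largestPReduced_isPReducedNormal (p := p) (G := G))
    exact le_inf inf_le_left
      ((inf_le_inf_left L (Subgroup.centralizer_le h1.le_largest)).trans h2)
  · induction hL with
    | top => rw [top_inf_eq, largestPReducedOf_top]
    | step H K hle _ hN ih =>
      refine le_trans ?_ (inf_centralizer_le_of_normal hle
        ((Subgroup.normal_subgroupOf_iff_le_normalizer hle).1 hN))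
      exact le_inf inf_le_left (le_trans (inf_le_inf_right _ hle) ih)

end Cfsg.Agent.Lib.CharP
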