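import Cfsg.Agent.Lib.CharP.Irreducible
import Cfsg.Agent.Lib.CharP.WeaklyClosed
import Cfsg.Agent.Lib.CharP.FStar

/-!
# `p`-minimal and `p`-irreducible groups from transitive families of subgroups

Owner: helper55.
-/

set_option autoImplicit false
set_option linter.style.haveILetI false

open Cfsg
open scoped commutatorElement

namespace Cfsg.Agent.Lib.CharP

variable {H : Type*} [Group H] [Finite H] {p : ℕ} [hp : Fact p.Prime]

omit [Finite H] hp in
/-- Displacements lying in the centre of `A`, when `A` is generated by `p`-elements and has no central `p`-elements. -/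
theorem le_centralizer_of_central_displacement {A : Subgroup H}
    (hgen : A = Subgroup.closure {a | a ∈ A ∧ ∃ k : ℕ, a ^ p ^ k = 1})
    (hbot : ∀ z ∈ A, A ≤ Subgroup.centralizer ({z} : Set H) → ∀ k : ℕ, z ^ p ^ k = 1 → z = 1) {t : H}
    (ht : ∀ a ∈ A, ⁅a, t⁆ ∈ A ∧ A ≤ Subgroup.centralizer ({⁅a, t⁆} : Set H)) :
    A ≤ Subgroup.centralizer ({t} : Set H) := by
  have hmul : ∀ a b : H, a ∈ A → b ∈ A → ⁅a * b, t⁆ = ⁅b, t⁆ * ⁅a, t⁆ := fun a b ha hb => by
    rw [show ⁅a * b, t⁆ = a * ⁅b, t⁆ * a⁻¹ * ⁅a, t⁆ by simp only [commutatorElement_def]; group,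
      Subgroup.mem_centralizer_singleton_iff.1 ((ht b hb).2 ha), mul_inv_cancel_right]
  have hpow : ∀ a ∈ A, ∀ n : ℕ, ⁅a ^ n, t⁆ = ⁅a, t⁆ ^ n := fun a ha n => by
    induction n with
    | zero => rw [pow_zero, pow_zero, commutatorElement_one_left]
    | succ n ih => rw [pow_succ' a, pow_succ, hmul a (a ^ n) ha (A.pow_mem ha n), ih]
  calc A = Subgroup.closure {a | a ∈ A ∧ ∃ k : ℕ, a ^ p ^ k = 1} := hgen
    _ ≤ _ := by
      rw [Subgroup.closure_le]
      rintro a ⟨ha, k, hk⟩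
      rw [SetLike.mem_coe, Subgroup.mem_centralizer_singleton_iff, ← commutatorElement_eq_one_iff_mul_comm]
      refine hbot _ (ht a ha).1 (ht a ha).2 k ?_
      rw [← hpow a ha, hk, commutatorElement_one_left]

/-- A group that is not `p`-closed and strongly `p`-irreducible is generated by its `p`-elements. -/
theorem closure_pElements_eq_top {E : Type*} [Group E] [Finite E] (h : IsStronglyPIrreducible p E) :
    Subgroup.closure {a : E | ∃ k : ℕ, a ^ p ^ k = 1} = ⊤ := by
  set E₁ := Subgroup.closure {a : E | ∃ k : ℕ, a ^ p ^ k = 1} with hE₁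
  haveI hn : E₁.Normal := by
    rw [← Subgroup.normalizer_eq_top_iff, eq_top_iff]
    intro g _
    rw [mem_normalizer_iff_cj, cj, hE₁, MonoidHom.map_closure]
    congr 1
    ext a
    constructor
    · rintro ⟨b, ⟨k, hk⟩, rfl⟩
      exact ⟨k, by rw [← map_pow, hk, map_one]⟩
    · rintro ⟨k, hk⟩
      exact ⟨(MulAut.conj g).symm a, ⟨k, by rw [← map_pow, hk, map_one]⟩, (MulAut.conj g).apply_symm_apply a⟩
  have hres : pResidual p E ≤ E₁ := by
    refine h.2 E₁ hn fun hle => h.1 (isPClosed_iff.2 fun x k hk => ?_)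
    set Q := Subgroup.zpowers x ⊔ pCore p E with hQ
    have hx : x ∈ E₁ := Subgroup.subset_closure ⟨k, hk⟩
    have hQE : Q ≤ E₁ ⊔ pCore p E := sup_le_sup_right (Subgroup.zpowers_le.2 hx) _
    haveI : Q.Normal := by
      refine ⟨fun q hq g => ?_⟩
      obtain ⟨a, ha, b, hb, rfl⟩ := Subgroup.mem_sup_of_normal_right.1 hq
      have h1 : ⁅a, g⁻¹⁆ ∈ pCore p E :=
        hle (Subgroup.commutator_mem_commutator ((Subgroup.zpowers_le.2 hx) ha) (Subgroup.mem_top _))
      have h3 : g * ⁅a, g⁻¹⁆ * g⁻¹ ∈ pCore p E := (inferInstance : (pCore p E).Normal).conj_mem _ h1 g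
      rw [show g * (a * b) * g⁻¹ = (g * ⁅a, g⁻¹⁆ * g⁻¹) * a * (g * b * g⁻¹) by
        simp only [commutatorElement_def]; group]
      exact mul_mem (mul_mem (Subgroup.mem_sup_right h3) (Subgroup.mem_sup_left ha))
        (Subgroup.mem_sup_right ((inferInstance : (pCore p E).Normal).conj_mem _ hb g))
    exact Cores.le_pCore ((pow_mem_zpowers_isPGroup hk).to_sup_of_normal_right (Cores.pCore_isPGroup p))
      (Subgroup.mem_sup_left (Subgroup.mem_zpowers x))
  obtain ⟨T⟩ := (inferInstance : Nonempty (Sylow p E))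
  rw [eq_top_iff, ← sylow_sup_pResidual T]
  exact sup_le (fun x hx => Subgroup.subset_closure (exists_pow_eq_one_of_mem T.isPGroup' hx)) hres

/-- `p`-minimality passes from `E` to `E O_p(H)`. -/
theorem isMinimalOver_sup_normal {E O : Subgroup H} [O.Normal] (hO : IsPGroup p O)
    (hE : ∀ T : Sylow p E, IsMinimalOver (T : Subgroup E)) : ∀ P : Sylow p ↥(E ⊔ O),
    IsMinimalOver (P : Subgroup ↥(E ⊔ O)) := by
  set K := E ⊔ O with hK
  intro P
  have hEK : E ≤ K := le_sup_left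
  have hOK : O ≤ K := le_sup_right
  have hOP : O.subgroupOf K ≤ (P : Subgroup K) := by
    haveI : (O.subgroupOf K).Normal := Subgroup.Normal.subgroupOf inferInstance K
    exact (hO.comap_subtype (K := K)).le_sylow_of_normal P
  set ι := Subgroup.inclusion hEK
  have hdec : ∀ X : Subgroup K, O.subgroupOf K ≤ X → X = (X.comap ι).map ι ⊔ O.subgroupOf K := by
    intro X hX
    refine le_antisymm (fun x hx => ?_) (sup_le (Subgroup.map_comap_le _ _) hX)
    obtain ⟨e, he, o, ho, heo⟩ := Subgroup.mem_sup_of_normal_right.1 x.2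
    have hx' : x = ι ⟨e, he⟩ * ⟨o, hOK ho⟩ := Subtype.ext heo.symm
    rw [hx'] at hx ⊢
    exact Subgroup.mul_mem_sup ⟨_, (X.mul_mem_cancel_right (hX (show (⟨o, hOK ho⟩ : K) ∈ O.subgroupOf K from ho))).1 hx,
      rfl⟩ ho
  -- a Sylow subgroup of `K` compatible with `E`
  obtain ⟨P₁⟩ := (inferInstance : Nonempty (Sylow p E))
  set P' := (P₁ : Subgroup E).map ι ⊔ O.subgroupOf K with hP'
  haveI hOKn : (O.subgroupOf K).Normal := Subgroup.Normal.subgroupOf inferInstance K
  have hP'p : IsPGroup p P' := (P₁.isPGroup'.map ι).to_sup_of_normal_right hO.comap_subtype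
  obtain ⟨Q, hQ⟩ := hP'p.exists_le_sylow
  obtain ⟨hncl, ME, hME, huniq⟩ := hE P₁
  have hQeq : (Q : Subgroup K) = P' := by
    refine le_antisymm ?_ hQ
    rw [hdec Q (le_sup_right.trans hQ)]
    refine sup_le_sup_right (Subgroup.map_mono (P₁.is_maximal' (Q.isPGroup'.comap_of_injective ι
      (Subgroup.inclusion_injective hEK)) ?_).le) _
    exact fun x hx => hQ (Subgroup.mem_sup_left ⟨x, hx, rfl⟩)
  have hOE : (O.subgroupOf K).comap ι ≤ (P₁ : Subgroup E) :=
    ((hO.comap_subtype).comap_of_injective ι (Subgroup.inclusion_injective hEK)).le_sylow_of_normal P₁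
  set MK := ME.map ι ⊔ O.subgroupOf K with hMK
  have hMKne : MK ≠ ⊤ := by
    intro h
    refine hME.1.1 (eq_top_iff.2 fun e _ => ?_)
    have he : ι e ∈ MK := h ▸ Subgroup.mem_top _
    obtain ⟨_, ⟨m, hm, rfl⟩, o, ho, hmo⟩ := Subgroup.mem_sup_of_normal_right.1 he
    have h1 : ι (m⁻¹ * e) ∈ O.subgroupOf K := by
      rw [map_mul, map_inv, ← hmo, inv_mul_cancel_left]; exact ho
    have := mul_mem hm (hME.2 (hOE h1))
    rwa [mul_inv_cancel_left] at this
  have hle : ∀ X : Subgroup K, (Q : Subgroup K) ≤ X → X ≠ ⊤ → X ≤ MK := by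
    intro X hQX hX
    have hOX : O.subgroupOf K ≤ X := (le_sup_right.trans hQ).trans hQX
    rw [hdec X hOX]
    refine sup_le_sup_right (Subgroup.map_mono (IsMinimalOver.le_of_lt (hE P₁) hME ?_ ?_)) _
    · exact fun x hx => hQX (hQ (Subgroup.mem_sup_left ⟨x, hx, rfl⟩))
    · intro h
      refine hX ?_
      rw [hdec X hOX, h, eq_top_iff]
      intro x _
      obtain ⟨e, he, o, ho, heo⟩ := Subgroup.mem_sup_of_normal_right.1 x.2
      rw [show x = ι ⟨e, he⟩ * ⟨o, hOK ho⟩ from Subtype.ext heo.symm]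
      exact Subgroup.mul_mem_sup ⟨_, Subgroup.mem_top _, rfl⟩ ho
  have hQM : (Q : Subgroup K) ≤ MK := by
    rw [hQeq]; exact sup_le_sup_right (Subgroup.map_mono hME.2) _
  have hQmin : IsMinimalOver (Q : Subgroup K) := by
    refine ⟨?_, MK, ⟨⟨hMKne, fun X hX => ?_⟩, hQM⟩, fun M' hM' => ?_⟩
    · by_contra hne
      have h1 := hle _ Subgroup.le_normalClosure hne
      set N := Subgroup.normalClosure ((Q : Subgroup K) : Set K)
      have h2 : (⊤ : Subgroup E) ≤ N.comap ι := by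
        rw [← hncl]
        haveI : (N.comap ι).Normal := Subgroup.Normal.comap inferInstance ι
        exact Subgroup.normalClosure_le_normal fun x hx =>
          Subgroup.subset_normalClosure (hQ (Subgroup.mem_sup_left ⟨x, hx, rfl⟩))
      have hON : O.subgroupOf K ≤ N := (le_sup_right.trans hQ).trans Subgroup.le_normalClosure
      refine hne (eq_top_iff.2 ?_)
      rw [hdec N hON, top_le_iff.1 h2, ← MonoidHom.range_eq_map]
      intro x _
      obtain ⟨e, he, o, ho, heo⟩ := Subgroup.mem_sup_of_normal_right.1 x.2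
      rw [show x = ι ⟨e, he⟩ * ⟨o, hOK ho⟩ from Subtype.ext heo.symm]
      exact Subgroup.mul_mem_sup ⟨_, rfl⟩ ho
    · by_contra hne
      exact hX.not_ge (hle X (hQM.trans hX.le) hne)
    · rcases (hle M' hM'.2 hM'.1.1).lt_or_eq with h | h
      · exact absurd (hM'.1.2 _ h) hMKne
      · exact h
  obtain ⟨k, hk⟩ := MulAction.exists_smul_eq K Q P
  obtain ⟨h1, M', hM', hu'⟩ := hQmin
  rw [← hk, coe_smul_sylow]
  refine ⟨?_, cj M' k, ⟨((MulAut.conj k).mapSubgroup).isCoatom_iff _ |>.2 hM'.1, cj_mono hM'.2 k⟩,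
    fun M'' hM'' => ?_⟩
  · rw [eq_top_iff, ← h1]
    refine Subgroup.normalClosure_le_normal fun x hx => ?_
    have hm : k * x * k⁻¹ ∈ Subgroup.normalClosure ((cj (Q : Subgroup K) k : Subgroup K) : Set K) :=
      Subgroup.subset_normalClosure ⟨x, hx, rfl⟩
    have h2 := (Subgroup.normalClosure_normal).conj_mem _ hm k⁻¹
    simpa [mul_assoc] using h2
  · have h2 := hu' (cj M'' k⁻¹) ⟨((MulAut.conj k⁻¹).mapSubgroup).isCoatom_iff _ |>.2 hM''.1, by
      have := cj_mono hM''.2 k⁻¹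
      rwa [cj_inv_cj] at this⟩
    rw [← h2, cj_cj, mul_inv_cancel, cj_one]

/-- A transitive family of `p`-minimal subgroups normalized by their join, with join containing `O^p(H)`,
forces `p`-minimality. -/
theorem isMinimalOver_of_family (𝒦 : Set (Subgroup H)) (hne : 𝒦.Nonempty)
    (hinv : ∀ h : H, ∀ E ∈ 𝒦, cj E h ∈ 𝒦) (htr : ∀ E ∈ 𝒦, ∀ K ∈ 𝒦, ∃ h : H, K = cj E h)
    (hres : pResidual p H ≤ sSup 𝒦) (hnorm : ∀ E ∈ 𝒦, sSup 𝒦 ≤ Subgroup.normalizer (E : Set H))
    (hmin : ∀ E ∈ 𝒦, ∀ P : Sylow p E, IsMinimalOver (P : Subgroup E)) (T : Sylow p H) :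
    IsMinimalOver (T : Subgroup H) := by
  classical
  set R := sSup 𝒦 with hR
  have hRn : ∀ h : H, cj R h ≤ R := fun h => by
    rw [hR, sSup_eq_iSup, cj, Subgroup.map_iSup, iSup_le_iff]
    intro E
    rw [Subgroup.map_iSup, iSup_le_iff]
    exact fun hE => le_iSup₂_of_le (cj E h) (hinv h E hE) le_rfl
  haveI : R.Normal := ⟨fun r hr h => hRn h ⟨r, hr, rfl⟩⟩
  have htop : (T : Subgroup H) ⊔ R = ⊤ :=
    top_le_iff.1 ((sylow_sup_pResidual T).ge.trans (sup_le_sup_left hres _))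
  -- the Sylow subgroup `T ⊓ E` of `E`
  have hsyl : ∀ E ∈ 𝒦, ∀ S : Sylow p H, ∃ P : Sylow p E,
      (P : Subgroup E) = ((S : Subgroup H) ⊓ E).subgroupOf E := by
    intro E hE S
    obtain ⟨P₀, hP₀⟩ := exists_sylow_inf S (C := R) Subgroup.le_normalizer_of_normal
    have hER : E ≤ R := le_sSup hE
    haveI : (E.subgroupOf R).Normal := (Subgroup.normal_subgroupOf_iff_le_normalizer hER).2 (hnorm E hE)
    obtain ⟨P₁, hP₁⟩ := exists_sylow_inf P₀ (C := E.subgroupOf R) Subgroup.le_normalizer_of_normal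
    let e := Subgroup.subgroupOfEquivOfLe hER
    refine ⟨P₁.mapSurjective (f := e.toMonoidHom) e.surjective, ?_⟩
    show (P₁ : Subgroup _).map e.toMonoidHom = _
    rw [hP₁, hP₀]
    ext x
    constructor
    · rintro ⟨y, ⟨hy, -⟩, rfl⟩
      exact ⟨hy.1, (e y).2⟩
    · intro hx
      refine ⟨e.symm x, ⟨⟨hx.1, hER hx.2⟩, hx.2⟩, e.apply_symm_apply x⟩
  -- the greatest proper overgroup of `T ⊓ E` in `E`
  have hW : ∀ E ∈ 𝒦, ∀ S : Sylow p H, ∃ W : Subgroup H, W < E ∧ (S : Subgroup H) ⊓ E ≤ W ∧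
      ∀ X : Subgroup H, (S : Subgroup H) ⊓ E ≤ X → X < E → X ≤ W := by
    intro E hE S
    obtain ⟨P, hP⟩ := hsyl E hE S
    obtain ⟨hncl, M₀, hM₀, hu⟩ := hmin E hE P
    refine ⟨M₀.map E.subtype, ?_, ?_, fun X hX hXE => ?_⟩
    · refine lt_of_le_of_ne (Subgroup.map_subtype_le _) fun h => hM₀.1.1 ?_
      refine eq_top_iff.2 fun x _ => ?_
      obtain ⟨y, hy, hyx⟩ := (show (x : H) ∈ M₀.map E.subtype from h.ge x.2)
      exact (Subtype.ext hyx : y = x) ▸ hy
    · intro x hx
      exact ⟨⟨x, hx.2⟩, hM₀.2 (hP.ge (show (⟨x, hx.2⟩ : E) ∈ ((S : Subgroup H) ⊓ E).subgroupOf E from hx)), rfl⟩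
    · have h1 : X.subgroupOf E ≤ M₀ := IsMinimalOver.le_of_lt (hmin E hE P) hM₀
        (hP.le.trans fun x hx => hX hx) fun h => hXE.not_ge (Subgroup.subgroupOf_eq_top.1 h)
      exact fun x hx => ⟨⟨x, hXE.le hx⟩, h1 hx, rfl⟩
  choose W hWlt hWle hWmax using hW
  let W' : Subgroup H → Subgroup H := fun E => if hE : E ∈ 𝒦 then W E hE T else ⊥
  have hW' : ∀ E (hE : E ∈ 𝒦), W' E = W E hE T := fun E hE => dif_pos hE
  have hcjlt : ∀ {X Y : Subgroup H} (g : H), X < Y → cj X g < cj Y g := fun g h =>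
    lt_of_le_of_ne (cj_mono h.le g) fun e => h.ne (Subgroup.map_injective (MulAut.conj g).injective e)
  let N : Subgroup H :=
    { carrier := {h | ∀ E ∈ 𝒦, cj (W' E) h = W' (cj E h)}
      one_mem' := fun E _ => by rw [cj_one, cj_one]
      mul_mem' := fun {a b} ha hb E hE => by
        rw [← cj_cj, hb E hE, ha _ (hinv b E hE), cj_cj]
      inv_mem' := fun {a} ha E hE => by
        have h := ha _ (hinv a⁻¹ E hE)
        rw [cj_cj, mul_inv_cancel, cj_one] at h
        rw [← h, cj_inv_cj] }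
  have hsub : ∀ X : Subgroup H, (T : Subgroup H) ≤ X → X ≠ ⊤ → X ≤ N := by
    intro X hTX hX x hx E hE
    have hall : ∀ F ∈ 𝒦, X ⊓ F < F := by
      intro F hF
      refine lt_of_le_of_ne inf_le_right fun h => hX ?_
      rw [eq_top_iff, ← htop]
      refine sup_le hTX (sSup_le fun K hK => ?_)
      obtain ⟨g, rfl⟩ := htr F hF K hK
      have hg : g ∈ (T : Subgroup H) ⊔ R := by rw [htop]; exact Subgroup.mem_top g
      obtain ⟨t, ht, r, hr, rfl⟩ := Subgroup.mem_sup_of_normal_right.1 hg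
      rw [← cj_cj, mem_normalizer_iff_cj.1 (hnorm F hF hr)]
      exact (cj_mono (inf_eq_right.1 h) t).trans (mem_normalizer_iff_cj.1 (Subgroup.le_normalizer (hTX ht))).le
    have hF := hinv x E hE
    rw [hW' E hE, hW' _ hF]
    -- compare both at the Sylow subgroup `x T x⁻¹`
    have h1 : cj ((T : Subgroup H) ⊓ E) x ≤ W (cj E x) hF T := by
      refine le_trans ?_ (hWmax _ hF T (X ⊓ cj E x) (inf_le_inf_right _ hTX) (hall _ hF))
      exact le_inf ((cj_mono inf_le_left x).trans ((cj_mono hTX x).trans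
        (mem_normalizer_iff_cj.1 (Subgroup.le_normalizer hx)).le)) (cj_mono inf_le_right x)
    have hinf : ((x • T : Sylow p H) : Subgroup H) ⊓ cj E x = cj ((T : Subgroup H) ⊓ E) x := by
      rw [coe_smul_sylow]; exact (Subgroup.map_inf _ _ _ (MulAut.conj x).injective).symm
    have h2 : W (cj E x) hF T ≤ cj (W E hE T) x := by
      have h3 : cj (W (cj E x) hF T) x⁻¹ ≤ W E hE T := by
        refine hWmax E hE T _ ?_ ?_
        · have := cj_mono h1 x⁻¹
          rwa [cj_inv_cj] at this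
        · have := hcjlt x⁻¹ (hWlt _ hF T)
          rwa [cj_inv_cj] at this
      have := cj_mono h3 x
      rwa [cj_cj, mul_inv_cancel, cj_one] at this
    have h4 : cj (W E hE T) x ≤ W (cj E x) hF T := by
      have hWT : W (cj E x) hF T ≤ W (cj E x) hF (x • T) :=
        hWmax _ hF (x • T) _ (by rw [hinf]; exact h1) (hWlt _ hF T)
      have hWT' : W (cj E x) hF (x • T) ≤ W (cj E x) hF T := by
        obtain ⟨P, hP⟩ := hsyl _ hF T
        refine hWmax _ hF T _ ?_ (hWlt _ hF (x • T))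
        exact (hWle _ hF T).trans hWT
      refine le_trans ?_ hWT'
      exact hWmax _ hF (x • T) _ (by rw [hinf]; exact cj_mono (hWle E hE T) x) (hcjlt x (hWlt E hE T))
    exact le_antisymm h4 h2
  have hNne : N ≠ ⊤ := by
    intro h
    obtain ⟨E, hE⟩ := hne
    obtain ⟨P, hP⟩ := hsyl E hE T
    obtain ⟨hncl, -⟩ := hmin E hE P
    have hnor : E ≤ Subgroup.normalizer (W E hE T : Set H) := fun e he => by
      have h1 := (h ▸ Subgroup.mem_top e : e ∈ N) E hE
      rw [mem_normalizer_iff_cj.1 (Subgroup.le_normalizer he), hW' E hE] at h1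
      exact mem_normalizer_iff_cj.2 h1
    haveI := (Subgroup.normal_subgroupOf_iff_le_normalizer (hWlt E hE T).le).2 hnor
    refine (hWlt E hE T).not_ge (Subgroup.subgroupOf_eq_top.1 (top_le_iff.1 ?_))
    rw [← hncl]
    exact Subgroup.normalClosure_le_normal fun x hx => hWle E hE T (hP.le hx)
  have hTN : (T : Subgroup H) ≤ N := by
    rcases eq_or_ne (T : Subgroup H) ⊤ with h | h
    · obtain ⟨E, hE⟩ := hne
      exfalso
      obtain ⟨P, hP⟩ := hsyl E hE T
      obtain ⟨-, M₀, hM₀, -⟩ := hmin E hE P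
      refine hM₀.1.1 (top_le_iff.1 (le_trans ?_ hM₀.2))
      rw [hP, h, top_inf_eq, Subgroup.subgroupOf_self]
    · exact hsub _ le_rfl h
  refine ⟨?_, N, ⟨⟨hNne, fun X hX => ?_⟩, hTN⟩, fun M' hM' => ?_⟩
  · rw [eq_top_iff, ← htop]
    refine sup_le Subgroup.le_normalClosure (sSup_le fun E hE => ?_)
    obtain ⟨P, hP⟩ := hsyl E hE T
    obtain ⟨hncl, -⟩ := hmin E hE P
    intro e he
    have h : (⟨e, he⟩ : E) ∈ (Subgroup.normalClosure ((T : Subgroup H) : Set H)).comap E.subtype := by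
      haveI : ((Subgroup.normalClosure ((T : Subgroup H) : Set H)).comap E.subtype).Normal :=
        Subgroup.Normal.comap inferInstance _
      refine (Subgroup.normalClosure_le_normal (fun x hx => ?_) :
        Subgroup.normalClosure ((P : Subgroup E) : Set E) ≤ _) (hncl ▸ Subgroup.mem_top _)
      exact Subgroup.subset_normalClosure (hP.le hx).1
    exact h
  · by_contra hne'
    exact hX.not_ge (hsub X (hTN.trans hX.le) hne')
  · rcases (hsub M' hM'.2 hM'.1.1).lt_or_eq with h | h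
    · exact absurd (hM'.1.2 _ h) hNne
    · exact h

end Cfsg.Agent.Lib.CharP
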