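import Cfsg.Agent.Lib.CharP.WeaklyClosed
import Cfsg.Agent.Lib.CharP.Irreducible
import Cfsg.Agent.Lib.CharP.LargeChar
import Cfsg.Agent.Lib.CharP.FStar
import Cfsg.Agent.Lib.Coprime.Conjugacy

/-!
# Weak closures and their residuals

Owner: helper55.
-/

set_option autoImplicit false
set_option linter.style.haveILetI false

open Cfsg
open scoped commutatorElement

namespace Cfsg.Agent.Lib.CharP

variable {G : Type*} [Group G] {p : ℕ}

/-- The three subgroups lemma modulo a subgroup `U`. -/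
theorem three_subgroups_le {A B C U N : Subgroup G} (hUN : U ≤ N) (hNU : N ≤ Subgroup.normalizer (U : Set G))
    (hA : A ≤ N) (hB : B ≤ N) (hC : C ≤ N) (h1 : ⁅⁅B, C⁆, A⁆ ≤ U) (h2 : ⁅⁅C, A⁆, B⁆ ≤ U) :
    ⁅⁅A, B⁆, C⁆ ≤ U := by
  haveI := (Subgroup.normal_subgroupOf_iff_le_normalizer hUN).2 hNU
  set f := QuotientGroup.mk' (U.subgroupOf N) with hf
  have key : ∀ X Y Z : Subgroup N, ⁅⁅X.map f, Y.map f⁆, Z.map f⁆ = ⊥ ↔
      ⁅⁅X.map N.subtype, Y.map N.subtype⁆, Z.map N.subtype⁆ ≤ U := by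
    intro X Y Z
    rw [← Subgroup.map_commutator, ← Subgroup.map_commutator, ← Subgroup.map_commutator, ← Subgroup.map_commutator,
      Subgroup.map_eq_bot_iff, hf, QuotientGroup.ker_mk', Subgroup.map_le_iff_le_comap]
    rfl
  have e : ∀ X : Subgroup G, X ≤ N → (X.subgroupOf N).map N.subtype = X := fun X h =>
    Subgroup.map_subgroupOf_eq_of_le h
  have := (key (A.subgroupOf N) (B.subgroupOf N) (C.subgroupOf N)).1
    (Subgroup.commutator_commutator_eq_bot_of_rotate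
      ((key (B.subgroupOf N) (C.subgroupOf N) (A.subgroupOf N)).2 (by rwa [e B hB, e C hC, e A hA]))
      ((key (C.subgroupOf N) (A.subgroupOf N) (B.subgroupOf N)).2 (by rwa [e B hB, e C hC, e A hA])))
  rwa [e A hA, e B hB, e C hC] at this

variable [Finite G] [Fact p.Prime]

omit [Fact p.Prime] in
/-- Elements of order prime to `p` in `K ⊔ U`, `U` a `p`-group normalizing `K`, lie in `K`. -/
theorem mem_of_coprime_mem_sup' {K U : Subgroup G} (hU : IsPGroup p U) (hn : U ≤ Subgroup.normalizer (K : Set G))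
    {g : G} (hg : g ∈ K ⊔ U) (hgo : (orderOf g).Coprime p) : g ∈ K := by
  haveI : (K.subgroupOf (K ⊔ U)).Normal := (Subgroup.normal_subgroupOf_iff_le_normalizer le_sup_left).2
    (sup_le Subgroup.le_normalizer hn)
  exact mem_of_coprime_of_mem_sup (A := K.subgroupOf (K ⊔ U)) (B := U.subgroupOf (K ⊔ U)) (g := ⟨g, hg⟩)
    hU.comap_subtype (by rw [← Subgroup.subgroupOf_sup le_sup_left le_sup_right]; exact hg)
    (by rwa [Subgroup.orderOf_mk])

omit [Fact p.Prime] in
/-- `O^p` of `K ⊔ U` is `O^p(K)`. -/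
theorem map_pResidual_sup {K U : Subgroup G} (hU : IsPGroup p U) (hn : U ≤ Subgroup.normalizer (K : Set G)) :
    (pResidual p ↥(K ⊔ U)).map (K ⊔ U).subtype = (pResidual p K).map K.subtype := by
  rw [map_pResidual_subtype, map_pResidual_subtype]
  congr 1
  ext g
  exact ⟨fun h => ⟨mem_of_coprime_mem_sup' hU hn h.1 h.2, h.2⟩, fun h => ⟨Subgroup.mem_sup_left h.1, h.2⟩⟩

/-- The structure of the weak closure `W` of `Q` in `X`: `W = O^p(W) Q` and `O^p(W) = [O^p(W), Q]`. -/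
theorem weakClosure_structure {Q X : Subgroup G} (hQp : IsPGroup p Q) (hwc : IsWeaklyClosedSubgroup p Q)
    (hQX : Q ≤ X) :
    weakClosure Q X = (pResidual p ↥(weakClosure Q X)).map (weakClosure Q X).subtype ⊔ Q ∧
      ⁅(pResidual p ↥(weakClosure Q X)).map (weakClosure Q X).subtype, Q⁆ =
        (pResidual p ↥(weakClosure Q X)).map (weakClosure Q X).subtype ∧
      X ≤ Subgroup.normalizer (weakClosure Q X : Set G) := by
  have hXW : X ≤ Subgroup.normalizer (weakClosure Q X : Set G) :=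
    Subgroup.le_normalizer.trans (le_normalizer_weakClosure Q X)
  refine ⟨?_, ?_, hXW⟩ <;> set W := weakClosure Q X with hW <;> set R := (pResidual p ↥W).map W.subtype with hR
  all_goals
    have hQW : Q ≤ W := le_weakClosure hQX
    have hRW : R ≤ W := Subgroup.map_subtype_le _
    have hWR : W ≤ Subgroup.normalizer (R : Set G) := le_normalizer_map_pResidual W
    obtain ⟨T, hT⟩ := (hQp.comap_subtype (K := W)).exists_le_sylow
    have hTQ : (T : Subgroup W).map W.subtype ≤ Subgroup.normalizer (Q : Set G) :=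
      wc_le_normalizer hwc (T.isPGroup'.map _) fun q hq => ⟨⟨q, hQW hq⟩, hT hq, rfl⟩
    have hdec : R ⊔ (T : Subgroup W).map W.subtype = W := by
      rw [hR, ← Subgroup.map_sup, sup_comm, sylow_sup_pResidual, ← MonoidHom.range_eq_map, Subgroup.range_subtype]
    set B := ⁅R, Q⁆ with hB
    have hBR : B ≤ R := Coprime.commutator_le_of_le_normalizer (hQW.trans hWR)
    have hWBQ : W ≤ Subgroup.normalizer ((B ⊔ Q : Subgroup G) : Set G) := by
      refine hdec.ge.trans (sup_le ?_ ?_)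
      · have hle : ∀ r ∈ R, cj (B ⊔ Q) r ≤ B ⊔ Q := fun r hr => by
          rw [cj, Subgroup.map_sup, sup_le_iff]
          refine ⟨(mem_normalizer_iff_cj.1 (Coprime.left_le_normalizer_commutator R Q hr)).le.trans le_sup_left, ?_⟩
          rintro _ ⟨q, hq, rfl⟩
          show r * q * r⁻¹ ∈ B ⊔ Q
          rw [show r * q * r⁻¹ = ⁅r, q⁆ * q by simp [commutatorElement_def, mul_assoc]]
          exact Subgroup.mul_mem_sup (Subgroup.commutator_mem_commutator hr hq) hq
        intro r hr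
        refine mem_normalizer_iff_cj.2 (le_antisymm (hle r hr) ?_)
        have := cj_mono (hle r⁻¹ (inv_mem hr)) r
        rwa [cj_cj, mul_inv_cancel, cj_one] at this
      · exact Coprime.le_normalizer_sup
          (le_normalizer_commutator_both ((Subgroup.map_subtype_le _).trans hWR) hTQ) hTQ
    have hWeq : W = B ⊔ Q := by
      refine le_antisymm ?_ (sup_le (hBR.trans hRW) hQW)
      refine iSup_le fun g => ?_
      have hg : cj Q (g : G) ≤ W := le_iSup_of_le g le_rfl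
      obtain ⟨w, hw, he⟩ := wc_conj_in hQp hwc hQW hg
      show cj Q (g : G) ≤ B ⊔ Q
      rw [he]
      exact (cj_mono le_sup_right w).trans (mem_normalizer_iff_cj.1 (hWBQ hw)).le
  · exact le_antisymm (hWeq.le.trans (sup_le_sup_right hBR Q)) (sup_le hRW hQW)
  · refine le_antisymm hBR ?_
    conv_lhs => rw [hR, map_pResidual_subtype]
    rw [Subgroup.closure_le]
    intro g hg
    exact mem_of_coprime_mem_sup' hQp (Coprime.right_le_normalizer_commutator R Q) (hWeq ▸ hg.1) hg.2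

/-- One half of the factorization lemma: `K₁ = [K₁, Q] = [K₁, H₁]`, normal in `H°`, and `[K₁, H₂]` in `O_p`. -/
theorem wc_factor_half {Q Hc H₁ H₂ : Subgroup G} (hQp : IsPGroup p Q) (hwc : IsWeaklyClosedSubgroup p Q)
    (hHc : Hc = weakClosure Q ⊤) (hn₁ : H₁ ≤ Hc ∧ Hc ≤ Subgroup.normalizer (H₁ : Set G))
    (hn₂ : H₂ ≤ Hc ∧ Hc ≤ Subgroup.normalizer (H₂ : Set G)) (hprod : H₁ ⊔ H₂ = Hc)
    (hcomm : ⁅H₁, H₂⁆ ≤ Subgroup.normalizer (Q : Set G)) (K : Subgroup G)
    (hK : K = (pResidual p ↥(weakClosure Q (H₁ ⊔ Q))).map (weakClosure Q (H₁ ⊔ Q)).subtype) :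
    ⁅K, Q⁆ = K ∧ ⁅K, H₁⁆ = K ∧ K ≤ H₁ ∧ Hc ≤ Subgroup.normalizer (K : Set G) ∧ ⁅K, H₂⁆ ≤ pCoreOf p Hc ∧
      H₁ ≤ Subgroup.normalizer ((K ⊔ Q : Subgroup G) : Set G) := by
  obtain ⟨hW, hKQ, hXW⟩ := weakClosure_structure hQp hwc (le_sup_right : Q ≤ H₁ ⊔ Q)
  rw [← hK] at hW hKQ
  set W := weakClosure Q (H₁ ⊔ Q) with hWdef
  have hQc : Q ≤ Hc := hHc ▸ le_weakClosure le_top
  have hWn : W ≤ H₁ ⊔ Q := weakClosure_le _ _
  have hKW : K ≤ W := hK ▸ Subgroup.map_subtype_le _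
  have hQH₁ : Q ≤ Subgroup.normalizer (H₁ : Set G) := hQc.trans hn₁.2
  have hKH₁ : K ≤ H₁ := by
    rw [hK, map_pResidual_subtype, Subgroup.closure_le]
    exact fun g hg => mem_of_coprime_mem_sup' hQp hQH₁ (hWn hg.1) hg.2
  have hK₀ : (pResidual p K).map K.subtype = K := by
    conv_rhs => rw [hK, map_pResidual_subtype]
    rw [map_pResidual_subtype]
    congr 1
    ext g
    refine ⟨fun h => ⟨hKW h.1, h.2⟩, fun h => ⟨?_, h.2⟩⟩
    rw [hK, map_pResidual_subtype]
    exact Subgroup.subset_closure h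
  have hH₁K : H₁ ≤ Subgroup.normalizer (K : Set G) :=
    hK ▸ (le_sup_left.trans hXW).trans (normalizer_le_normalizer_map_char _)
  set D := ⁅H₁, H₂⁆ with hD
  set U := pCoreOf p D with hU
  have hD1 : D ≤ H₁ := Coprime.commutator_le_of_le_normalizer (hn₂.1.trans hn₁.2)
  have hDH : D ≤ Hc := hD1.trans hn₁.1
  have hDn : Hc ≤ Subgroup.normalizer (D : Set G) := le_normalizer_commutator_both hn₁.2 hn₂.2
  have hUn : Hc ≤ Subgroup.normalizer (U : Set G) := hDn.trans (normalizer_le_normalizer_map_char _)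
  have hUp : IsPGroup p U := isPGroup_pCoreOf p D
  -- `[D, Hc] ≤ U`
  let N : Subgroup G :=
    { carrier := {h | h ∈ Hc ∧ ∀ d ∈ D, ⁅d, h⁆ ∈ U}
      one_mem' := ⟨one_mem _, fun d _ => by rw [commutatorElement_one_right]; exact one_mem _⟩
      mul_mem' := fun {a b} ha hb => ⟨mul_mem ha.1 hb.1, fun d hd => by
        rw [show ⁅d, a * b⁆ = ⁅d, a⁆ * (a * ⁅d, b⁆ * a⁻¹) by simp only [commutatorElement_def]; group]
        exact mul_mem (ha.2 d hd) ((Subgroup.mem_normalizer_iff.1 (hUn ha.1) _).1 (hb.2 d hd))⟩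
      inv_mem' := fun {a} ha => ⟨inv_mem ha.1, fun d hd => by
        rw [show ⁅d, a⁻¹⁆ = a⁻¹ * ⁅d, a⁆⁻¹ * a⁻¹⁻¹ by simp only [commutatorElement_def]; group]
        exact (Subgroup.mem_normalizer_iff.1 (hUn (inv_mem ha.1)) _).1 (inv_mem (ha.2 d hd))⟩ }
  have hHcn : ∀ x : G, cj Hc x = Hc := fun x => mem_normalizer_iff_cj.1
    ((le_normalizer_weakClosure Q ⊤).trans_eq (by rw [hHc])
      (Subgroup.le_normalizer (H := (⊤ : Subgroup G)) (Subgroup.mem_top x)))
  have hDQ : ∀ (g : G), cj Q g ≤ Hc → D ≤ Subgroup.normalizer ((cj Q g : Subgroup G) : Set G) := by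
    intro g hg
    obtain ⟨k, hk, he⟩ := wc_conj_in hQp hwc hQc hg
    rw [he, normalizer_cj]
    exact (mem_normalizer_iff_cj.1 (hDn hk)).ge.trans (cj_mono hcomm k)
  have hDU : ⁅D, Hc⁆ ≤ U := by
    have hle : Hc ≤ N := by
      conv_lhs => rw [hHc]
      refine iSup_le fun g => ?_
      intro x hx
      have hgH : cj Q (g : G) ≤ Hc := (cj_mono hQc _).trans (hHcn _).le
      refine ⟨hgH hx, fun d hd => ?_⟩
      have h1 : D ⊓ cj Q (g : G) ≤ U := le_pCoreOf ((hQp.map _).to_le inf_le_right) inf_le_left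
        (le_normalizer_inf Subgroup.le_normalizer (hDQ _ hgH))
      refine h1 ⟨?_, ?_⟩
      · rw [commutatorElement_def, mul_assoc, mul_assoc]
        refine mul_mem hd ?_
        rw [← mul_assoc]
        exact (Subgroup.mem_normalizer_iff.1 (hDn (hgH hx)) _).1 (inv_mem hd)
      · rw [commutatorElement_def]
        exact mul_mem ((Subgroup.mem_normalizer_iff.1 (hDQ _ hgH hd) x).1 hx) ((cj Q (g : G)).inv_mem hx)
    exact Subgroup.commutator_le.2 fun d hd h hh => (hle hh).2 d hd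
  have hUH : U ≤ Hc := (pCoreOf_le p D).trans hDH
  -- `[K, H₁] = K`
  set B := ⁅K, H₁⁆ with hB
  have hBK : B ≤ K := Coprime.commutator_le_of_le_normalizer hH₁K
  have hKQn : Q ≤ Subgroup.normalizer (K : Set G) :=
    hKQ ▸ Coprime.right_le_normalizer_commutator K Q
  set B' := B ⊔ (U ⊓ K) with hB'
  have hB'n : Q ≤ Subgroup.normalizer (B' : Set G) := Coprime.le_normalizer_sup
    (le_normalizer_commutator_both hKQn hQH₁) (le_normalizer_inf (hQc.trans hUn) hKQn)
  have hKn : K ≤ Subgroup.normalizer (B' : Set G) := Coprime.le_normalizer_sup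
    (le_normalizer_commutator_both Subgroup.le_normalizer (hKH₁.trans Subgroup.le_normalizer))
    (le_normalizer_inf ((hKH₁.trans hn₁.1).trans hUn) Subgroup.le_normalizer)
  have hKB : K ≤ B' ⊔ (D ⊓ K) := by
    conv_lhs => rw [← hKQ]
    rw [Subgroup.commutator_le]
    intro k hk q hq
    have hq' : q ∈ ((H₁ ⊔ H₂ : Subgroup G) : Set G) := hprod.ge (hQc hq)
    rw [Subgroup.coe_mul_of_right_le_normalizer_left _ _ (hn₂.1.trans hn₁.2)] at hq'
    obtain ⟨a, ha, b, hb, rfl⟩ := hq'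
    have h1 : ⁅k, a⁆ ∈ B := Subgroup.commutator_mem_commutator hk ha
    have h2 : ⁅k, a * b⁆ ∈ K := hKQ.le (Subgroup.commutator_mem_commutator hk hq)
    have h3 : a * ⁅k, b⁆ * a⁻¹ ∈ D := (Subgroup.mem_normalizer_iff.1 (hDn (hn₁.1 ha)) _).1
      (Subgroup.commutator_mem_commutator (hKH₁ hk) hb)
    rw [show ⁅k, a * b⁆ = ⁅k, a⁆ * (a * ⁅k, b⁆ * a⁻¹) by simp only [commutatorElement_def]; group] at h2 ⊢
    exact Subgroup.mul_mem_sup (Subgroup.mem_sup_left h1) ⟨h3, (K.mul_mem_cancel_left (hBK h1)).1 h2⟩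
  have hKB' : K ≤ B' := by
    conv_lhs => rw [← hKQ]
    refine Subgroup.commutator_le.2 fun k hk q hq => ?_
    have hk' : k ∈ ((B' ⊔ (D ⊓ K) : Subgroup G) : Set G) := hKB hk
    rw [Subgroup.coe_mul_of_right_le_normalizer_left _ _ (inf_le_right.trans hKn)] at hk'
    obtain ⟨b, hb, d, hd, rfl⟩ := hk'
    rw [show ⁅b * d, q⁆ = b * ⁅d, q⁆ * b⁻¹ * ⁅b, q⁆ by simp only [commutatorElement_def]; group]
    refine mul_mem (mul_mem (mul_mem hb (Subgroup.mem_sup_right ⟨?_, ?_⟩)) (inv_mem hb)) ?_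
    · exact hDU (Subgroup.commutator_mem_commutator hd.1 (hQc hq))
    · exact hKQ.le (Subgroup.commutator_mem_commutator hd.2 hq)
    · rw [commutatorElement_def, mul_assoc, mul_assoc, ← mul_assoc q]
      exact mul_mem hb ((Subgroup.mem_normalizer_iff.1 (hB'n hq) _).1 (inv_mem hb))
  have hKB2 : ⁅K, H₁⁆ = K := by
    refine le_antisymm hBK ?_
    conv_lhs => rw [← hK₀, map_pResidual_subtype]
    rw [Subgroup.closure_le]
    exact fun g hg => mem_of_coprime_mem_sup' (hUp.to_le inf_le_left)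
      ((inf_le_right : U ⊓ K ≤ K).trans (Coprime.left_le_normalizer_commutator K H₁)) (hKB' hg.1) hg.2
  -- `[K, H₂] ≤ U`
  have hKH₂ : ⁅K, H₂⁆ ≤ U := by
    conv_lhs => rw [← hKB2]
    refine three_subgroups_le hUH hUn (hKH₁.trans hn₁.1) hn₁.1 hn₂.1 ?_ ?_
    · exact (Subgroup.commutator_mono le_rfl (hKH₁.trans hn₁.1)).trans hDU
    · refine (Subgroup.commutator_mono ?_ hn₁.1).trans hDU
      rw [Subgroup.commutator_comm]
      exact Subgroup.commutator_mono hKH₁ le_rfl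
  have hUK : U ≤ Subgroup.normalizer (K : Set G) := ((pCoreOf_le p D).trans hD1).trans hH₁K
  have hKUn : H₂ ≤ Subgroup.normalizer ((K ⊔ U : Subgroup G) : Set G) := by
    have hle : ∀ h ∈ H₂, cj (K ⊔ U) h ≤ K ⊔ U := fun h hh => by
      rw [cj, Subgroup.map_sup, sup_le_iff]
      refine ⟨?_, (mem_normalizer_iff_cj.1 (hUn (hn₂.1 hh))).le.trans le_sup_right⟩
      rintro _ ⟨k, hk, rfl⟩
      show h * k * h⁻¹ ∈ K ⊔ U
      rw [show h * k * h⁻¹ = ⁅k, h⁆⁻¹ * k by simp [commutatorElement_def, mul_assoc]]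
      exact mul_mem (inv_mem (Subgroup.mem_sup_right (hKH₂ (Subgroup.commutator_mem_commutator hk hh))))
        (Subgroup.mem_sup_left hk)
    intro h hh
    refine mem_normalizer_iff_cj.2 (le_antisymm (hle h hh) ?_)
    have := cj_mono (hle h⁻¹ (inv_mem hh)) h
    rwa [cj_cj, mul_inv_cancel, cj_one] at this
  have hH₂K : H₂ ≤ Subgroup.normalizer (K : Set G) := by
    have := hKUn.trans (normalizer_le_normalizer_map_char (pResidual p ↥(K ⊔ U)))
    rwa [map_pResidual_sup hUp hUK, hK₀] at this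
  refine ⟨hKQ, hKB2, hKH₁, hprod ▸ sup_le hH₁K hH₂K, hKH₂.trans (le_pCoreOf hUp hUH hUn), ?_⟩
  rw [← hW]
  exact le_sup_left.trans hXW

end Cfsg.Agent.Lib.CharP
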